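import Groth.Agent.AbSch.K452.NSplit
import Groth.Agent.S10138
import Groth.Agent.S10505
import Groth.Agent.S10542
import Groth.Agent.S10623
import Groth.Agent.AlgSp.K634.FSLift
import Groth.Agent.AlgSp.K601.FpDesc

/-!
# Extensions of commutative group schemes as algebraic spaces

`0 → N → E → H → 0` an exact sequence of abelian sheaves on the big fppf site of `S`, `N` and `H` sheaves of points.
* `proj q : E ⟶ h_H` on the underlying sheaves of sets; `isRep_proj`, `isPullback_proj`: it is `N ×_S U ⟶ U` over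
  `U ⟶ H` lifting to `E`;
* `isAlgSpace`: `E` is an algebraic space;
* `prop_proj`: `proj q` has every property, fpqc local on the base, which `N ×_S U ⟶ U` has;
* `locP_smooth`, `isFormallySmoothMor`, `exists_lift`: lifting of sections along nilpotent thickenings of affine schemes,
  for `N` smooth.
-/

set_option autoImplicit false
universe u
open CategoryTheory CategoryTheory.Limits MonoidalCategory CartesianMonoidalCategory AlgebraicGeometry
open CGrpSh Opposite

namespace K452.TorsKit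

open K594.Elem K594.Cover AlgSp K452.TorsRep

variable {S : Scheme.{u}}

section toYon

variable (H : Over S) [GrpObj H] [IsCommMonObj H]

/-- `pts H` and `h_H` -/
noncomputable def toYon : sets.obj (pts Scheme.fppfPrecoverage H) ⟶ (yon S).obj H :=
  ⟨{ app := fun T => TypeCat.ofHom (fun (x : (pts Scheme.fppfPrecoverage H).obj.obj T) =>
        (ULift.up x.down.toMul : ((yon S).obj H).obj.obj T))
     naturality := fun _ _ _ => rfl }⟩

theorem toYon_app {X : Over S} (x : X ⟶ H) : (toYon H).hom.app (op X) (up x) = (⟨x⟩ : ((yon S).obj H).obj.obj (op X)) :=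
  rfl

end toYon

variable {N H : Over S} [GrpObj N] [IsCommMonObj N] [GrpObj H] [IsCommMonObj H]
variable {E : BigSite.Ab Scheme.fppfPrecoverage S} (i : pts Scheme.fppfPrecoverage N ⟶ E)
  (q : E ⟶ pts Scheme.fppfPrecoverage H) (w : i ≫ q = 0)

/-- the projection on the underlying sheaves of sets -/
noncomputable def proj : sets.obj E ⟶ (yon S).obj H := sets.map q ≫ toYon H

omit [GrpObj N] [IsCommMonObj N] in
theorem proj_app_iff {X : Over S} (x : E.obj.obj (op X)) (t : X ⟶ H) :
    (proj q).hom.app (op X) x = (⟨t⟩ : ((yon S).obj H).obj.obj (op X)) ↔ q.hom.app (op X) x = up t := by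
  obtain ⟨y, hy⟩ := NSplit.exists_up (q.hom.app (op X) x)
  have h1 : (proj q).hom.app (op X) x = (⟨y⟩ : ((yon S).obj H).obj.obj (op X)) :=
    congrArg (fun z => (toYon H).hom.app (op X) z) hy
  rw [h1, hy]
  constructor
  · intro h
    have h2 : y = t := congrArg ULift.down h
    rw [h2]
  · intro h
    rw [up_inj h]

variable (hex : (ShortComplex.mk i q w).ShortExact)

/-- the universal section over `N ×_S U` -/
noncomputable def univ {U : Over S} (g : E.obj.obj (op U)) : E.obj.obj (op (N ⊗ U)) :=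
  i.hom.app (op (N ⊗ U)) (up (fst N U)) + E.obj.map (snd N U).op g

include hex in
theorem isRep_proj {U : Over S} (t : U ⟶ H) (g : E.obj.obj (op U)) (hg : q.hom.app (op U) g = up t) :
    IsRep (proj q) (U := U) (⟨t⟩ : ((yon S).obj H).obj.obj (op U)) (V := N ⊗ U) (snd N U) (univ i g) := by
  have h := locRep i q w hex t g hg
  refine ⟨?_, fun {X} a b h1 h2 => h.inj a b h1 h2, fun {X} t' x hx => ?_⟩
  · exact (proj_app_iff q _ _).mpr h.w
  · exact h.lift t' x ((proj_app_iff q _ _).mp hx)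

theorem secEquiv_symm_mk {U H : Over S} (t : U ⟶ H) :
    secEquiv.symm (⟨t⟩ : ((yon S).obj H).obj.obj (op U)) = (yon S).map t := by
  apply secEquiv.injective
  rw [Equiv.apply_symm_apply]
  change (⟨t⟩ : ((yon S).obj H).obj.obj (op U)) = ⟨𝟙 U ≫ t⟩
  rw [Category.id_comp]

include hex in
theorem isPullback_proj {U : Over S} (t : U ⟶ H) (g : E.obj.obj (op U)) (hg : q.hom.app (op U) g = up t) :
    IsPullback (secEquiv.symm (univ i g) : (yon S).obj (N ⊗ U) ⟶ sets.obj E) ((yon S).map (snd N U)) (proj q)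
      ((yon S).map t) := by
  have h := (isRep_iff_isPullback (proj q) (⟨t⟩ : ((yon S).obj H).obj.obj (op U)) (snd N U) (univ i g)).mpr
    (isRep_proj i q w hex t g hg)
  rwa [secEquiv_symm_mk] at h

omit [GrpObj N] [IsCommMonObj N] [GrpObj H] [IsCommMonObj H] in
/-- An fppf covering family of a scheme is an fppf covering of algebraic spaces. -/
theorem isFppfCover {T : Over S} {J : Type u} {U : J → Over S} {r : ∀ j, U j ⟶ T} (hr : Fam r) :
    IsFppfCover (fun j => (yon S).obj (U j)) (fun j => (yon S).map (r j)) := by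
  refine ⟨fun j => ⟨?_, ?_⟩, fun x => ?_⟩
  · exact K597.locP_of_repWith K597.etLoc_flat.precomp ((repWith_yon_map_iff _ _).2 (hr.flat j))
  · exact K597.locP_of_repWith K597.etLoc_lfp.precomp ((repWith_yon_map_iff _ _).2 (hr.lfp j))
  · obtain ⟨t, rfl⟩ := (Points.schemeEquiv T).surjective x
    obtain ⟨j, v, hv⟩ := hr.surj t
    refine ⟨j, Points.ofScheme (U j) v, ?_⟩
    rw [K609.Points.map_yon_map_ofScheme, hv]
    rfl

omit [GrpObj N] [IsCommMonObj N] in
/-- local liftings of the identity of `H` -/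
theorem exists_sections [Epi q] : ∃ (J : Type u) (U : J → Over S) (r : ∀ j, U j ⟶ H)
    (g : ∀ j, E.obj.obj (op (U j))), Fam r ∧ ∀ j, q.hom.app (op (U j)) (g j) = up (r j) := by
  obtain ⟨J, U, r, hr, hg⟩ := exists_fam q (𝟙 H)
  choose g hg using hg
  exact ⟨J, U, r, g, hr, fun j => by rw [hg, Category.comp_id]⟩

include hex in
/-- An extension of group schemes is an algebraic space. -/
theorem isAlgSpace : IsAlgSpace (sets.obj E) := by
  have he : Epi q := hex.epi_g
  obtain ⟨J, U, r, g, hr, hg⟩ := exists_sections q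
  refine Groth.Agent.S10138.result S ⟨(yon S).obj H, IsAlgSpace.yon_obj H⟩
    (fun j => ⟨(yon S).obj (U j), IsAlgSpace.yon_obj (U j)⟩) (fun j => (yon S).map (r j)) (isFppfCover hr)
    (sets.obj E) (proj q) (fun j P fst' snd' h => ?_)
  exact (IsAlgSpace.yon_obj (N ⊗ U j)).of_iso
    ((isPullback_proj i q w hex (r j) (g j) (hg j)).isoIsPullback _ _ h)

include hex in
/-- `E → H` has the properties of `N → S` which are fpqc local on the base. -/
theorem prop_proj {P : MorphismProperty (Sp S)} (hP : IsLocalOnBase (IsFpqcCover (S := S)) P)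
    (hN : ∀ U : Over S, P ((yon S).map (snd N U))) : P (proj q) := by
  have he : Epi q := hex.epi_g
  obtain ⟨J, U, r, g, hr, hg⟩ := exists_sections q
  refine (hP (fun j => (yon S).obj (U j)) (fun j => (yon S).map (r j)) (IsAlgSpace.yon_obj H)
    (fun j => IsAlgSpace.yon_obj (U j)) ?_ (proj q) (isAlgSpace i q w hex) (fun j => (yon S).obj (N ⊗ U j))
    (fun j => (yon S).map (snd N (U j))) (fun j => secEquiv.symm (univ i (g j)))
    (fun j => IsAlgSpace.yon_obj (N ⊗ U j)) (fun j => isPullback_proj i q w hex (r j) (g j) (hg j))).mpr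
    (fun j => hN (U j))
  exact Groth.Agent.S10505.result ⟨(yon S).obj H, IsAlgSpace.yon_obj H⟩
    (fun j => ⟨(yon S).obj (U j), IsAlgSpace.yon_obj (U j)⟩) (fun j => ⟨(yon S).map (r j)⟩) (isFppfCover hr)

include hex in
theorem locP_smooth [Smooth N.hom] : LocP @Smooth (proj q) := by
  refine prop_proj i q w hex (Groth.Agent.S10542.result S) fun U => ?_
  exact K601.FpDesc.locP_yon K597.etLoc_smooth (inferInstanceAs (Smooth (pullback.snd N.hom U.hom)))

include hex in
theorem isFormallySmoothMor [Smooth N.hom] : IsFormallySmoothMor (proj q) := by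
  refine (Groth.Agent.S10623.result (X := ⟨sets.obj E, isAlgSpace i q w hex⟩)
    (Y := ⟨(yon S).obj H, IsAlgSpace.yon_obj H⟩) ⟨proj q⟩).1.mpr ?_
  intro U V a b h ha hb hab
  have := locP_smooth i q w hex a b h ha hb hab
  exact Groth.Agent.Flat2H.FSSmoothHom.isFormallySmoothHom_of_smooth h.left

section lift

omit [GrpObj N] [IsCommMonObj N] in
/-- Lifting of sections along square-zero thickenings. -/
theorem exists_lift_sq (hfs : IsFormallySmoothMor (proj q)) {B C : Type u} [CommRing B] [CommRing C] (φ : B →+* C)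
    (hφ : Function.Surjective φ) (hn : RingHom.ker φ ^ 2 = ⊥) {str : Spec (CommRingCat.of B) ⟶ S}
    {str' : Spec (CommRingCat.of C) ⟶ S} (j : Over.mk str' ⟶ Over.mk str)
    (hj : j.left = Spec.map (CommRingCat.ofHom φ)) (t : Over.mk str ⟶ H) (g₀ : E.obj.obj (op (Over.mk str')))
    (h₀ : q.hom.app (op (Over.mk str')) g₀ = up (j ≫ t)) :
    ∃ g : E.obj.obj (op (Over.mk str)), q.hom.app (op (Over.mk str)) g = up t ∧ E.obj.map j.op g = g₀ := by
  have hl := K634.FSLift.smooth_lft_of_spec hfs (CommRingCat.ofHom φ) hφ hn j hj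
  let y₀ : (sets.obj E).obj.obj (op (Over.mk str')) := g₀
  have hw : secEquiv.symm y₀ ≫ proj q = (yon S).map j ≫ (yon S).map t := by
    apply K594.Elem.hom_ext
    rintro X ⟨a⟩
    change (proj q).hom.app (op X) ((secEquiv.symm y₀).hom.app (op X) ⟨a⟩) = ⟨(a ≫ j) ≫ t⟩
    rw [yonEquiv_symm_apply]
    refine (proj_app_iff q _ _).mpr ?_
    refine (NSplit.app_map q a g₀).trans ?_
    rw [h₀, Category.assoc]
    rfl
  obtain ⟨l, h1, h2⟩ := hl (secEquiv.symm y₀) ((yon S).map t) hw
  refine ⟨secEquiv l, (proj_app_iff q _ _).mp ?_, ?_⟩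
  · have h3 := congrArg (fun z => z.hom.app (op (Over.mk str)) ⟨𝟙 _⟩) h2
    change (proj q).hom.app _ (l.hom.app (op (Over.mk str)) ⟨𝟙 _⟩) = ⟨𝟙 _ ≫ t⟩ at h3
    rw [Category.id_comp] at h3
    exact h3
  · have h3 := congrArg (fun z => z.hom.app (op (Over.mk str')) ⟨𝟙 _⟩) h1
    change l.hom.app (op (Over.mk str')) ⟨𝟙 _ ≫ j⟩ = (secEquiv.symm y₀).hom.app (op (Over.mk str')) ⟨𝟙 _⟩ at h3
    rw [yonEquiv_symm_apply, Category.id_comp, map_id_apply, yonEquiv_apply] at h3
    exact h3

omit [GrpObj N] [IsCommMonObj N] in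
theorem exists_lift_pow (hfs : IsFormallySmoothMor (proj q)) (n : ℕ) :
    ∀ {B C : Type u} [CommRing B] [CommRing C] (φ : B →+* C) (_ : Function.Surjective φ)
    (_ : RingHom.ker φ ^ (n + 1) = ⊥) {str : Spec (CommRingCat.of B) ⟶ S}
    {str' : Spec (CommRingCat.of C) ⟶ S} (j : Over.mk str' ⟶ Over.mk str)
    (_ : j.left = Spec.map (CommRingCat.ofHom φ)) (t : Over.mk str ⟶ H) (g₀ : E.obj.obj (op (Over.mk str')))
    (_ : q.hom.app (op (Over.mk str')) g₀ = up (j ≫ t)),
    ∃ g : E.obj.obj (op (Over.mk str)), q.hom.app (op (Over.mk str)) g = up t ∧ E.obj.map j.op g = g₀ := by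
  induction n with
  | zero =>
    intro B C _ _ φ hφ hK str str' j hj t g₀ h₀
    refine exists_lift_sq q hfs φ hφ ?_ j hj t g₀ h₀
    rw [zero_add, pow_one] at hK
    rw [hK, pow_two, Ideal.mul_bot]
  | succ n ih =>
    intro B C _ _ φ hφ hK str str' j hj t g₀ h₀
    let K := RingHom.ker φ
    let B₁ := B ⧸ K ^ (n + 1)
    let π₁ : B →+* B₁ := Ideal.Quotient.mk (K ^ (n + 1))
    have hπ₁ : Function.Surjective π₁ := Ideal.Quotient.mk_surjective
    have hle : K ^ (n + 1) ≤ K := Ideal.pow_le_self (Nat.succ_ne_zero n)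
    let π₂ : B₁ →+* C := Ideal.Quotient.lift (K ^ (n + 1)) φ (fun a ha => hle ha)
    have hc : π₂.comp π₁ = φ := by
      ext x; rfl
    have hπ₂ : Function.Surjective π₂ := by
      intro y
      obtain ⟨x, rfl⟩ := hφ y
      exact ⟨π₁ x, rfl⟩
    have hker2 : RingHom.ker π₂ = K.map (Ideal.Quotient.mk (K ^ (n + 1))) := by
      ext x
      obtain ⟨x, rfl⟩ := Ideal.Quotient.mk_surjective x
      rw [RingHom.mem_ker, Ideal.mem_map_iff_of_surjective _ Ideal.Quotient.mk_surjective]
      constructor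
      · intro h
        exact ⟨x, h, rfl⟩
      · rintro ⟨y, hy, hxy⟩
        rw [← hxy]
        exact hy
    have hK2 : (RingHom.ker π₂) ^ (n + 1) = ⊥ := by
      rw [hker2, ← Ideal.map_pow, Ideal.map_quotient_self]
    have hker1 : RingHom.ker π₁ = K ^ (n + 1) := Ideal.mk_ker
    have hK1 : (RingHom.ker π₁) ^ 2 = ⊥ := by
      rw [hker1, ← pow_mul, eq_bot_iff, ← hK]
      exact Ideal.pow_le_pow_right (by omega)
    let j₁ : Over.mk (Spec.map (CommRingCat.ofHom π₁) ≫ str) ⟶ Over.mk str := Over.homMk _ rfl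
    have hw : str' = Spec.map (CommRingCat.ofHom π₂) ≫ Spec.map (CommRingCat.ofHom π₁) ≫ str := by
      have h1 : j.left ≫ str = str' := Over.w j
      rw [← h1, hj, ← Category.assoc, ← Spec.map_comp, ← CommRingCat.ofHom_comp, hc]
    let j₂ : Over.mk str' ⟶ Over.mk (Spec.map (CommRingCat.ofHom π₁) ≫ str) :=
      Over.homMk (Spec.map (CommRingCat.ofHom π₂)) hw.symm
    have hj12 : j₂ ≫ j₁ = j := by
      apply Over.OverMorphism.ext
      change Spec.map (CommRingCat.ofHom π₂) ≫ Spec.map (CommRingCat.ofHom π₁) = j.left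
      rw [hj, ← Spec.map_comp, ← CommRingCat.ofHom_comp, hc]
    obtain ⟨g₁, h1, h2⟩ := ih π₂ hπ₂ hK2 j₂ rfl (j₁ ≫ t) g₀ (by rw [h₀, ← Category.assoc, hj12])
    obtain ⟨g, h3, h4⟩ := exists_lift_sq q hfs π₁ hπ₁ hK1 j₁ rfl t g₁ h1
    refine ⟨g, h3, ?_⟩
    rw [← hj12, NSplit.map_comp_apply, h4, h2]

include hex in
/-- **Lifting of sections** along surjections of rings with nilpotent kernel. -/
theorem exists_lift [Smooth N.hom] {B C : Type u} [CommRing B] [CommRing C] (φ : B →+* C)
    (hφ : Function.Surjective φ) (hn : IsNilpotent (RingHom.ker φ)) {str : Spec (CommRingCat.of B) ⟶ S}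
    {str' : Spec (CommRingCat.of C) ⟶ S} (j : Over.mk str' ⟶ Over.mk str)
    (hj : j.left = Spec.map (CommRingCat.ofHom φ)) (t : Over.mk str ⟶ H) (g₀ : E.obj.obj (op (Over.mk str')))
    (h₀ : q.hom.app (op (Over.mk str')) g₀ = up (j ≫ t)) :
    ∃ g : E.obj.obj (op (Over.mk str)), q.hom.app (op (Over.mk str)) g = up t ∧ E.obj.map j.op g = g₀ := by
  obtain ⟨n, hn⟩ := hn
  exact exists_lift_pow q (isFormallySmoothMor i q w hex) n φ hφ (by rw [pow_succ, hn]; exact Ideal.bot_mul _) j hj
    t g₀ h₀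

end lift

end K452.TorsKit
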