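import Groth.Agent.AbSch.K452.NSplit
import Groth.Agent.AbSch.K453.Slice

/-!
# Restriction of extensions and of splittings to the big site of an object of the base

`V : Over S`, `f = V.hom`.
* `kap`: `(Over.map f).obj (T_V ⊗ W) ≅ T ⊗ (Over.map f).obj W`, with `map_lift_kap`;
* `resI`, `resQ`, `shortExact_res`: the restriction of `0 → pts A → E → pts T → 0` to the big site of `V.left`;
* `isNSplit_res`, `isNSplit_of_res`: `n`-splittings over `(Over.map f).obj W` and `n`-splittings of the restriction over `W`.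
-/

set_option autoImplicit false
universe u
open CategoryTheory CategoryTheory.Limits MonoidalCategory CartesianMonoidalCategory MonObj AlgebraicGeometry
open CGrpSh Opposite

namespace K452.Restr

open K452.NSplit K453.Slice Groth.Agent.Sga3B.DSPts
open K452.TorsRep hiding map_up up_inj

section Kap

variable {S S' : Scheme.{u}} (f : S' ⟶ S)

/-- An object over `(Over.map f).obj W` as an object over `S'`. -/
noncomputable abbrev down {W : Over S'} {X : Over S} (p : X ⟶ (Over.map f).obj W) : Over S' := Over.mk (p.left ≫ W.hom)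

theorem down_w {W : Over S'} {X : Over S} (p : X ⟶ (Over.map f).obj W) : (p.left ≫ W.hom) ≫ f = X.hom := by
  rw [Category.assoc]
  exact Over.w p

/-- the canonical isomorphism -/
noncomputable def downIso {W : Over S'} {X : Over S} (p : X ⟶ (Over.map f).obj W) :
    X ≅ (Over.map f).obj (down f p) :=
  Over.isoMk (Iso.refl _) (by
    change 𝟙 _ ≫ (p.left ≫ W.hom) ≫ f = X.hom
    rw [Category.id_comp, down_w])

/-- the projection of the lowered object -/
noncomputable def downPr {W : Over S'} {X : Over S} (p : X ⟶ (Over.map f).obj W) : down f p ⟶ W :=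
  Over.homMk p.left rfl

theorem downIso_map {W : Over S'} {X : Over S} (p : X ⟶ (Over.map f).obj W) :
    (downIso f p).hom ≫ (Over.map f).map (downPr f p) = p := by
  apply Over.OverMorphism.ext
  change 𝟙 _ ≫ p.left = p.left
  exact Category.id_comp _

variable (T : Over S) [GrpObj T]

/-- the comparison morphism -/
noncomputable def kapHom (W : Over S') : (Over.map f).obj (Red.bc f T ⊗ W) ⟶ T ⊗ (Over.map f).obj W :=
  lift ((bcEquiv f (Red.bc f T ⊗ W) T).symm (fst (Red.bc f T) W)) ((Over.map f).map (snd (Red.bc f T) W))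

theorem map_lift_kapHom {W X : Over S'} (g : X ⟶ Red.bc f T) (t : X ⟶ W) :
    (Over.map f).map (lift g t) ≫ kapHom f T W = lift ((bcEquiv f X T).symm g) ((Over.map f).map t) := by
  rw [kapHom, comp_lift, bcEquiv_symm_naturality, lift_fst, ← Functor.map_comp, lift_snd]

/-- the inverse of the comparison morphism -/
noncomputable def kapInv (W : Over S') : T ⊗ (Over.map f).obj W ⟶ (Over.map f).obj (Red.bc f T ⊗ W) :=
  (downIso f (snd T ((Over.map f).obj W))).hom ≫ (Over.map f).map
    (lift (bcEquiv f _ T ((downIso f (snd T ((Over.map f).obj W))).inv ≫ fst T ((Over.map f).obj W)))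
      (downPr f (snd T ((Over.map f).obj W))))

theorem kapInv_hom (W : Over S') : kapInv f T W ≫ kapHom f T W = 𝟙 _ := by
  rw [kapInv, Category.assoc, map_lift_kapHom, MulEquiv.symm_apply_apply, comp_lift, Iso.hom_inv_id_assoc,
    downIso_map]
  exact lift_fst_snd

theorem kapHom_inv (W : Over S') : kapHom f T W ≫ kapInv f T W = 𝟙 _ := by
  obtain ⟨a, ha⟩ : ∃ a, a = kapHom f T W ≫ kapInv f T W := ⟨_, rfl⟩
  have h1 : a ≫ kapHom f T W = kapHom f T W := by
    rw [ha, Category.assoc, kapInv_hom, Category.comp_id]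
  have h2 : a ≫ (Over.map f).map (snd (Red.bc f T) W) = (Over.map f).map (snd (Red.bc f T) W) := by
    have h3 := congrArg (fun z => z ≫ snd T ((Over.map f).obj W)) h1
    simp only [Category.assoc, kapHom, lift_snd] at h3
    exact h3
  have h4 : a.left ≫ (Red.bc f T ⊗ W).hom = (Red.bc f T ⊗ W).hom := by
    have h5 := congrArg (fun z => z.left ≫ W.hom) h2
    change (a.left ≫ (snd (Red.bc f T) W).left) ≫ W.hom = (snd (Red.bc f T) W).left ≫ W.hom at h5
    rw [Category.assoc, Over.w] at h5
    exact h5
  let b : Red.bc f T ⊗ W ⟶ Red.bc f T ⊗ W := Over.homMk a.left h4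
  have hb : (Over.map f).map b = a := Over.OverMorphism.ext rfl
  have h6 : b = 𝟙 _ := by
    have h7 : b = lift (b ≫ fst _ _) (b ≫ snd _ _) := (lift_comp_fst_snd b).symm
    have h8 : (𝟙 (Red.bc f T ⊗ W)) = lift (fst _ _) (snd _ _) := lift_fst_snd.symm
    rw [← hb, h7, map_lift_kapHom] at h1
    rw [h7, h8]
    have h9 := congrArg (fun z => z ≫ fst T ((Over.map f).obj W)) h1
    have h10 := congrArg (fun z => z ≫ snd T ((Over.map f).obj W)) h1
    simp only [kapHom, lift_fst, lift_snd] at h9 h10
    congr 1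
    · exact (bcEquiv f _ T).symm.injective h9
    · exact Over.OverMorphism.ext (congrArg (fun z => z.left) h10)
  rw [← ha, ← hb, h6, CategoryTheory.Functor.map_id]

/-- The comparison isomorphism. -/
noncomputable def kap (W : Over S') : (Over.map f).obj (Red.bc f T ⊗ W) ≅ T ⊗ (Over.map f).obj W :=
  ⟨kapHom f T W, kapInv f T W, kapHom_inv f T W, kapInv_hom f T W⟩

theorem map_lift_kap {W X : Over S'} (g : X ⟶ Red.bc f T) (t : X ⟶ W) :
    (Over.map f).map (lift g t) ≫ (kap f T W).hom = lift ((bcEquiv f X T).symm g) ((Over.map f).map t) :=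
  map_lift_kapHom f T g t

theorem kap_hom_fst (W : Over S') : (kap f T W).hom ≫ fst T ((Over.map f).obj W) =
    (bcEquiv f (Red.bc f T ⊗ W) T).symm (fst (Red.bc f T) W) := lift_fst _ _

/-- the inverse on points -/
theorem lift_kap_inv {W : Over S'} {X : Over S} (g : X ⟶ T) (t : X ⟶ (Over.map f).obj W) :
    lift g t ≫ (kap f T W).inv = (downIso f t).hom ≫
      (Over.map f).map (lift (bcEquiv f _ T ((downIso f t).inv ≫ g)) (downPr f t)) := by
  rw [Iso.comp_inv_eq, Category.assoc, map_lift_kap, MulEquiv.symm_apply_apply, comp_lift, Iso.hom_inv_id_assoc,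
    downIso_map]

theorem whisker_kap {W W' : Over S'} (a : W' ⟶ W) :
    (Over.map f).map (Red.bc f T ◁ a) ≫ (kap f T W).hom = (kap f T W').hom ≫ (T ◁ (Over.map f).map a) := by
  have h1 : Red.bc f T ◁ a = lift (fst _ _) (snd _ _ ≫ a) := by
    apply CartesianMonoidalCategory.hom_ext <;> simp
  rw [h1, map_lift_kap]
  apply CartesianMonoidalCategory.hom_ext
  · rw [lift_fst, Category.assoc, whiskerLeft_fst, kap_hom_fst]
  · rw [lift_snd, Category.assoc, whiskerLeft_snd, ← Category.assoc, Functor.map_comp]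
    congr 1
    exact (lift_snd _ _).symm

end Kap

section Res

variable {S : Scheme.{u}} (V : Over S)

variable {A T : Over S} [GrpObj A] [IsCommMonObj A] [GrpObj T] [IsCommMonObj T]
variable {E : BigSite.Ab Scheme.fppfPrecoverage S} (i : pts Scheme.fppfPrecoverage A ⟶ E)
  (q : E ⟶ pts Scheme.fppfPrecoverage T)

/-- the restriction of `E` to the big site of `V.left` -/
noncomputable abbrev resE (E : BigSite.Ab Scheme.fppfPrecoverage S) : BigSite.Ab Scheme.fppfPrecoverage V.left :=
  (restr Scheme.fppfPrecoverage V).obj E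

/-- the restriction of `pts A ⟶ E` -/
noncomputable def resI : pts Scheme.fppfPrecoverage (Red.bc V.hom A) ⟶ resE V E :=
  (ptsIso Scheme.fppfPrecoverage V A).inv ≫ (restr Scheme.fppfPrecoverage V).map i

/-- the restriction of `E ⟶ pts T` -/
noncomputable def resQ : resE V E ⟶ pts Scheme.fppfPrecoverage (Red.bc V.hom T) :=
  (restr Scheme.fppfPrecoverage V).map q ≫ (ptsIso Scheme.fppfPrecoverage V T).hom

theorem resI_resQ (w : i ≫ q = 0) : resI V i ≫ resQ V q = 0 := by
  rw [resI, resQ, Category.assoc, ← Functor.map_comp_assoc, w, Functor.map_zero, zero_comp, comp_zero]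

/-- the restricted sequence is exact -/
theorem shortExact_res (w : i ≫ q = 0) (hex : (ShortComplex.mk i q w).ShortExact) :
    (ShortComplex.mk (resI V i) (resQ V q) (resI_resQ V i q w)).ShortExact := by
  refine ShortComplex.shortExact_of_iso (S₁ := (ShortComplex.mk i q w).map (restr Scheme.fppfPrecoverage V))
      (S₂ := ShortComplex.mk (resI V i) (resQ V q) (resI_resQ V i q w))
      (ShortComplex.isoMk (ptsIso Scheme.fppfPrecoverage V A) (Iso.refl _) (ptsIso Scheme.fppfPrecoverage V T) ?_ ?_)
      (shortExact_restr Scheme.fppfPrecoverage V hex)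
  · change (ptsIso Scheme.fppfPrecoverage V A).hom ≫ (ptsIso Scheme.fppfPrecoverage V A).inv ≫
      (restr Scheme.fppfPrecoverage V).map i = (restr Scheme.fppfPrecoverage V).map i ≫ 𝟙 _
    rw [Iso.hom_inv_id_assoc, Category.comp_id]
  · change 𝟙 _ ≫ (restr Scheme.fppfPrecoverage V).map q ≫ (ptsIso Scheme.fppfPrecoverage V T).hom =
      (restr Scheme.fppfPrecoverage V).map q ≫ (ptsIso Scheme.fppfPrecoverage V T).hom
    rw [Category.id_comp]

omit [GrpObj A] [IsCommMonObj A] in
theorem resQ_app {X : Over V.left} (x : E.obj.obj (op ((Over.map V.hom).obj X))) (y : (Over.map V.hom).obj X ⟶ T)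
    (h : q.hom.app (op ((Over.map V.hom).obj X)) x = up y) :
    (resQ V q).hom.app (op X) x = up (bcEquiv V.hom X T y) :=
  congrArg (fun z => (ptsIso Scheme.fppfPrecoverage V T).hom.hom.app (op X) z) h

omit [GrpObj A] [IsCommMonObj A] in
theorem resQ_app' {X : Over V.left} (x : E.obj.obj (op ((Over.map V.hom).obj X))) (y : X ⟶ Red.bc V.hom T)
    (h : (resQ V q).hom.app (op X) x = up y) :
    q.hom.app (op ((Over.map V.hom).obj X)) x = up ((bcEquiv V.hom X T).symm y) := by
  obtain ⟨z, hz⟩ := NSplit.exists_up (q.hom.app (op ((Over.map V.hom).obj X)) x)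
  have h1 := (resQ_app V q x z hz).symm.trans h
  rw [hz, ← NSplit.up_inj h1, MulEquiv.symm_apply_apply]

theorem comp_zpow {Y X X' : Over S} [GrpObj Y] (a : X' ⟶ X) (x : X ⟶ Y) (n : ℤ) : a ≫ (x ^ n) = (a ≫ x) ^ n := by
  let φ : (X ⟶ Y) →* (X' ⟶ Y) :=
    { toFun := fun z => a ≫ z
      map_one' := MonObj.comp_one _
      map_mul' := fun _ _ => MonObj.comp_mul _ _ _ }
  exact map_zpow φ x n

theorem up_zsmul {Y X : Over S} [GrpObj Y] [IsCommMonObj Y] (x : X ⟶ Y) (n : ℤ) :
    n • up x = up (x ^ n) := by
  let φ : Additive (X ⟶ Y) →+ (pts Scheme.fppfPrecoverage Y).obj.obj (op X) :=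
    { toFun := fun z => up z.toMul
      map_zero' := rfl
      map_add' := fun _ _ => rfl }
  exact (map_zsmul φ n (Additive.ofMul x)).symm

variable {q} {n : ℤ}

omit [GrpObj A] [IsCommMonObj A] in
/-- restriction of splittings to the big site of `V.left` -/
theorem isNSplit_res {W : Over V.left} {e : E.obj.obj (op (T ⊗ (Over.map V.hom).obj W))}
    (h : IsNSplit q n ((Over.map V.hom).obj W) e) :
    IsNSplit (resQ V q) n W (E.obj.map (kap V.hom T W).hom.op e : E.obj.obj (op ((Over.map V.hom).obj _))) where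
  proj := by
    rw [resQ_app V q _ ((kap V.hom T W).hom ≫ (fst T _) ^ n) (by
      rw [NSplit.app_map, h.proj, up_zsmul, NSplit.map_up]), up_zsmul]
    congr 1
    rw [comp_zpow, kap_hom_fst, map_zpow, MulEquiv.apply_symm_apply]
  add X g₁ g₂ t := by
    have key : ∀ g : X ⟶ Red.bc V.hom T, (resE V E).obj.map (lift g t).op
        (E.obj.map (kap V.hom T W).hom.op e : E.obj.obj (op ((Over.map V.hom).obj _))) =
        E.obj.map (lift ((bcEquiv V.hom X T).symm g) ((Over.map V.hom).map t)).op e := by
      intro g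
      rw [← map_lift_kap, NSplit.map_comp_apply]
      rfl
    rw [key, key, key, map_mul]
    exact h.add _ _ _ _

omit [GrpObj A] [IsCommMonObj A] in
/-- splittings from splittings on the big site of `V.left` -/
theorem isNSplit_of_res {W : Over V.left} {e : E.obj.obj (op ((Over.map V.hom).obj (Red.bc V.hom T ⊗ W)))}
    (h : IsNSplit (resQ V q) n W e) :
    IsNSplit q n ((Over.map V.hom).obj W) (E.obj.map (kap V.hom T W).inv.op e) where
  proj := by
    have h1 := h.proj
    rw [up_zsmul] at h1
    rw [NSplit.app_map, resQ_app' V q _ _ h1, up_zsmul, NSplit.map_up]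
    congr 1
    rw [map_zpow, comp_zpow]
    congr 1
    rw [Iso.inv_comp_eq, kap_hom_fst]
  add X g₁ g₂ t := by
    have key : ∀ g : X ⟶ T, E.obj.map (lift g t).op (E.obj.map (kap V.hom T W).inv.op e) =
        E.obj.map (downIso V.hom t).hom.op ((resE V E).obj.map (lift (bcEquiv V.hom _ T ((downIso V.hom t).inv ≫ g))
          (downPr V.hom t)).op e) := by
      intro g
      rw [← NSplit.map_comp_apply, lift_kap_inv, NSplit.map_comp_apply]
      rfl
    rw [key, key, key, MonObj.comp_mul, map_mul, h.add]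
    exact map_add (E.obj.map (downIso V.hom t).hom.op).hom _ _

end Res

end K452.Restr
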