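import Groth.Agent.CGrpSh.K731.RepPts
import Groth.Prelude.Def_NonAbH2

/-!
# Short exact sequences of sheaves of points of commutative group schemes

* `exists_ker`, `u_inj`: the kernel on points;
* `isExactSeq`: a short exact sequence of sheaves of points gives `NonAbH1.IsExactSeq`.
-/

set_option autoImplicit false
universe u
open CategoryTheory CategoryTheory.Limits MonoidalCategory CartesianMonoidalCategory MonObj AlgebraicGeometry
open CGrpSh Opposite

namespace K452.ExSeq

variable {K : Precoverage Scheme.{u}} {S : Scheme.{u}} [(QuotSh.J K S).Subcanonical]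
variable {N E H : Over S} [GrpObj N] [IsCommMonObj N] [GrpObj E] [IsCommMonObj E] [GrpObj H] [IsCommMonObj H]

/-- a point as a section -/
def up {T X : Over S} [GrpObj X] [IsCommMonObj X] (x : T ⟶ X) :
    (pts K X).obj.obj (op T) := ULift.up (Additive.ofMul x)

theorem up_inj {X T : Over S} [GrpObj X] [IsCommMonObj X] {x y : T ⟶ X} (h : up (K := K) x = up y) : x = y :=
  congrArg (fun z : (pts K X).obj.obj (op T) => z.down.toMul) h

theorem app_up {X Y : Over S} [GrpObj X] [IsCommMonObj X] [GrpObj Y] [IsCommMonObj Y] (f : X ⟶ Y) [IsMonHom f]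
    {T : Over S} (x : T ⟶ X) : (ptsMap K f).hom.app (op T) (up x) = up (x ≫ f) := rfl

theorem eq_one_of_ptsMap_eq_zero (f : N ⟶ H) [IsMonHom f] (h : ptsMap K f = 0) : f = 1 := by
  have h1 := congrArg (fun z => z.hom.app (op N) (up (K := K) (𝟙 N))) h
  have h2 : up (K := K) (𝟙 N ≫ f) = up 1 := h1
  have h3 := up_inj h2
  rwa [Category.id_comp] at h3

variable (u : N ⟶ E) (v : E ⟶ H) [IsMonHom u] [IsMonHom v] (w : ptsMap K u ≫ ptsMap K v = 0)

include w in
theorem comp_eq_one : u ≫ v = 1 :=
  eq_one_of_ptsMap_eq_zero (K := K) (u ≫ v) (by rw [ptsMap_comp, w])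

theorem u_inj [Mono (ptsMap K u)] {T : Over S} {a b : T ⟶ N} (h : a ≫ u = b ≫ u) : a = b := by
  have h1 : (ptsMap K u).hom.app (op T) (up a) = (ptsMap K u).hom.app (op T) (up b) := by
    rw [app_up, app_up, h]
  exact up_inj (K731.Basic.injective_of_mono (ptsMap K u) _ h1)

variable (hex : (ShortComplex.mk (ptsMap K u) (ptsMap K v) w).ShortExact)

include hex in
theorem exists_ker {T : Over S} (x : T ⟶ E) (h : x ≫ v = 1) : ∃ n : T ⟶ N, n ≫ u = x := by
  have hm : Mono (ptsMap K u) := hex.mono_f
  obtain ⟨n, hn⟩ := K731.Basic.exists_of_exact_of_mono (ShortComplex.mk (ptsMap K u) (ptsMap K v) w) hex.exact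
      (T := op T) (up x) (by
        change (ptsMap K v).hom.app (op T) (up x) = 0
        rw [app_up, h]
        rfl)
  obtain ⟨n⟩ := n
  exact ⟨Additive.toMul n, up_inj (K := K) hn⟩

include hex in
/-- short exact sequences of sheaves of points are exact sequences of group schemes -/
theorem isExactSeq [K.IsStableUnderComposition] [K.IsStableUnderBaseChange] [K.HasPullbacks]
    [K.HasIsos] : NonAbH1.IsExactSeq K u v := by
  have hm : Mono (ptsMap K u) := hex.mono_f
  have he : Epi (ptsMap K v) := hex.epi_g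
  have huv := comp_eq_one u v w
  refine ⟨inferInstance, inferInstance, huv, ?_, ?_⟩
  · have key : ∀ {T : Over S} (t : T ⟶ E ⊗ N), t ≫ (E ◁ u) ≫ μ[E] = (t ≫ fst E N) * (t ≫ snd E N ≫ u) := by
      intro T t
      rw [Hom.mul_def, ← Category.assoc]
      congr 1
      apply CartesianMonoidalCategory.hom_ext <;> simp
    have hk : ∀ s : PullbackCone v v, ((s.fst)⁻¹ * s.snd) ≫ v = 1 := by
      intro s
      rw [MonObj.mul_comp, GrpObj.inv_comp, s.condition, inv_mul_cancel]
    refine ⟨⟨?_⟩, ⟨PullbackCone.IsLimit.mk _ (fun s => ?_) (fun s => ?_) (fun s => ?_) (fun s m h1 h2 => ?_)⟩⟩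
    · have h := key (𝟙 _)
      rw [Category.id_comp, Category.id_comp, Category.id_comp] at h
      rw [h, MonObj.mul_comp, Category.assoc, huv, MonObj.comp_one, _root_.mul_one]
    · exact lift s.fst (exists_ker u v w hex ((s.fst)⁻¹ * s.snd) (hk s)).choose
    · exact lift_fst _ _
    · rw [key, lift_fst, lift_snd_assoc]
      rw [(exists_ker u v w hex ((s.fst)⁻¹ * s.snd) (hk s)).choose_spec, mul_inv_cancel_left]
    · rw [key] at h2
      apply CartesianMonoidalCategory.hom_ext
      · rw [h1, lift_fst]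
      · rw [lift_snd]
        apply u_inj (K := K) u
        rw [(exists_ker u v w hex ((s.fst)⁻¹ * s.snd) (hk s)).choose_spec, ← h2, h1, inv_mul_cancel_left,
          Category.assoc]
  · obtain ⟨P, hP, h⟩ := K731.Basic.exists_cover_of_epi (ptsMap K v) H (up (𝟙 H))
    refine ⟨P, hP, fun Y f hf => ?_⟩
    obtain ⟨a, ha⟩ := h f hf
    obtain ⟨a⟩ := a
    have h1 : Additive.toMul a ≫ v = Over.homMk f ≫ 𝟙 H := up_inj (K := K) ha
    refine ⟨(Additive.toMul a).left, ?_⟩
    have h2 := congrArg (fun z => z.left) h1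
    rw [Category.comp_id] at h2
    exact h2

end K452.ExSeq
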