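import Groth.Agent.AbSch.K452.JointEpi
import Groth.Agent.Sga3.H800.LocRigid
import Groth.Agent.Sga3.H821.AffProper
import Groth.Agent.Sga3.H784.Neutral
import Groth.Agent.Sga3B.TorusAlgClosed
import Groth.Agent.Sga3B.TorusBc

/-!
# Homomorphisms from tori to proper group schemes are trivial, over any base

* `hom_eq_one`: `S` any scheme, `T` an `S`-torus, `A` a group scheme proper over `S`, `f : T ⟶ A` a homomorphism; then
  `f = 1`.
* `eq_one_of_local`: (general tool) rigidity of homomorphisms from a diagonalizable group `D(M)` over a local ring.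
-/

set_option autoImplicit false
universe u
open CategoryTheory MonoidalCategory CartesianMonoidalCategory MonObj GrpObj AlgebraicGeometry Limits

namespace K452.TorusRig

open Groth.Agent Groth.Agent.Sga3.H800.LocRig Groth.Agent.Sga3B

/-- the split torus is a torus. -/
theorem isTorus_DS (S : Scheme.{u}) (r : ℕ) : Red.IsTorus (Red.DS S (Fin r → ℤ)) := by
  refine ⟨S, 𝟙 S, inferInstance, inferInstance, fun V hV => ⟨V, hV.isCompact, by simp⟩, fun s' => ?_⟩
  refine ⟨⊤, trivial, r, ?_⟩
  exact TorusAlgClosed.isSplitTorusWith_bc _ ⟨Iso.refl _⟩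

/-- Algebraically closed field case. -/
theorem hom_eq_one_algClosed {K : Type u} [Field K] [IsAlgClosed K] {T A : Over (Spec (CommRingCat.of K))}
    [GrpObj T] [GrpObj A] (hT : Red.IsTorus T) [IsProper A.hom] (f : T ⟶ A) [IsMonHom f] : f = 1 := by
  have h1 := TorusAlgClosed.isAffineHom_of_isTorus hT
  have h2 := TorusAlgClosed.smooth_of_isTorus hT
  have h3 := Sga3.H784.Neutral.connectedSpace_of_isTorus hT
  have h4 : IsAffine T.left := isAffine_of_isAffineHom T.hom
  exact Sga3.H821.AffProper.hom_eq_one K T A f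

lemma map_one_bc {S S' : Scheme.{u}} (g : S' ⟶ S) {X Y : Over S} [GrpObj Y] :
    (Over.pullback g).map (1 : X ⟶ Y) = (1 : Red.bc g X ⟶ Red.bc g Y) :=
  map_one (Functor.homMonoidHom (Over.pullback g) (X := X) (M := Y))

/-- Field case. -/
theorem hom_eq_one_field {K : Type u} [Field K] {T A : Over (Spec (CommRingCat.of K))} [GrpObj T] [GrpObj A]
    (hT : Red.IsTorus T) [IsProper A.hom] (f : T ⟶ A) [IsMonHom f] : f = 1 := by
  let g : Spec (CommRingCat.of (AlgebraicClosure K)) ⟶ Spec (CommRingCat.of K) :=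
    Spec.map (CommRingCat.ofHom (algebraMap K (AlgebraicClosure K)))
  have hA : IsProper (Red.bc g A).hom := by
    change IsProper (pullback.snd A.hom g)
    infer_instance
  refine JointEpi.over_hom_ext_of_flat_family (I := PUnit) (fun _ => g) (fun s => ⟨PUnit.unit, ?_⟩) (fun _ => ?_)
  · exact g.surjective s
  · rw [map_one_bc]
    exact hom_eq_one_algClosed (TorusBc.isTorus_bc g hT) ((Over.pullback g).map f)

/-- Local ring case. -/
theorem hom_eq_one_local {R : Type u} [CommRing R] [IsLocalRing R] {r : ℕ} {A : Over (Spec (CommRingCat.of R))}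
    [GrpObj A] [IsProper A.hom] (d : Red.DS (Spec (CommRingCat.of R)) (Fin r → ℤ) ⟶ A) [IsMonHom d] : d = 1 := by
  apply Sga3.H800.LocRigid.eq_one
  rw [← overHom_eq_one_iff]
  let _ : Field (R ⧸ IsLocalRing.maximalIdeal R) := Ideal.Quotient.field _
  have hA : IsProper (Red.bc (qMap (IsLocalRing.maximalIdeal R)) A).hom := by
    change IsProper (pullback.snd A.hom _)
    infer_instance
  exact hom_eq_one_field (K := R ⧸ IsLocalRing.maximalIdeal R) (isTorus_DS _ r) _

/-- Homomorphisms from a torus to a proper group scheme are trivial. -/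
theorem hom_eq_one {S : Scheme.{u}} {T A : Over S} [GrpObj T] [GrpObj A] (hT : Red.IsTorus T) [IsProper A.hom]
    (f : T ⟶ A) [IsMonHom f] : f = 1 := by
  obtain ⟨S', p, h1, h2, -, h4⟩ := hT
  refine JointEpi.over_hom_ext_of_local p fun s' => ?_
  rw [map_one_bc]
  obtain ⟨U, hU, r, hr⟩ := h4 s'
  let x : Spec (S'.presheaf.stalk s') ⟶ S' := S'.fromSpecStalk s'
  have hx : Set.range x ⊆ Set.range U.ι := by
    rw [Scheme.Opens.range_ι, Scheme.range_fromSpecStalk]
    intro y hy
    exact (hy : y ⤳ s').mem_open U.2 hU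
  let x' : Spec (S'.presheaf.stalk s') ⟶ U := IsOpenImmersion.lift U.ι x hx
  have hx' : x' ≫ U.ι = x := IsOpenImmersion.lift_fac _ _ _
  have hspl : Red.IsSplitTorusWith (Fin r → ℤ) (Red.bc (x ≫ p) T) := by
    obtain ⟨e⟩ := TorusAlgClosed.isSplitTorusWith_bc x' hr
    refine ⟨BcIso.bcCongrIso (by rw [← hx', Category.assoc]) T ≪≫ BcIso.bcCompIso x' (U.ι ≫ p) T ≪≫ e⟩
  obtain ⟨e⟩ := hspl
  have hA : IsProper (Red.bc (x ≫ p) A).hom := by
    change IsProper (pullback.snd A.hom _)
    infer_instance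
  have hloc : IsLocalRing (S'.presheaf.stalk s') := inferInstance
  let d : Red.DS (Spec (S'.presheaf.stalk s')) (Fin r → ℤ) ⟶ Red.bc (x ≫ p) A :=
    e.inv.hom.hom ≫ (Over.pullback (x ≫ p)).map f
  have hd : IsMonHom e.inv.hom.hom := e.inv.hom.isMonHom_hom
  have hd1 : d = 1 := @hom_eq_one_local _ _ hloc _ _ _ _ d _
  have he : e.hom.hom.hom ≫ e.inv.hom.hom = 𝟙 _ := by
    have := congrArg (fun t => t.hom.hom) e.hom_inv_id
    exact this
  have : (Over.pullback (x ≫ p)).map f = e.hom.hom.hom ≫ d := by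
    rw [← Category.assoc, he, Category.id_comp]
  exact this.trans (by rw [hd1, MonObj.comp_one])

end K452.TorusRig
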