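import Groth.Agent.Sga3.H780.Pointed
import Groth.Agent.AbSch.K448.PointedHom
import Groth.Agent.AbSch.K448.SmoothConn

/-!
# Group schemes with connected fibres have geometrically connected fibres; biadditive maps
-/

set_option autoImplicit false
universe u
open CategoryTheory CategoryTheory.Limits MonoidalCategory CartesianMonoidalCategory MonObj AlgebraicGeometry

namespace K452.ConnFib

open Groth.Agent

/-- The fibre of a group scheme over a point as a group scheme. -/
theorem geometricallyConnected {S : Scheme.{u}} (A : Over S) [GrpObj A] [Smooth A.hom]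
    (hA : ∀ s : S, ConnectedSpace ↥(A.hom.fiber s)) : GeometricallyConnected A.hom := by
  rw [GeometricallyConnected.iff_geometricallyConnected_fiber]
  intro s
  let A' : Over (Spec (CommRingCat.of (S.residueField s))) :=
    (Over.pullback (S.fromSpecResidueField s)).obj A
  let _ : GrpObj A' := Functor.grpObjObj
  have : Smooth A'.hom := inferInstanceAs (Smooth (pullback.snd A.hom _))
  have : ConnectedSpace A'.left := hA s
  have h1 : GeometricallyIntegral A'.hom := Sga3.H780.Pointed.geometricallyIntegral A'
  have h2 : GeometricallyConnected A'.hom := by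
    refine ⟨fun K _ y Z fst snd h => ?_⟩
    have : IrreducibleSpace Z :=
      GeometricallyIrreducible.geometrically_irreducibleSpace (f := A'.hom) y fst snd h
    infer_instance
  exact h2

/-- A biadditive morphism from a product of two smooth proper group schemes with connected fibres to a separated
group scheme is trivial. -/
theorem eq_one_of_biadditive {S : Scheme.{u}} {A B C : Over S} [GrpObj A] [GrpObj B] [GrpObj C]
    [Smooth A.hom] [IsProper A.hom] [GeometricallyConnected A.hom]
    [GeometricallyConnected B.hom] [IsSeparated C.hom] (u : A ⊗ B ⟶ C)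
    (h : ∀ (W : Over S) (a : W ⟶ A), lift a (1 : W ⟶ B) ≫ u = 1)
    (h' : ∀ (W : Over S) (b : W ⟶ B), lift (1 : W ⟶ A) b ≫ u = 1) : u = 1 := by
  have hr : GeometricallyReduced A.hom := K448.SmoothConn.geometricallyReduced A.hom
  refine K448.PointedHom.eq_one_of_section u η[B] η[A] ?_ ?_
  · have e : A ◁ η[B] = lift (fst A (𝟙_ (Over S))) (1 : A ⊗ 𝟙_ (Over S) ⟶ B) := by
      apply CartesianMonoidalCategory.hom_ext
      · rw [whiskerLeft_fst, lift_fst]
      · rw [whiskerLeft_snd, lift_snd, Hom.one_def, toUnit_unique (toUnit _) (snd A (𝟙_ (Over S)))]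
    rw [e, h]
  · have e : η[A] ▷ B = lift (1 : 𝟙_ (Over S) ⊗ B ⟶ A) (snd (𝟙_ (Over S)) B) := by
      apply CartesianMonoidalCategory.hom_ext
      · rw [whiskerRight_fst, lift_fst, Hom.one_def, toUnit_unique (toUnit _) (fst (𝟙_ (Over S)) B)]
      · rw [whiskerRight_snd, lift_snd]
    rw [e, h']

end K452.ConnFib
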