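import Groth.Agent.Unram.K147.LQF
import Groth.Agent.Unram.K147.GeomCount
import Groth.Agent.SGA3x.K6.Const
import Mathlib.AlgebraicGeometry.AlgClosed.Basic
import Mathlib.AlgebraicGeometry.Morphisms.FormallyUnramified

/-!
# Unramified group schemes over an algebraically closed field are constant

* `isOpenImmersion_section`: sections of unramified morphisms are open immersions;
* `exists_const`: an unramified group scheme `H` over an algebraically closed field is the constant group scheme of its
  group of rational points, or of any group isomorphic to it.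
-/

set_option autoImplicit false
universe u v
open CategoryTheory CategoryTheory.Limits MonoidalCategory CartesianMonoidalCategory MonObj AlgebraicGeometry

namespace K452.ConstPt

/-- The diagonal of `f` being an open immersion, a section of `f` is an open immersion. -/
theorem isOpenImmersion_section {X S : Scheme.{u}} (f : X ⟶ S) [LocallyOfFiniteType f] [FormallyUnramified f]
    (s : S ⟶ X) (hs : s ≫ f = 𝟙 S) : IsOpenImmersion s := by
  have h1 : IsOpenImmersion (pullback.diagonal f) := inferInstance
  obtain ⟨l, hl1, hl2⟩ : ∃ l : X ⟶ pullback f f, l ≫ pullback.fst f f = 𝟙 X ∧ l ≫ pullback.snd f f = f ≫ s :=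
    ⟨pullback.lift (𝟙 X) (f ≫ s) (by rw [Category.id_comp, Category.assoc, hs, Category.comp_id]),
      pullback.lift_fst _ _ _, pullback.lift_snd _ _ _⟩
  have h2 : IsPullback s s l (pullback.diagonal f) := by
    refine ⟨⟨?_⟩, ⟨PullbackCone.IsLimit.mk _ (fun c => c.fst ≫ f) (fun c => ?_) (fun c => ?_) (fun c m h3 h4 => ?_)⟩⟩
    · apply pullback.hom_ext
      · rw [Category.assoc, Category.assoc, hl1, pullback.diagonal_fst]
      · rw [Category.assoc, Category.assoc, hl2, pullback.diagonal_snd, reassoc_of% hs, Category.comp_id]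
    · have e1 := congrArg (· ≫ pullback.fst f f) c.condition
      have e2 := congrArg (· ≫ pullback.snd f f) c.condition
      simp only [Category.assoc, hl1, hl2, pullback.diagonal_fst, pullback.diagonal_snd,
        Category.comp_id] at e1 e2
      rw [Category.assoc, e2, e1]
    · have e2 := congrArg (· ≫ pullback.snd f f) c.condition
      simp only [Category.assoc, hl2, pullback.diagonal_snd, Category.comp_id] at e2
      rw [Category.assoc, e2]
    · rw [← h3, Category.assoc, hs, Category.comp_id]
  exact MorphismProperty.of_isPullback (P := @IsOpenImmersion) h2.flip h1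

section

variable {Ω : Type u} [Field Ω] [IsAlgClosed Ω] (H : Over (Spec (CommRingCat.of Ω)))
  [LocallyOfFiniteType H.hom] [FormallyUnramified H.hom]

omit [IsAlgClosed Ω] in
theorem discreteTopology : DiscreteTopology H.left := by
  have := K147.LQF.locallyQuasiFinite_of_unramified H.hom
  exact K147.GeomCount.discreteTopology_of_isPullback (f := H.hom) (γ := 𝟙 _) (p := 𝟙 _) (q := H.hom)
    (IsPullback.of_horiz_isIso ⟨by rw [Category.comp_id, Category.id_comp]⟩)

/-- every point is a rational point -/
theorem exists_pt (x : H.left) : ∃ s : 𝟙_ (Over (Spec (CommRingCat.of Ω))) ⟶ H, ∀ z, s.left z = x := by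
  have := discreteTopology H
  have hx : IsClosed {x} := isClosed_discrete _
  exact ⟨Over.homMk (pointOfClosedPoint H.hom x hx) (pointOfClosedPoint_comp H.hom x hx),
    fun z => pointOfClosedPoint_apply H.hom x hx z⟩

variable {H} in
omit [FormallyUnramified H.hom] in
theorem pt_ext {s t : 𝟙_ (Over (Spec (CommRingCat.of Ω))) ⟶ H} (z : Spec (CommRingCat.of Ω))
    (h : s.left z = t.left z) : s = t := by
  have h1 := (pointEquivClosedPoint H.hom).injective (a₁ := ⟨s.left, Over.w s⟩) (a₂ := ⟨t.left, Over.w t⟩) (by
    apply Subtype.ext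
    have hz : IsLocalRing.closedPoint Ω = z := Subsingleton.elim _ _
    subst hz
    exact h)
  exact Over.OverMorphism.ext (congrArg (fun y => y.1) h1)

/-- The scheme is the constant scheme of its rational points. -/
theorem exists_iso {M : Type v} [Small.{u} M] (φ : M ≃ (𝟙_ (Over (Spec (CommRingCat.of Ω))) ⟶ H)) :
    ∃ e : H ≅ TwC.const (Spec (CommRingCat.of Ω)) M, ∀ m, TwC.pt (Spec (CommRingCat.of Ω)) M m ≫ e.inv = φ m := by
  let α : ∀ _ : M, Spec (CommRingCat.of Ω) ⟶ H.left := fun m => (φ m).left
  have hop : ∀ m, IsOpenImmersion (α m) := fun m => isOpenImmersion_section H.hom _ (Over.w (φ m))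
  have hdisj : Pairwise (Function.onFun Disjoint fun m => Set.range (α m)) := by
    intro m n hmn
    rw [Function.onFun, Set.disjoint_left]
    rintro _ ⟨x, rfl⟩ ⟨y, hy⟩
    apply hmn
    apply φ.injective
    have hxy : y = x := Subsingleton.elim _ _
    subst hxy
    exact (pt_ext y hy).symm
  have hopen : IsOpenImmersion (Sigma.desc α) := isOpenImmersion_sigmaDesc _ α hdisj
  have hsurj : Surjective (Sigma.desc α) := by
    refine ⟨fun x => ?_⟩
    obtain ⟨s, hs⟩ := exists_pt H x
    obtain ⟨m, rfl⟩ := φ.surjective s
    refine ⟨Sigma.ι (fun _ : M => Spec (CommRingCat.of Ω)) m (IsLocalRing.closedPoint Ω), ?_⟩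
    rw [← Scheme.Hom.comp_apply, Sigma.ι_desc]
    exact hs _
  have hiso : IsIso (Sigma.desc α) := by
    rw [isIso_iff_isOpenImmersion_and_surjective]
    exact ⟨hopen, hsurj⟩
  let i : TwC.const (Spec (CommRingCat.of Ω)) M ≅ H := Over.isoMk (asIso (Sigma.desc α)) (by
    refine Sigma.hom_ext _ _ fun m => ?_
    rw [asIso_hom, Sigma.ι_desc_assoc]
    refine (Over.w (φ m)).trans ?_
    exact (Sigma.ι_desc (fun _ : M => 𝟙 (Spec (CommRingCat.of Ω))) m).symm)
  refine ⟨i.symm, fun m => ?_⟩
  apply Over.OverMorphism.ext
  exact Sigma.ι_desc _ _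

/-- **Unramified group schemes over algebraically closed fields are constant.** -/
theorem exists_const [GrpObj H] {M : Type v} [Group M] [Small.{u} M]
    (φ : M ≃* (𝟙_ (Over (Spec (CommRingCat.of Ω))) ⟶ H)) :
    ∃ e : H ≅ TwC.const (Spec (CommRingCat.of Ω)) M, TwC.IsConstGrp M H e := by
  obtain ⟨e, he⟩ := exists_iso H φ.toEquiv
  refine ⟨e, fun m n => ?_⟩
  rw [he, he, he]
  exact (map_mul φ m n).symm

end

end K452.ConstPt
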