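import Groth.Agent.AbSch.K452.GlueRep
import Groth.Agent.AbSch.K453.ExtLift
import Groth.Agent.Sga3B.TorusBc

/-!
# Extensions of tori by abelian schemes are group schemes if their classes are locally torsion

* `exists_nsplit_of_isOfFinAddOrder`: `0 → A → E → T → 0` with class of finite order: some non-zero multiple of the
  identity of `T` lifts to `E`;
* `FinOrder`: the statement of `S19295`;  `exists_grp`: the statement of `S19294` deduced from it.
-/

set_option autoImplicit false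
universe u
open CategoryTheory CategoryTheory.Limits MonoidalCategory CartesianMonoidalCategory MonObj AlgebraicGeometry
open CGrpSh Opposite CategoryTheory.Abelian

namespace K452.ExtRep

variable {S : Scheme.{u}}

theorem exists_nsplit_of_isOfFinAddOrder {F₁ F₂ F₃ : BigSite.Ab Scheme.fppfPrecoverage S} (i : F₁ ⟶ F₂) (q : F₂ ⟶ F₃)
    (w : i ≫ q = 0) (hex : (ShortComplex.mk i q w).ShortExact) (h : IsOfFinAddOrder hex.extClass) :
    ∃ n : ℤ, n ≠ 0 ∧ ∃ τ : F₃ ⟶ F₂, τ ≫ q = n • 𝟙 _ := by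
  obtain ⟨n, hn, h0⟩ := isOfFinAddOrder_iff_nsmul_eq_zero.mp h
  refine ⟨(n : ℤ), by omega, ?_⟩
  have h1 : K453.ExtLift.conn hex F₃ ((n : ℤ) • 𝟙 F₃) = 0 := by
    rw [map_zsmul]
    have h2 : K453.ExtLift.conn hex F₃ (𝟙 F₃) = hex.extClass := by
      rw [K453.ExtLift.conn_apply, Ext.mk₀_id_comp]
    rw [h2, natCast_zsmul]
    exact h0
  obtain ⟨ψ, hψ⟩ := (K453.ExtLift.conn_eq_zero_iff hex F₃ _).mp h1
  exact ⟨ψ, hψ⟩

/-- The statement of `S19295`. -/
def FinOrder : Prop := ∀ {S : Scheme.{u}} [CompactSpace S] (T A : Over S)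
    [GrpObj T] [IsCommMonObj T] (_ : Red.IsTorus T)
    [GrpObj A] [IsCommMonObj A] [Smooth A.hom] [IsProper A.hom]
    (_ : ∀ s : S, ConnectedSpace ↥(A.hom.fiber s))
    (e : CGrpSh.ExtS Scheme.fppfPrecoverage T A 1), IsOfFinAddOrder e

/-- `S19294` from `S19295`. -/
theorem exists_grp (H : FinOrder.{u}) (T A : Over S)
    [GrpObj T] [IsCommMonObj T] (hT : Red.IsTorus T)
    [GrpObj A] [IsCommMonObj A] [Smooth A.hom] [IsProper A.hom]
    (hA : ∀ s : S, ConnectedSpace ↥(A.hom.fiber s))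
    (E : BigSite.Ab Scheme.fppfPrecoverage S) (i : (CGrpSh.pts Scheme.fppfPrecoverage A) ⟶ E)
    (q : E ⟶ (CGrpSh.pts Scheme.fppfPrecoverage T))
    (w : i ≫ q = 0) (hex : (ShortComplex.mk i q w).ShortExact) :
    ∃ (G : Over S) (_ : GrpObj G) (_ : IsCommMonObj G) (u : A ⟶ G) (v : G ⟶ T) (_ : IsMonHom u) (_ : IsMonHom v)
      (e : (CGrpSh.pts Scheme.fppfPrecoverage G) ≅ E),
      CGrpSh.ptsMap Scheme.fppfPrecoverage u ≫ e.hom = i ∧ e.hom ≫ q = CGrpSh.ptsMap Scheme.fppfPrecoverage v ∧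
      Smooth G.hom ∧ IsSeparated G.hom ∧ QuasiCompact G.hom ∧ QuasiSeparated G.hom ∧
      ∀ s : S, ConnectedSpace ↥(G.hom.fiber s) := by
  have hgc := K452.ConnFib.geometricallyConnected A hA
  let U : S.affineOpens → Over S := fun k => Over.mk k.1.ι
  obtain ⟨V, v, ξ, hV⟩ := K452.GlueRep.exists_isRep_of_local q U (fun k => inferInstanceAs (IsOpenImmersion k.1.ι))
    (fun s => by
      obtain ⟨_, ⟨W, hW, rfl⟩, hs, -⟩ := S.isBasis_affineOpens.exists_subset_of_mem_open (Set.mem_univ s) isOpen_univ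
      exact ⟨⟨W, hW⟩, ⟨s, hs⟩, rfl⟩)
    (fun k => by
      have : IsAffine (U k).left := k.2
      have hTk : Red.IsTorus (Red.bc (U k).hom T) := Groth.Agent.Sga3B.TorusBc.isTorus_bc _ hT
      have h1 : Smooth (Red.bc (U k).hom A).hom := inferInstanceAs (Smooth (pullback.snd A.hom (U k).hom))
      have h2 : IsProper (Red.bc (U k).hom A).hom := inferInstanceAs (IsProper (pullback.snd A.hom (U k).hom))
      have h3 : GeometricallyConnected (Red.bc (U k).hom A).hom :=
        inferInstanceAs (GeometricallyConnected (pullback.snd A.hom (U k).hom))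
      have h4 : ∀ s, ConnectedSpace ↥((Red.bc (U k).hom A).hom.fiber s) := fun s => inferInstance
      have hex' := K452.Restr.shortExact_res (U k) i q w hex
      obtain ⟨n, hn, τ, hτ⟩ := exists_nsplit_of_isOfFinAddOrder _ _ _ hex' (H _ _ hTk h4 _)
      exact K452.NRep.exists_grp_of_nsplit _ _ _ hex' h4 n hn τ hτ)
  exact K452.GlueRep.exists_grp_of_isRep' i q w hex hA hT hV

end K452.ExtRep
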