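import Groth.Agent.GaDual.K771.HomEv
import Groth.Agent.Sga3B.DSPts
import Groth.Prelude.Def_CGrpSh2

/-!
# Sections of `𝓗om(pts G, pts H)` over `T` are homomorphisms `G_T ⟶ H_T`

`val φ h y : W ⟶ H` is the value of `φ : (pts G)|_T ⟶ (pts H)|_T` at `y : W ⟶ G` over `h : W ⟶ T`;
`toHom φ : Red.bc T.hom G ⟶ Red.bc T.hom H` is the homomorphism of `T`-group schemes, `toHom_one_iff`, `ext_toHom`.
-/

set_option autoImplicit false
universe u
open CategoryTheory CategoryTheory.Limits MonoidalCategory CartesianMonoidalCategory MonObj AlgebraicGeometry Opposite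

namespace K452.HomPts

open Groth.Agent.Etdl.H432.Sec Groth.Agent.Sga3B.DSPts

variable {S : Scheme.{u}} {G H : Over S} [GrpObj G] [IsCommMonObj G] [GrpObj H] [IsCommMonObj H] {T : Over S}

/-- the sheaf of points on the big fppf site -/
noncomputable abbrev P (G : Over S) [GrpObj G] [IsCommMonObj G] : EtFppf.AbF S := CGrpSh.pts Scheme.fppfPrecoverage G

/-- a point as a section -/
def sec {W : Over S} (y : W ⟶ G) : Γs (P G) W := ULift.up (Additive.ofMul y)

/-- a section as a point -/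
def pt {W : Over S} (s : Γs (P G) W) : W ⟶ G := (ULift.down s).toMul

@[simp] lemma pt_sec {W : Over S} (y : W ⟶ G) : pt (sec y) = y := rfl

@[simp] lemma sec_pt {W : Over S} (s : Γs (P G) W) : sec (pt s) = s := rfl

lemma r_sec {W W' : Over S} (k : W' ⟶ W) (y : W ⟶ G) : r (P G) k (sec y) = sec (k ≫ y) := rfl

lemma pt_r {W W' : Over S} (k : W' ⟶ W) (s : Γs (P G) W) : pt (r (P G) k s) = k ≫ pt s := rfl

lemma sec_mul {W : Over S} (y z : W ⟶ G) : sec (y * z) = sec y + sec z := rfl

lemma sec_one {W : Over S} : sec (1 : W ⟶ G) = 0 := rfl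

lemma pt_add {W : Over S} (y z : Γs (P G) W) : pt (y + z) = pt y * pt z := rfl

lemma pt_zero {W : Over S} : pt (0 : Γs (P G) W) = 1 := rfl

lemma pt_injective {W : Over S} : Function.Injective (pt : Γs (P G) W → (W ⟶ G)) := fun s t h => by
  rw [← sec_pt s, h, sec_pt]

/-- the value at a point -/
noncomputable def val (φ : (P G).over T ⟶ (P H).over T) {W : Over S} (h : W ⟶ T) (y : W ⟶ G) : W ⟶ H :=
  pt (K771.HomEv.ev (show Γs (K771.HomEv.hom (P G) (P H)) T from φ) h (sec y))

theorem comp_val (φ : (P G).over T ⟶ (P H).over T) {W W' : Over S} (h : W ⟶ T) (k : W' ⟶ W) (y : W ⟶ G) :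
    k ≫ val φ h y = val φ (k ≫ h) (k ≫ y) :=
  congrArg pt (K771.HomEv.ev_r' (show Γs (K771.HomEv.hom (P G) (P H)) T from φ) h k (sec y))

theorem val_mul (φ : (P G).over T ⟶ (P H).over T) {W : Over S} (h : W ⟶ T) (y z : W ⟶ G) :
    val φ h (y * z) = val φ h y * val φ h z := by
  unfold val
  rw [sec_mul, map_add, pt_add]

theorem val_zero {W : Over S} (h : W ⟶ T) (y : W ⟶ G) :
    val (0 : (P G).over T ⟶ (P H).over T) h y = 1 := rfl

theorem val_add (φ ψ : (P G).over T ⟶ (P H).over T) {W : Over S} (h : W ⟶ T) (y : W ⟶ G) :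
    val (φ + ψ) h y = val φ h y * val ψ h y := rfl

theorem ext_val {φ ψ : (P G).over T ⟶ (P H).over T}
    (e : ∀ (W : Over S) (h : W ⟶ T) (y : W ⟶ G), val φ h y = val ψ h y) : φ = ψ := by
  refine K771.HomEv.ev_ext (F := P G) (G := P H) (T := T) (fun W h x => ?_)
  apply pt_injective
  exact e W h (pt x)

/-- The structure map of an object of `Over T.left`. -/
def str (Y : Over T.left) : (Over.map T.hom).obj Y ⟶ T := Over.homMk Y.hom rfl

lemma map_str {Y Y' : Over T.left} (k : Y' ⟶ Y) : (Over.map T.hom).map k ≫ str Y = str Y' :=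
  Over.OverMorphism.ext (Over.w k)

/-- The homomorphism attached to a section of the internal Hom. -/
noncomputable def toHom (φ : (P G).over T ⟶ (P H).over T) : Red.bc T.hom G ⟶ Red.bc T.hom H :=
  bcEquiv T.hom (Red.bc T.hom G) H (val φ (str _) ((bcEquiv T.hom (Red.bc T.hom G) G).symm (𝟙 _)))

theorem comp_toHom (φ : (P G).over T ⟶ (P H).over T) {Y : Over T.left} (y : Y ⟶ Red.bc T.hom G) :
    y ≫ toHom φ = bcEquiv T.hom Y H (val φ (str Y) ((bcEquiv T.hom Y G).symm y)) := by
  unfold toHom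
  rw [bcEquiv_naturality, comp_val, map_str, bcEquiv_symm_naturality, Category.comp_id]

theorem isMonHom_of_points {S : Scheme.{u}} {G H : Over S} [GrpObj G] [GrpObj H] (f : G ⟶ H)
    (h : ∀ (Y : Over S) (a b : Y ⟶ G), (a * b) ≫ f = (a ≫ f) * (b ≫ f)) : IsMonHom f := by
  have h1 : ∀ Y : Over S, (1 : Y ⟶ G) ≫ f = 1 := by
    intro Y
    have := h Y 1 1
    rw [_root_.mul_one] at this
    exact left_eq_mul.mp this
  refine ⟨?_, ?_⟩
  · have := h1 (𝟙_ (Over S))
    rw [Hom.one_def, Hom.one_def, toUnit_unique (toUnit (𝟙_ (Over S))) (𝟙 _), Category.id_comp,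
      Category.id_comp] at this
    exact this
  · have := h (G ⊗ G) (fst G G) (snd G G)
    rw [Hom.mul_def, Hom.mul_def, CartesianMonoidalCategory.lift_fst_snd, Category.id_comp] at this
    rw [this, lift_fst_comp_snd_comp]

instance isMonHom_toHom (φ : (P G).over T ⟶ (P H).over T) : IsMonHom (toHom φ) := by
  refine isMonHom_of_points _ fun Y a b => ?_
  rw [comp_toHom, comp_toHom, comp_toHom, map_mul, val_mul, map_mul]

/-- the value through `toHom` -/
theorem val_eq (φ : (P G).over T ⟶ (P H).over T) (Y : Over T.left) (y : (Over.map T.hom).obj Y ⟶ G) :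
    val φ (str Y) y = (bcEquiv T.hom Y H).symm (bcEquiv T.hom Y G y ≫ toHom φ) := by
  rw [comp_toHom, MulEquiv.symm_apply_apply, MulEquiv.symm_apply_apply]

theorem ext_toHom {φ ψ : (P G).over T ⟶ (P H).over T} (h : toHom φ = toHom ψ) : φ = ψ := by
  apply ext_val
  intro W k y
  let Y : Over T.left := Over.mk k.left
  let i : (Over.map T.hom).obj Y ⟶ W := Over.homMk (𝟙 _) (by
    change 𝟙 _ ≫ W.hom = k.left ≫ T.hom
    rw [Category.id_comp, Over.w])
  let j : W ⟶ (Over.map T.hom).obj Y := Over.homMk (𝟙 _) (by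
    change 𝟙 _ ≫ k.left ≫ T.hom = W.hom
    rw [Category.id_comp, Over.w])
  have hji : j ≫ i = 𝟙 W := Over.OverMorphism.ext (Category.id_comp _)
  have hik : i ≫ k = str Y := Over.OverMorphism.ext (Category.id_comp _)
  have key : i ≫ val φ k y = i ≫ val ψ k y := by
    rw [comp_val, comp_val, hik, val_eq, val_eq, h]
  calc val φ k y = j ≫ i ≫ val φ k y := by rw [reassoc_of% hji]
    _ = j ≫ i ≫ val ψ k y := by rw [key]
    _ = val ψ k y := by rw [reassoc_of% hji]

theorem toHom_zero : toHom (0 : (P G).over T ⟶ (P H).over T) = 1 := by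
  unfold toHom
  rw [val_zero, map_one]

theorem eq_zero_of_toHom {φ : (P G).over T ⟶ (P H).over T} (h : toHom φ = 1) : φ = 0 :=
  ext_toHom (h.trans toHom_zero.symm)

end K452.HomPts
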