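import Groth.Agent.AbSch.K452.NRep
import Groth.Agent.AbSch.K452.HomPts
import Groth.Agent.AbSch.K452.ConnFib
import Groth.Agent.Sga3B.TorusAlgClosed
import Groth.Agent.Sga3B.TorusIrr
import Groth.Agent.VarietyB.BaseExt1

/-!
# Representability of extensions is local on the base

`0 → A → E → T → 0` exact on the big fppf site of `S`.
* `isRep_of_res`: a group scheme representing the restriction of `E` to `U → S` represents `E` over `T × U`;
* `exists_grp_of_local`: if `E` is representable over the members of an open covering of `S`, then it is representable;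
* `smooth`, `isProper`, `geometricallyConnected`: properties of the projection to `T`.
-/

set_option autoImplicit false
universe u
open CategoryTheory CategoryTheory.Limits MonoidalCategory CartesianMonoidalCategory MonObj AlgebraicGeometry
open CGrpSh Opposite

namespace K452.GlueRep

open K452.NSplit K452.Restr K594.Elem K594.Cover K594.FamRep Groth.Agent.Sga3B.DSPts
open K452.TorsRep hiding map_up up_inj

variable {S : Scheme.{u}}
variable {A T : Over S} [GrpObj A] [IsCommMonObj A] [GrpObj T] [IsCommMonObj T]
variable {E : BigSite.Ab Scheme.fppfPrecoverage S} (i : pts Scheme.fppfPrecoverage A ⟶ E)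
  (q : E ⟶ pts Scheme.fppfPrecoverage T) (w : i ≫ q = 0) (hex : (ShortComplex.mk i q w).ShortExact)

section

variable (U : Over S) {G : Over U.left} [GrpObj G] [IsCommMonObj G] (e : pts Scheme.fppfPrecoverage G ≅ resE U E)

/-- the projection of the restricted extension -/
noncomputable def pr : G ⟶ Red.bc U.hom T := K731.Full.hom (e.hom ≫ resQ U q)

/-- the morphism to `T × U` -/
noncomputable def toProd : (Over.map U.hom).obj G ⟶ T ⊗ U :=
  lift ((bcEquiv U.hom G T).symm (pr q U e)) (K452.HomPts.str G)

/-- the universal section -/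
noncomputable def sec : E.obj.obj (op ((Over.map U.hom).obj G)) := e.hom.hom.app (op G) (up (𝟙 G))

theorem sec_map {W : Over U.left} (k : W ⟶ G) :
    E.obj.map ((Over.map U.hom).map k).op (sec U e) = e.hom.hom.app (op W) (up k) := by
  have h1 : up k = (pts Scheme.fppfPrecoverage G).obj.map k.op (up (𝟙 G)) := by
    rw [NSplit.map_up, Category.comp_id]
  rw [h1, NSplit.app_map]
  rfl

theorem q_sec : q.hom.app (op ((Over.map U.hom).obj G)) (sec U e) = up ((bcEquiv U.hom G T).symm (pr q U e)) := by
  refine resQ_app' U q _ _ ?_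
  have h1 : (e.hom ≫ resQ U q).hom.app (op G) (up (𝟙 G)) = up (𝟙 G ≫ pr q U e) := by
    have h2 := K731.Full.ptsMap_hom (e.hom ≫ resQ U q)
    have h3 := congrArg (fun z => z.hom.app (op G) (up (𝟙 G))) h2
    exact h3.symm
  rw [Category.id_comp] at h1
  exact h1

omit [GrpObj G] [IsCommMonObj G] in
/-- lowering of objects over `U` -/
theorem exists_lower {W : Over S} (s : W ⟶ U) : ∃ (W' : Over U.left) (κ : W ≅ (Over.map U.hom).obj W'),
    κ.hom ≫ K452.HomPts.str W' = s :=
  ⟨Over.mk s.left, Over.isoMk (Iso.refl _) (by
    change 𝟙 _ ≫ s.left ≫ U.hom = W.hom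
    rw [Category.id_comp, Over.w]), by
    apply Over.OverMorphism.ext
    change 𝟙 _ ≫ s.left = s.left
    exact Category.id_comp _⟩

omit [GrpObj G] [IsCommMonObj G] in
theorem exists_lower_hom {W' : Over U.left} (a : (Over.map U.hom).obj W' ⟶ (Over.map U.hom).obj G)
    (ha : a ≫ K452.HomPts.str G = K452.HomPts.str W') : ∃ a' : W' ⟶ G, (Over.map U.hom).map a' = a :=
  ⟨Over.homMk a.left (congrArg (fun z => z.left) ha), Over.OverMorphism.ext rfl⟩

/-- A group scheme representing the restriction of `E` to `U` represents `E` over `T × U`. -/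
theorem isRep_of_res : IsRep (sets.map q) (U := T ⊗ U) (up (fst T U) : (sets.obj (pts Scheme.fppfPrecoverage T)).obj.obj
    (op (T ⊗ U))) (V := (Over.map U.hom).obj G) (toProd q U e) (sec U e) := by
  have hinj : ∀ {W : Over U.left} (a b : W ⟶ G), e.hom.hom.app (op W) (up a) = e.hom.hom.app (op W) (up b) → a = b := by
    intro W a b hab
    exact NSplit.up_inj (K731.Basic.injective_of_mono e.hom _ hab)
  refine ⟨?_, fun {W} a b h1 h2 => ?_, fun {W} t x hx => ?_⟩
  · change q.hom.app _ (sec U e) = up (toProd q U e ≫ fst T U)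
    rw [q_sec, toProd, lift_fst]
  · have hs : a ≫ K452.HomPts.str G = b ≫ K452.HomPts.str G := by
      have h3 := congrArg (fun z => z ≫ snd T U) h1
      simpa only [toProd, Category.assoc, lift_snd] using h3
    obtain ⟨W', κ, hκ⟩ := exists_lower U (a ≫ K452.HomPts.str G)
    obtain ⟨a', ha'⟩ := exists_lower_hom U (G := G) (κ.inv ≫ a) (by
      rw [Category.assoc, ← hκ, Iso.inv_hom_id_assoc])
    obtain ⟨b', hb'⟩ := exists_lower_hom U (G := G) (κ.inv ≫ b) (by
      rw [Category.assoc, ← hs, ← hκ, Iso.inv_hom_id_assoc])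
    have h4 : a' = b' := by
      apply hinj
      rw [← sec_map, ← sec_map, ha', hb', NSplit.map_comp_apply, NSplit.map_comp_apply]
      exact congrArg _ h2
    have h5 : κ.inv ≫ a = κ.inv ≫ b := by rw [← ha', ← hb', h4]
    exact (cancel_epi κ.inv).mp h5
  · obtain ⟨W', κ, hκ⟩ := exists_lower U (t ≫ snd T U)
    have hx' : q.hom.app (op W) x = up (t ≫ fst T U) := hx
    obtain ⟨k', hk'⟩ : ∃ k' : W' ⟶ G, e.hom.hom.app (op W') (up k') = E.obj.map κ.inv.op x := by
      obtain ⟨k', hk'⟩ := NSplit.exists_up (e.inv.hom.app (op W') (E.obj.map κ.inv.op x))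
      refine ⟨k', ?_⟩
      rw [← hk']
      exact congrArg (fun z => z.hom.app (op W') (E.obj.map κ.inv.op x)) e.inv_hom_id
    have hsec : E.obj.map (κ.hom ≫ (Over.map U.hom).map k').op (sec U e) = x := by
      rw [NSplit.map_comp_apply, sec_map, hk', ← NSplit.map_comp_apply, Iso.hom_inv_id, NSplit.map_id_apply]
    refine ⟨κ.hom ≫ (Over.map U.hom).map k', ?_, hsec⟩
    apply CartesianMonoidalCategory.hom_ext
    · apply NSplit.up_inj
      rw [toProd, Category.assoc, lift_fst, ← NSplit.map_up, ← q_sec, ← NSplit.app_map, hsec, hx']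
    · rw [toProd, Category.assoc, lift_snd, Category.assoc, K452.HomPts.map_str, hκ]

end

section Glue

/-- **Gluing**: `E` is representable if it is so over the members of an open covering of the base. -/
theorem exists_isRep_of_local {I : Type u} (U : I → Over S) (hU : ∀ k, IsOpenImmersion (U k).hom)
    (hc : ∀ s : S, ∃ (k : I) (x : (U k).left), (U k).hom x = s)
    (h : ∀ k, ∃ (G : Over (U k).left) (_ : GrpObj G) (_ : IsCommMonObj G),
      Nonempty (pts Scheme.fppfPrecoverage G ≅ resE (U k) E)) :
    ∃ (V : Over S) (v : V ⟶ T) (ξ : E.obj.obj (op V)),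
      IsRep (sets.map q) (U := T) (up (𝟙 T) : (sets.obj (pts Scheme.fppfPrecoverage T)).obj.obj (op T)) v ξ := by
  choose G hG1 hG2 e using h
  have hopen : ∀ k, IsOpenImmersion (fst T (U k)).left := fun k => by
    have := hU k
    exact inferInstanceAs (IsOpenImmersion (pullback.fst T.hom (U k).hom))
  have hfam : Fam (fun k => fst T (U k)) :=
    { flat := fun k => by
        have := hopen k
        infer_instance
      lfp := fun k => by
        have := hopen k
        infer_instance
      surj := fun t => by
        obtain ⟨k, x, hx⟩ := hc (T.hom t)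
        obtain ⟨z, hz, -⟩ := Scheme.Pullback.exists_preimage_pullback (f := T.hom) (g := (U k).hom) t x hx.symm
        exact ⟨k, z, hz⟩ }
  have hloc : ∀ k, IsRep (sets.map q) ((sets.obj (pts Scheme.fppfPrecoverage T)).obj.map (fst T (U k)).op (up (𝟙 T)))
      (toProd q (U k) (e k).some) (sec (U k) (e k).some) := by
    intro k
    rw [map_up_sets]
    exact isRep_of_res q (U k) (e k).some
  exact exists_isRep_of_openFam hfam hopen hloc

end Glue

section Props

variable {V : Over S} {v : V ⟶ T} {ξ : E.obj.obj (op V)}
  (hV : IsRep (sets.map q) (U := T) (up (𝟙 T) : (sets.obj (pts Scheme.fppfPrecoverage T)).obj.obj (op T)) v ξ)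

include w hex hV in
theorem prop_v (P : MorphismProperty Scheme.{u}) [P.IsStableUnderBaseChange]
    [P.IsLocalAtTarget Scheme.fppfPrecoverage] (hP : P A.hom) : P v.left := by
  have he : Epi q := hex.epi_g
  obtain ⟨J, U, r, hr, hg⟩ := exists_fam q (𝟙 T)
  choose g hg using hg
  have hg' : ∀ j, q.hom.app _ (g j) = up (r j) := fun j => by rw [hg, Category.comp_id]
  have hloc : ∀ j, IsRep (sets.map q) ((sets.obj (pts Scheme.fppfPrecoverage T)).obj.map (r j).op (up (𝟙 T)))
      (snd A (U j)) (i.hom.app (op (A ⊗ U j)) (up (fst A (U j))) + E.obj.map (snd A (U j)).op (g j)) := by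
    intro j
    rw [map_up_sets]
    exact locRep i q w hex (r j) (g j) (hg' j)
  exact prop_of_isRep_fam P hr hloc (fun j => P.pullback_snd A.hom (U j).hom hP) hV

include w hex hV in
theorem smooth_v [Smooth A.hom] : Smooth v.left := by
  have := K594.Local.smooth.{u}
  exact prop_v i q w hex hV @Smooth inferInstance

include w hex hV in
theorem isProper_v [IsProper A.hom] : IsProper v.left := by
  have := K594.Local.isProper.{u}
  exact prop_v i q w hex hV @IsProper inferInstance

include w hex hV in
theorem geometricallyConnected_v [GeometricallyConnected A.hom] : GeometricallyConnected v.left := by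
  have := K594.Local.surjective.{u}
  have hs : Surjective v.left := prop_v i q w hex hV @Surjective inferInstance
  have hw : q.hom.app (op V) ξ = up v := hV.w.trans (map_up_id v)
  have h1 := locRep i q w hex v ξ hw
  obtain ⟨e, he, -⟩ := (hV.baseChange (IsPullback.of_hasPullback v v)).exists_iso (by
    rw [map_up_sets]
    exact h1)
  have h2 : IsPullback (pullback.fst v v).left (pullback.snd v v).left v.left v.left :=
    (IsPullback.of_hasPullback v v).map (Over.forget S)
  have h3 : GeometricallyConnected (snd A V).left := inferInstanceAs (GeometricallyConnected (pullback.snd A.hom V.hom))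
  have h4 : GeometricallyConnected (pullback.snd v v).left := by
    rw [← he, Over.comp_left, MorphismProperty.cancel_left_of_respectsIso (P := @GeometricallyConnected)]
    exact h3
  have h5 : GeometricallyConnected (pullback.snd v.left v.left) := by
    rw [← h2.isoPullback_inv_snd, MorphismProperty.cancel_left_of_respectsIso (P := @GeometricallyConnected)]
    exact h4
  exact Groth.Agent.VarietyB.BaseExt1.geometricallyConnected_of_pullback_snd v.left v.left

end Props

include hex in
/-- Extensions of a torus by an abelian scheme which are representable, with all the properties. -/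
theorem exists_grp_of_isRep' [Smooth A.hom] [IsProper A.hom] (hA : ∀ s : S, ConnectedSpace ↥(A.hom.fiber s))
    (hT : Red.IsTorus T) {V : Over S} {v : V ⟶ T} {ξ : E.obj.obj (op V)}
    (hV : IsRep (sets.map q) (U := T) (up (𝟙 T) : (sets.obj (pts Scheme.fppfPrecoverage T)).obj.obj (op T)) v ξ) :
    ∃ (G : Over S) (_ : GrpObj G) (_ : IsCommMonObj G) (u : A ⟶ G) (v : G ⟶ T) (_ : IsMonHom u) (_ : IsMonHom v)
      (e : (CGrpSh.pts Scheme.fppfPrecoverage G) ≅ E),
      CGrpSh.ptsMap Scheme.fppfPrecoverage u ≫ e.hom = i ∧ e.hom ≫ q = CGrpSh.ptsMap Scheme.fppfPrecoverage v ∧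
      Smooth G.hom ∧ IsSeparated G.hom ∧ QuasiCompact G.hom ∧ QuasiSeparated G.hom ∧
      ∀ s : S, ConnectedSpace ↥(G.hom.fiber s) := by
  obtain ⟨g1, g2, e, hv, h1⟩ := exists_grp_of_isRep q v ξ hV
  have a1 : Smooth v.left := smooth_v i q w hex hV
  have a2 : IsProper v.left := isProper_v i q w hex hV
  have a3 : GeometricallyConnected A.hom := K452.ConnFib.geometricallyConnected A hA
  have a4 : GeometricallyConnected v.left := geometricallyConnected_v i q w hex hV
  have a5 : IsAffineHom T.hom := Groth.Agent.Sga3B.TorusAlgClosed.isAffineHom_of_isTorus hT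
  have a6 : Smooth T.hom := Groth.Agent.Sga3B.TorusAlgClosed.smooth_of_isTorus hT
  have a7 : GeometricallyIrreducible T.hom := Groth.Agent.Sga3B.TorusIrr.geometricallyIrreducible_of_isTorus hT
  have a8 : GeometricallyConnected T.hom := by
    refine ⟨fun K _ y Z fst snd h => ?_⟩
    have : IrreducibleSpace Z :=
      GeometricallyIrreducible.geometrically_irreducibleSpace (f := T.hom) y fst snd h
    infer_instance
  have hVh : V.hom = v.left ≫ T.hom := (Over.w v).symm
  have a9 : GeometricallyConnected V.hom := by
    rw [hVh]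
    exact GeometricallyConnected.comp _ _
  subst h1
  refine ⟨V, g1, g2, K731.Full.hom (i ≫ e.inv), K731.Full.hom (e.hom ≫ q), inferInstance, inferInstance, e, ?_, ?_,
    ?_, ?_, ?_, ?_, fun s => inferInstance⟩
  · rw [K731.Full.ptsMap_hom, Category.assoc, e.inv_hom_id, Category.comp_id]
  · rw [K731.Full.ptsMap_hom]
  · rw [hVh]
    infer_instance
  · rw [hVh]
    infer_instance
  · rw [hVh]
    infer_instance
  · rw [hVh]
    infer_instance

end K452.GlueRep
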