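import Groth.Agent.AbSch.K452.HomPts
import Groth.Agent.AbSch.K452.Restr
import Groth.Agent.AbSch.K448.PointedHom

/-!
# Families of homomorphisms of abelian schemes

`A B : Over S` group schemes, `T : Over S`.  A family over `T` is `f : A ⊗ T ⟶ B`; it is *pointed* if its restriction to
the unit section is trivial (`Ptd f`).
* `toBc f : Red.bc T.hom A ⟶ Red.bc T.hom B`, `comp_toBc`;
* `Ptd.mul`: pointed families are families of homomorphisms (`A` proper, flat, ..., `B` separated);
* `toFam`, `ofFam`: sections of the internal Hom sheaf are the pointed families.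
-/

set_option autoImplicit false
universe u
open CategoryTheory CategoryTheory.Limits MonoidalCategory CartesianMonoidalCategory MonObj AlgebraicGeometry
open CGrpSh Opposite

namespace K452.HomFam

open Groth.Agent.Etdl.H432.Sec Groth.Agent.Sga3B.DSPts K452.HomPts

variable {S : Scheme.{u}} {A B : Over S} [GrpObj A] [GrpObj B] {T : Over S}

/-- A family of morphisms trivial on the unit section. -/
def Ptd (f : A ⊗ T ⟶ B) : Prop := lift (1 : T ⟶ A) (𝟙 T) ≫ f = 1

theorem Ptd.one {f : A ⊗ T ⟶ B} (hf : Ptd f) {W : Over S} (t : W ⟶ T) : lift (1 : W ⟶ A) t ≫ f = 1 := by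
  have h1 : lift (1 : W ⟶ A) t = t ≫ lift (1 : T ⟶ A) (𝟙 T) := by
    rw [comp_lift, MonObj.comp_one, Category.comp_id]
  rw [h1, Category.assoc, hf, MonObj.comp_one]

theorem Ptd.pull {f : A ⊗ T ⟶ B} (hf : Ptd f) {W : Over S} (t : W ⟶ T) : Ptd ((A ◁ t) ≫ f) := by
  unfold Ptd
  rw [← Category.assoc, lift_whiskerLeft, Category.id_comp, hf.one]

/-- the morphism of the base changes -/
noncomputable def toBc (f : A ⊗ T ⟶ B) : Red.bc T.hom A ⟶ Red.bc T.hom B :=
  bcEquiv T.hom (Red.bc T.hom A) B (lift ((bcEquiv T.hom (Red.bc T.hom A) A).symm (𝟙 _)) (str _) ≫ f)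

theorem comp_toBc (f : A ⊗ T ⟶ B) {Y : Over T.left} (y : Y ⟶ Red.bc T.hom A) :
    y ≫ toBc f = bcEquiv T.hom Y B (lift ((bcEquiv T.hom Y A).symm y) (str Y) ≫ f) := by
  unfold toBc
  rw [bcEquiv_naturality, ← Category.assoc, comp_lift, map_str, bcEquiv_symm_naturality, Category.comp_id]

theorem toBc_unit {f : A ⊗ T ⟶ B} (hf : Ptd f) : η[Red.bc T.hom A] ≫ toBc f = η[Red.bc T.hom B] := by
  have h1 : η[Red.bc T.hom A] = (1 : 𝟙_ (Over T.left) ⟶ Red.bc T.hom A) := by
    rw [Hom.one_def, toUnit_unique (toUnit (𝟙_ (Over T.left))) (𝟙 _), Category.id_comp]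
  have h2 : η[Red.bc T.hom B] = (1 : 𝟙_ (Over T.left) ⟶ Red.bc T.hom B) := by
    rw [Hom.one_def, toUnit_unique (toUnit (𝟙_ (Over T.left))) (𝟙 _), Category.id_comp]
  rw [h1, h2, comp_toBc, map_one, hf.one, map_one]

section

variable [IsProper A.hom] [Flat A.hom] [LocallyOfFinitePresentation A.hom] [GeometricallyConnected A.hom]
  [GeometricallyReduced A.hom] [IsSeparated B.hom]

theorem isMonHom_toBc {f : A ⊗ T ⟶ B} (hf : Ptd f) : IsMonHom (toBc f) := by
  have h1 : IsProper (Red.bc T.hom A).hom := inferInstanceAs (IsProper (pullback.snd A.hom T.hom))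
  have h2 : Flat (Red.bc T.hom A).hom := inferInstanceAs (Flat (pullback.snd A.hom T.hom))
  have h3 : LocallyOfFinitePresentation (Red.bc T.hom A).hom :=
    inferInstanceAs (LocallyOfFinitePresentation (pullback.snd A.hom T.hom))
  have h4 : GeometricallyConnected (Red.bc T.hom A).hom :=
    inferInstanceAs (GeometricallyConnected (pullback.snd A.hom T.hom))
  have h5 : GeometricallyReduced (Red.bc T.hom A).hom :=
    inferInstanceAs (GeometricallyReduced (pullback.snd A.hom T.hom))
  have h6 : IsSeparated (Red.bc T.hom B).hom := inferInstanceAs (IsSeparated (pullback.snd B.hom T.hom))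
  exact K448.PointedHom.isMonHom_of_pointed _ (toBc_unit hf)

/-- lowering of objects over `T` -/
theorem exists_lower {W : Over S} (s : W ⟶ T) : ∃ (W' : Over T.left) (κ : W ≅ (Over.map T.hom).obj W'),
    κ.hom ≫ str W' = s :=
  ⟨Over.mk s.left, Over.isoMk (Iso.refl _) (by
    change 𝟙 _ ≫ s.left ≫ T.hom = W.hom
    rw [Category.id_comp, Over.w]), by
    apply Over.OverMorphism.ext
    change 𝟙 _ ≫ s.left = s.left
    exact Category.id_comp _⟩

/-- **Pointed families are families of homomorphisms.** -/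
theorem Ptd.mul {f : A ⊗ T ⟶ B} (hf : Ptd f) {W : Over S} (a a' : W ⟶ A) (t : W ⟶ T) :
    lift (a * a') t ≫ f = (lift a t ≫ f) * (lift a' t ≫ f) := by
  obtain ⟨W', κ, hκ⟩ := exists_lower t
  have hm := isMonHom_toBc hf
  have key : ∀ b b' : (Over.map T.hom).obj W' ⟶ A, lift (b * b') (str W') ≫ f =
      (lift b (str W') ≫ f) * (lift b' (str W') ≫ f) := by
    intro b b'
    have h1 := MonObj.mul_comp (bcEquiv T.hom W' A b) (bcEquiv T.hom W' A b') (toBc f)
    rw [← map_mul, comp_toBc, comp_toBc, comp_toBc, ← map_mul, MulEquiv.symm_apply_apply, MulEquiv.symm_apply_apply,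
      MulEquiv.symm_apply_apply] at h1
    exact (bcEquiv T.hom W' B).injective h1
  have h2 : ∀ c : W ⟶ A, lift c t = κ.hom ≫ lift (κ.inv ≫ c) (str W') := by
    intro c
    rw [comp_lift, Iso.hom_inv_id_assoc, hκ]
  rw [h2, h2, h2, Category.assoc, Category.assoc, Category.assoc, MonObj.comp_mul, key, MonObj.comp_mul]

end

section Sheaf

variable [IsCommMonObj A] [IsCommMonObj B]

/-- The family attached to a section of the internal Hom. -/
noncomputable def toFam (φ : Γs (K771.HomEv.hom (P A) (P B)) T) : A ⊗ T ⟶ B :=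
  pt (K771.HomEv.ev φ (snd A T) (sec (fst A T)))

theorem lift_toFam (φ : Γs (K771.HomEv.hom (P A) (P B)) T) {W : Over S} (a : W ⟶ A) (t : W ⟶ T) :
    lift a t ≫ toFam φ = pt (K771.HomEv.ev φ t (sec a)) := by
  unfold toFam
  rw [← pt_r, K771.HomEv.ev_r', lift_snd, r_sec, lift_fst]

theorem ptd_toFam (φ : Γs (K771.HomEv.hom (P A) (P B)) T) : Ptd (toFam φ) := by
  unfold Ptd
  rw [lift_toFam, sec_one, map_zero, pt_zero]

theorem toFam_injective : Function.Injective (toFam (A := A) (B := B) (T := T)) := by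
  intro φ ψ h
  refine K771.HomEv.ev_ext fun W t x => pt_injective ?_
  have h1 := lift_toFam φ (pt x) t
  have h2 := lift_toFam ψ (pt x) t
  rw [sec_pt] at h1 h2
  rw [← h1, ← h2, h]

theorem toFam_r (φ : Γs (K771.HomEv.hom (P A) (P B)) T) {W : Over S} (t : W ⟶ T) :
    toFam (r (K771.HomEv.hom (P A) (P B)) t φ) = (A ◁ t) ≫ toFam φ := by
  have h1 : A ◁ t = lift (fst A W) (snd A W ≫ t) := by
    apply CartesianMonoidalCategory.hom_ext <;> simp
  rw [h1, lift_toFam]
  rfl

theorem toFam_add (φ ψ : Γs (K771.HomEv.hom (P A) (P B)) T) : toFam (φ + ψ) = toFam φ * toFam ψ := by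
  unfold toFam
  rw [K771.HomEv.ev_add, pt_add]

variable [IsProper A.hom] [Flat A.hom] [LocallyOfFinitePresentation A.hom] [GeometricallyConnected A.hom]
  [GeometricallyReduced A.hom] [IsSeparated B.hom]

theorem exists_toFam {f : A ⊗ T ⟶ B} (hf : Ptd f) : ∃ φ : Γs (K771.HomEv.hom (P A) (P B)) T, toFam φ = f := by
  refine ⟨K771.HomEv.mk (F := P A) (G := P B) (T := T) (fun W t =>
    AddMonoidHom.mk' (fun x => sec (lift (pt x) t ≫ f)) (fun x y => by
      rw [pt_add, hf.mul, sec_mul])) (fun W W' t k x => ?_), ?_⟩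
  · change r (P B) k (sec (lift (pt x) t ≫ f)) = sec (lift (pt (r (P A) k x)) (k ≫ t) ≫ f)
    rw [r_sec, pt_r, ← comp_lift, Category.assoc]
  · change pt (sec (lift (pt (sec (fst A T))) (snd A T) ≫ f)) = f
    rw [pt_sec, pt_sec, lift_fst_snd, Category.id_comp]

end Sheaf

end K452.HomFam
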