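import Groth.Agent.AbSch.K452.HomProps
import Groth.Agent.AbSch.K452.ConstPt
import Groth.Agent.AbSch.K452.ConnFib
import Groth.Agent.AbVar.K520.HomFin

/-!
# Geometric fibres of the scheme of homomorphisms of abelian schemes

`exists_const`: the geometric fibres of `H` are constant, with value a finitely generated free abelian group.
-/

set_option autoImplicit false
universe u
open CategoryTheory CategoryTheory.Limits MonoidalCategory CartesianMonoidalCategory MonObj AlgebraicGeometry
open Opposite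

noncomputable section

namespace K452.HomFib

open K452.HomFam K452.HomUniv K452.HomProps Groth.Agent.Sga3B.DSPts

section Fam

variable {S : Scheme.{u}} {A B H : Over S} [GrpObj A] [GrpObj B] [GrpObj H] {ξ : A ⊗ H ⟶ B}

/-- the group law of `H` is the pointwise one -/
def Add (ξ : A ⊗ H ⟶ B) : Prop :=
  ∀ {T : Over S} (s t : T ⟶ H), (A ◁ (s * t)) ≫ ξ = ((A ◁ s) ≫ ξ) * ((A ◁ t) ≫ ξ)

variable {S' : Scheme.{u}} (f : S' ⟶ S)

theorem fam_mul {Y : Over S'} (g g' : A ⊗ (Over.map f).obj Y ⟶ B) : fam f (g * g') = fam f g * fam f g' := by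
  unfold fam
  rw [MonObj.comp_mul, map_mul]

theorem symm_eq_pr {Y : Over S'} (y : Y ⟶ Red.bc f H) : (bcEquiv f Y H).symm y = (Over.map f).map y ≫ pr f H := by
  apply (bcEquiv f Y H).injective
  rw [MulEquiv.apply_symm_apply]
  apply ((Over.mapPullbackAdj f).homEquiv Y H).symm.injective
  rw [Adjunction.homEquiv_counit]
  exact (((Over.mapPullbackAdj f).homEquiv Y H).symm_apply_apply _).symm

theorem map_mul_pr {Y : Over S'} (y z : Y ⟶ Red.bc f H) : (Over.map f).map (y * z) ≫ pr f H =
    ((Over.map f).map y ≫ pr f H) * ((Over.map f).map z ≫ pr f H) := by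
  rw [← symm_eq_pr, ← symm_eq_pr, ← symm_eq_pr, map_mul]

/-- the group law of the base change is the pointwise one -/
theorem Add.bc (h : Add ξ) : Add (fam f ((A ◁ pr f H) ≫ ξ)) := by
  intro Y y z
  rw [whisker_fam, whisker_fam, whisker_fam, ← fam_mul, ← Category.assoc, ← Category.assoc, ← Category.assoc,
    ← MonoidalCategory.whiskerLeft_comp, ← MonoidalCategory.whiskerLeft_comp, ← MonoidalCategory.whiskerLeft_comp,
    map_mul_pr, h]

end Fam

section Pts

variable {S : Scheme.{u}} {A B H : Over S} [GrpObj A] [IsCommMonObj A] [GrpObj B] [IsCommMonObj B] [GrpObj H]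
  {ξ : A ⊗ H ⟶ B}
variable [IsProper A.hom] [Flat A.hom] [LocallyOfFinitePresentation A.hom] [GeometricallyConnected A.hom]
  [GeometricallyReduced A.hom] [IsSeparated B.hom]

omit [IsProper A.hom] [Flat A.hom] [LocallyOfFinitePresentation A.hom] [GeometricallyConnected A.hom]
  [GeometricallyReduced A.hom] [IsSeparated B.hom] [IsCommMonObj A] [IsCommMonObj B] [GrpObj H] in
theorem lift_unit (g : A ⊗ 𝟙_ (Over S) ⟶ B) (hg : Ptd g) :
    η[A] ≫ lift (𝟙 A) (toUnit A) ≫ g = η[B] := by
  have h1 : η[A] ≫ lift (𝟙 A) (toUnit A) = lift (1 : 𝟙_ (Over S) ⟶ A) (𝟙 _) := by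
    rw [comp_lift, Category.comp_id, Hom.one_def, toUnit_unique (η[A] ≫ toUnit A) (𝟙 _),
      toUnit_unique (toUnit (𝟙_ (Over S))) (𝟙 _), Category.id_comp]
  rw [← Category.assoc, h1, hg, Hom.one_def, toUnit_unique (toUnit (𝟙_ (Over S))) (𝟙 _), Category.id_comp]

/-- The homomorphism attached to a section of `H`. -/
def homOf (h : IsUniv A B H ξ) (s : 𝟙_ (Over S) ⟶ H) : EndAV.Hom A B :=
  have : IsMonHom (lift (𝟙 A) (toUnit A) ≫ (A ◁ s) ≫ ξ) :=
    K448.PointedHom.isMonHom_of_pointed _ (lift_unit _ (h.ptd.pull s))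
  EndAV.Hom.of (lift (𝟙 A) (toUnit A) ≫ (A ◁ s) ≫ ξ)

omit [GrpObj H] in
theorem toHom_homOf (h : IsUniv A B H ξ) (s : 𝟙_ (Over S) ⟶ H) :
    (homOf h s).toHom = lift (𝟙 A) (toUnit A) ≫ (A ◁ s) ≫ ξ := rfl

/-- sections of `H` are homomorphisms -/
def ptsEquiv (h : IsUniv A B H ξ) (ha : Add ξ) : (𝟙_ (Over S) ⟶ H) ≃* Multiplicative (EndAV.Hom A B) :=
  MulEquiv.ofBijective (MonoidHom.mk' (fun s => Multiplicative.ofAdd (homOf h s)) (fun s t => by
    rw [← ofAdd_add]
    congr 1
    apply EndAV.Hom.ext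
    rw [EndAV.Hom.toHom_add, toHom_homOf, toHom_homOf, toHom_homOf, ha, MonObj.comp_mul])) (by
    have hiso : IsIso (lift (𝟙 A) (toUnit A)) := ⟨fst A (𝟙_ (Over S)), lift_fst _ _, by
      apply CartesianMonoidalCategory.hom_ext
      · rw [Category.assoc, lift_fst, Category.id_comp, Category.comp_id]
      · exact toUnit_unique _ _⟩
    constructor
    · intro s t hst
      have h1 : homOf h s = homOf h t := Multiplicative.ofAdd.injective hst
      have h2 := congrArg (fun z => z.toHom) h1
      change (homOf h s).toHom = (homOf h t).toHom at h2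
      rw [toHom_homOf, toHom_homOf] at h2
      exact h.inj _ _ ((cancel_epi (lift (𝟙 A) (toUnit A))).mp h2)
    · intro φ
      obtain ⟨s, hs⟩ := h.ex (fst A (𝟙_ (Over S)) ≫ (Multiplicative.toAdd φ).toHom) (by
        unfold Ptd
        rw [← Category.assoc, lift_fst, MonObj.one_comp])
      refine ⟨s, ?_⟩
      change Multiplicative.ofAdd (homOf h s) = φ
      rw [← ofAdd_toAdd φ]
      congr 1
      apply EndAV.Hom.ext
      rw [toHom_homOf, hs, ← Category.assoc, lift_fst, Category.id_comp])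

end Pts

/-- **Geometric fibres**. -/
theorem exists_const {S : Scheme.{u}} {A B H : Over S} [GrpObj A] [IsCommMonObj A] [GrpObj B] [IsCommMonObj B]
    [GrpObj H] {ξ : A ⊗ H ⟶ B} (h : IsUniv A B H ξ) (ha : Add ξ)
    [Smooth A.hom] [IsProper A.hom] [GeometricallyConnected A.hom]
    [Smooth B.hom] [IsProper B.hom] [GeometricallyConnected B.hom] [LocallyOfFiniteType H.hom]
    (Ω : Type u) [Field Ω] [IsAlgClosed Ω] (t : Spec (CommRingCat.of Ω) ⟶ S) :
    ∃ (r : ℕ) (e : Red.bc t H ≅ TwC.const (Spec (CommRingCat.of Ω)) (Multiplicative (Fin r → ℤ))),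
      TwC.IsConstGrp (Multiplicative (Fin r → ℤ)) (Red.bc t H) e := by
  have hur : FormallyUnramified H.hom := by
    have := K448.SmoothConn.geometricallyReduced A.hom
    exact formallyUnramified h
  have a1 : Smooth (Red.bc t A).hom := inferInstanceAs (Smooth (pullback.snd A.hom t))
  have a2 : IsProper (Red.bc t A).hom := inferInstanceAs (IsProper (pullback.snd A.hom t))
  have a3 : GeometricallyConnected (Red.bc t A).hom := inferInstanceAs (GeometricallyConnected (pullback.snd A.hom t))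
  have a4 : GeometricallyIntegral (Red.bc t A).hom := K448.SmoothConn.geometricallyIntegral _
  have a5 : GeometricallyReduced (Red.bc t A).hom := K448.SmoothConn.geometricallyReduced _
  have b1 : Smooth (Red.bc t B).hom := inferInstanceAs (Smooth (pullback.snd B.hom t))
  have b2 : IsProper (Red.bc t B).hom := inferInstanceAs (IsProper (pullback.snd B.hom t))
  have b3 : GeometricallyConnected (Red.bc t B).hom := inferInstanceAs (GeometricallyConnected (pullback.snd B.hom t))
  have b4 : GeometricallyIntegral (Red.bc t B).hom := K448.SmoothConn.geometricallyIntegral _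
  have c1 : LocallyOfFiniteType (Red.bc t H).hom := inferInstanceAs (LocallyOfFiniteType (pullback.snd H.hom t))
  have c2 : FormallyUnramified (Red.bc t H).hom := MorphismProperty.pullback_snd (P := @FormallyUnramified) _ _ hur
  let E := ptsEquiv (h.bc t) (Add.bc t ha)
  have f1 : Module.Finite ℤ (EndAV.Hom (Red.bc t A) (Red.bc t B)) := K520.HomFin.finite_hom Ω _ _
  have f2 : Module.Free ℤ (EndAV.Hom (Red.bc t A) (Red.bc t B)) := K520.HomFin.free_hom Ω _ _
  let b := Module.finBasis ℤ (EndAV.Hom (Red.bc t A) (Red.bc t B))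
  refine ⟨_, K452.ConstPt.exists_const (Red.bc t H) (M := Multiplicative (Fin (Module.finrank ℤ (EndAV.Hom (Red.bc t A) (Red.bc t B))) → ℤ)) ?_⟩
  exact (AddEquiv.toMultiplicative b.equivFun.toAddEquiv.symm).trans E.symm

/-- The group law given by `exists_grp` is the pointwise one. -/
theorem add_of {S : Scheme.{u}} {A B H : Over S} [GrpObj A] [IsCommMonObj A] [GrpObj B] [IsCommMonObj B]
    [GrpObj H] [IsCommMonObj H] {ξ : A ⊗ H ⟶ B}
    (e : CGrpSh.pts Scheme.fppfPrecoverage H ≅ HomSh.homSh (QuotSh.J Scheme.fppfPrecoverage S)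
      (CGrpSh.pts Scheme.fppfPrecoverage A) (CGrpSh.pts Scheme.fppfPrecoverage B))
    (he : ∀ (T : Over S) (t : T ⟶ H), toFam (A := A) (B := B) (e.hom.hom.app (op T) (ULift.up (Additive.ofMul t))) =
      (A ◁ t) ≫ ξ) : Add ξ := by
  intro T s t
  rw [← he, ← he, ← he, ← toFam_add]
  congr 1
  exact map_add (e.hom.hom.app (op T)).hom (ULift.up (Additive.ofMul s)) (ULift.up (Additive.ofMul t))

/-- **All the properties**, given a universal family over a base scheme for which `H` is locally of finite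
presentation. -/
theorem main {S : Scheme.{u}} (A B : Over S)
    [GrpObj A] [IsCommMonObj A] [Smooth A.hom] [IsProper A.hom]
    (hA : ∀ s : S, ConnectedSpace ↥(A.hom.fiber s))
    [GrpObj B] [IsCommMonObj B] [Smooth B.hom] [IsProper B.hom]
    (hB : ∀ s : S, ConnectedSpace ↥(B.hom.fiber s)) {H : Over S} {ξ : A ⊗ H ⟶ B} (h : IsUniv A B H ξ)
    (hH : LocallyOfFinitePresentation H.hom) :
    ∃ (H : Over S) (_ : GrpObj H) (_ : IsCommMonObj H),
      Nonempty ((CGrpSh.pts Scheme.fppfPrecoverage H) ≅ HomSh.homSh (QuotSh.J Scheme.fppfPrecoverage S) (CGrpSh.pts Scheme.fppfPrecoverage A) (CGrpSh.pts Scheme.fppfPrecoverage B)) ∧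
      IsSeparated H.hom ∧ LocallyOfFinitePresentation H.hom ∧ LocallyQuasiFinite H.hom ∧ FormallyUnramified H.hom ∧
      (∀ (Ω : Type u) [Field Ω] [IsAlgClosed Ω] (t : Spec (CommRingCat.of Ω) ⟶ S),
        ∃ (r : ℕ) (e : Red.bc t H ≅ TwC.const (Spec (CommRingCat.of Ω)) (Multiplicative (Fin r → ℤ))),
          TwC.IsConstGrp (Multiplicative (Fin r → ℤ)) (Red.bc t H) e) ∧
      ∀ (R : Type u) [CommRing R] [IsDomain R] [IsDiscreteValuationRing R] (L : Type u) [Field L] [Algebra R L]
        [IsFractionRing R L] (a : Spec (CommRingCat.of L) ⟶ H.left) (b : Spec (CommRingCat.of R) ⟶ S),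
        a ≫ H.hom = Spec.map (CommRingCat.ofHom (algebraMap R L)) ≫ b →
        ∃ l : Spec (CommRingCat.of R) ⟶ H.left, Spec.map (CommRingCat.ofHom (algebraMap R L)) ≫ l = a ∧ l ≫ H.hom = b := by
  have h1 := K452.ConnFib.geometricallyConnected A hA
  have h2 := K452.ConnFib.geometricallyConnected B hB
  have h3 := K448.SmoothConn.geometricallyReduced A.hom
  obtain ⟨g1, g2, e, he⟩ := exists_grp h
  have h4 := formallyUnramified h
  exact ⟨H, g1, g2, ⟨e⟩, isSeparated h, hH, K147.LQF.locallyQuasiFinite_of_unramified H.hom, h4,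
    fun Ω _ _ t => exists_const h (add_of e he) Ω t, fun R _ _ _ L _ _ _ a b hab => dvr h R L a b hab⟩

end K452.HomFib
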