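import Groth.Agent.AlgSp.K594.FamRep
import Groth.Agent.CGrpSh.K731.RepPts

/-!
# Extensions of commutative group schemes by separated locally quasi-finite ones are group schemes

`exists_grp`: if `0 → N → E → H → 0` is exact (big fppf site), with `N` separated, locally quasi-finite and
locally of finite type over the base, then `E` is the sheaf of points of a commutative group scheme.
`exists_grp_of_openFam`: the same, when the projection has sections Zariski locally on `H`.
-/

set_option autoImplicit false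
universe u
open CategoryTheory CategoryTheory.Limits MonoidalCategory CartesianMonoidalCategory AlgebraicGeometry
open CGrpSh Opposite

namespace K452.TorsRep

open K594.Elem K594.Cover K594.FibSh K594.FppfRep K594.FamRep AlgSp

variable {S : Scheme.{u}}

/-- the underlying sheaf of sets -/
noncomputable abbrev sets : BigSite.Ab Scheme.fppfPrecoverage S ⥤ Sp S :=
  sheafCompose (QuotSh.J Scheme.fppfPrecoverage S) (forget AddCommGrpCat.{u + 1})

variable {N H : Over S} [GrpObj N] [IsCommMonObj N] [GrpObj H] [IsCommMonObj H]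
variable {E : BigSite.Ab Scheme.fppfPrecoverage S} (i : pts Scheme.fppfPrecoverage N ⟶ E)
  (q : E ⟶ pts Scheme.fppfPrecoverage H) (w : i ≫ q = 0)

include w in
theorem q_i {T : (Over S)ᵒᵖ} (x : (pts Scheme.fppfPrecoverage N).obj.obj T) :
    q.hom.app T (i.hom.app T x) = 0 := by
  have h : (i ≫ q).hom.app T x = 0 := by rw [w]; rfl
  exact h

variable (hex : (ShortComplex.mk i q w).ShortExact)

/-- a point as a section -/
def up {T X : Over S} [GrpObj X] [IsCommMonObj X] (x : T ⟶ X) :
    (pts Scheme.fppfPrecoverage X).obj.obj (op T) := ULift.up (Additive.ofMul x)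

omit [GrpObj N] [IsCommMonObj N] in
theorem up_inj {T : Over S} {x y : T ⟶ H} (h : up x = up y) : x = y :=
  congrArg (fun z : (pts Scheme.fppfPrecoverage H).obj.obj (op T) => z.down.toMul) h

omit [GrpObj N] [IsCommMonObj N] in
theorem map_up {T T' : Over S} (f : T' ⟶ T) (x : T ⟶ H) :
    (pts Scheme.fppfPrecoverage H).obj.map f.op (up x) = up (f ≫ x) := rfl

omit [GrpObj N] [IsCommMonObj N] in
theorem map_up_id {T : Over S} (f : T ⟶ H) :
    (pts Scheme.fppfPrecoverage H).obj.map f.op (up (𝟙 H)) = up f := by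
  rw [map_up, Category.comp_id]

include hex in
theorem locRep {U : Over S} (t : U ⟶ H) (g : E.obj.obj (op U)) (hg : q.hom.app (op U) g = up t) :
    IsRep (sets.map q) (U := U) (up t : ((sets.obj (pts Scheme.fppfPrecoverage H))).obj.obj (op U))
      (V := N ⊗ U) (snd N U)
      (i.hom.app (op (N ⊗ U)) (up (fst N U)) + E.obj.map (snd N U).op g) := by
  have hm : Mono i := hex.mono_f
  have nat : ∀ {T T' : Over S} (f : T' ⟶ T) (n : T ⟶ N), E.obj.map f.op (i.hom.app (op T) (up n)) =
      i.hom.app (op T') (up (f ≫ n)) := by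
    intro T T' f n
    exact (ConcreteCategory.congr_hom (i.hom.naturality f.op) (up n)).symm
  have natq : ∀ {T T' : Over S} (f : T' ⟶ T) (x : E.obj.obj (op T)),
      q.hom.app (op T') (E.obj.map f.op x) = (pts Scheme.fppfPrecoverage H).obj.map f.op (q.hom.app (op T) x) := by
    intro T T' f x
    exact ConcreteCategory.congr_hom (q.hom.naturality f.op) x
  have mapc : ∀ {T T' T'' : Over S} (f : T' ⟶ T) (f' : T'' ⟶ T') (x : E.obj.obj (op T)),
      E.obj.map f'.op (E.obj.map f.op x) = E.obj.map (f' ≫ f).op x := by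
    intro T T' T'' f f' x
    rw [op_comp, E.obj.map_comp]
    rfl
  have key : ∀ {T : Over S} (a : T ⟶ N ⊗ U), E.obj.map a.op
      (i.hom.app (op (N ⊗ U)) (up (fst N U)) + E.obj.map (snd N U).op g) =
      i.hom.app (op T) (up (a ≫ fst N U)) + E.obj.map (a ≫ snd N U).op g := by
    intro T a
    rw [map_add, nat, mapc]
  refine ⟨?_, fun {T} a b h1 h2 => ?_, fun {T} t' (x : E.obj.obj (op T)) hx => ?_⟩
  · change q.hom.app _ (i.hom.app _ _ + E.obj.map _ g) = (pts Scheme.fppfPrecoverage H).obj.map _ (up t)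
    rw [map_add, q_i i q w, zero_add, natq, hg]
  · replace h2 : E.obj.map a.op (i.hom.app (op (N ⊗ U)) (up (fst N U)) + E.obj.map (snd N U).op g) =
      E.obj.map b.op (i.hom.app (op (N ⊗ U)) (up (fst N U)) + E.obj.map (snd N U).op g) := h2
    rw [key, key, h1] at h2
    have h3 := up_inj (K731.Basic.injective_of_mono i _ (add_right_cancel h2))
    exact CartesianMonoidalCategory.hom_ext _ _ h3 h1
  · replace hx : q.hom.app _ x = (pts Scheme.fppfPrecoverage H).obj.map t'.op (up t) := hx
    obtain ⟨n, hn⟩ := K731.Basic.exists_of_exact_of_mono (ShortComplex.mk i q w) hex.exact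
      (T := op T) (x - E.obj.map t'.op g) (by
        change q.hom.app (op T) (x - E.obj.map t'.op g) = 0
        rw [map_sub, natq, hg, hx, sub_self])
    obtain ⟨n⟩ := n
    refine ⟨lift (Additive.toMul n) t', lift_snd _ _, ?_⟩
    refine (key (lift (Additive.toMul n) t')).trans ?_
    rw [lift_fst, lift_snd]
    have hn' : i.hom.app (op T) (up (Additive.toMul n)) = x - E.obj.map t'.op g := hn
    rw [hn', sub_add_cancel]

omit [GrpObj N] [IsCommMonObj N] in
/-- the lifting problem has solutions on a covering family -/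
theorem exists_fam [Epi q] {T : Over S} (t : T ⟶ H) : ∃ (J : Type u) (U : J → Over S) (r : ∀ j, U j ⟶ T),
    Fam r ∧ ∀ j, ∃ g : E.obj.obj (op (U j)), q.hom.app _ g = up (r j ≫ t) := by
  obtain ⟨R, hR, h⟩ := K731.Basic.exists_lift_of_epi q T (up t)
  obtain ⟨J, U, r, hr, hr'⟩ := exists_fam_of_mem hR
  exact ⟨J, U, r, hr, fun j => h (r j) (hr' j)⟩

omit [GrpObj N] [IsCommMonObj N] in
theorem map_up_sets {U : Over S} (r : U ⟶ H) :
    (sets.obj (pts Scheme.fppfPrecoverage H)).obj.map r.op (up (𝟙 H)) = up r := map_up_id r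

omit [GrpObj N] [IsCommMonObj N] in
/-- a representing object gives a group scheme -/
theorem exists_grp_of_isRep {V : Over S} (v : V ⟶ H) (ξ : E.obj.obj (op V))
    (h : IsRep (sets.map q) (U := H) (up (𝟙 H) : (sets.obj (pts Scheme.fppfPrecoverage H)).obj.obj (op H)) v ξ) :
    ∃ (_ : GrpObj V) (_ : IsCommMonObj V) (e : pts Scheme.fppfPrecoverage V ≅ E), IsMonHom v ∧
      K731.Full.hom (e.hom ≫ q) = v := by
  have hw : q.hom.app (op V) ξ = up v := by
    have := h.w
    exact this.trans (map_up_id v)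
  have natq : ∀ {T T' : Over S} (f : T' ⟶ T) (x : E.obj.obj (op T)),
      q.hom.app (op T') (E.obj.map f.op x) = (pts Scheme.fppfPrecoverage H).obj.map f.op (q.hom.app (op T) x) := by
    intro T T' f x
    exact ConcreteCategory.congr_hom (q.hom.naturality f.op) x
  have hbij : ∀ T : Over S, Function.Bijective (fun t : T ⟶ V => E.obj.map t.op ξ) := by
    intro T
    constructor
    · intro a b hab
      refine h.inj a b ?_ hab
      have h1 := congrArg (q.hom.app (op T)) hab
      change q.hom.app (op T) (E.obj.map a.op ξ) = q.hom.app (op T) (E.obj.map b.op ξ) at h1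
      rw [natq, natq, hw, map_up, map_up] at h1
      exact up_inj h1
    · intro x
      obtain ⟨t, ht⟩ : ∃ t : T ⟶ H, q.hom.app (op T) x = up t :=
        ⟨(q.hom.app (op T) x).down.toMul, rfl⟩
      obtain ⟨k, hk1, hk2⟩ := h.lift t x (ht.trans (map_up_id t).symm)
      exact ⟨k, hk2⟩
  obtain ⟨g1, g2, e, he⟩ := K731.RepPts.exists_grpObj E V (fun T => Equiv.ofBijective _ (hbij T)) (by
    intro T T' f x
    change E.obj.map (f ≫ x).op ξ = E.obj.map f.op (E.obj.map x.op ξ)
    rw [op_comp, E.obj.map_comp]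
    rfl)
  have h1 : K731.Full.hom (e.hom ≫ q) = v := by
    have h2 : e.hom.hom.app (op V) (up (𝟙 V)) = ξ := by
      refine (he V (𝟙 V)).trans ?_
      change E.obj.map (𝟙 V).op ξ = ξ
      rw [op_id, E.obj.map_id]
      rfl
    have h3 : (e.hom ≫ q).hom.app (op V) (up (𝟙 V)) = up v := by
      refine Eq.trans ?_ hw
      exact congrArg (q.hom.app (op V)) h2
    exact congrArg (fun z : (pts Scheme.fppfPrecoverage H).obj.obj (op V) => z.down.toMul) h3
  refine ⟨g1, g2, e, ?_, h1⟩
  rw [← h1]
  infer_instance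

include hex in
/-- **Representability of extensions**, the kernel being separated and locally quasi-finite. -/
theorem exists_grp (P : MorphismProperty Scheme.{u}) [P.IsStableUnderBaseChange]
    [P.IsLocalAtTarget Scheme.fppfPrecoverage] (hP : P ≤ Slqf) (hN : P N.hom) :
    ∃ (G : Over S) (_ : GrpObj G) (_ : IsCommMonObj G) (v : G ⟶ H) (_ : IsMonHom v)
    (e : pts Scheme.fppfPrecoverage G ≅ E), e.hom ≫ q = ptsMap Scheme.fppfPrecoverage v ∧ P v.left := by
  have he : Epi q := hex.epi_g
  obtain ⟨J, U, r, hr, hg⟩ := exists_fam q (𝟙 H)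
  choose g hg using hg
  have hg' : ∀ j, q.hom.app _ (g j) = up (r j) := fun j => by rw [hg, Category.comp_id]
  have hloc : ∀ j, IsRep (sets.map q) ((sets.obj (pts Scheme.fppfPrecoverage H)).obj.map (r j).op (up (𝟙 H)))
      (snd N (U j)) (i.hom.app (op (N ⊗ U j)) (up (fst N (U j))) + E.obj.map (snd N (U j)).op (g j)) := by
    intro j
    rw [map_up_sets]
    exact locRep i q w hex (r j) (g j) (hg' j)
  have hS : ∀ j, P (snd N (U j)).left := fun j => P.pullback_snd N.hom (U j).hom hN
  obtain ⟨V, v, ξ, hξ⟩ := exists_isRep_of_fam hr hloc (fun j => hP _ (hS j))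
  obtain ⟨g1, g2, e, hv, h1⟩ := exists_grp_of_isRep q v ξ hξ
  refine ⟨V, g1, g2, v, hv, e, ?_, prop_of_isRep_fam P hr hloc hS hξ⟩
  subst h1
  exact (K731.Full.ptsMap_hom _).symm

end K452.TorsRep
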