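import Groth.Agent.AbSch.K452.HomUniv
import Groth.Agent.AbSch.K452.TorsRep

/-!
# Universal families of homomorphisms exist if they exist locally on the base
-/

set_option autoImplicit false
universe u
open CategoryTheory CategoryTheory.Limits MonoidalCategory CartesianMonoidalCategory MonObj AlgebraicGeometry
open CGrpSh Opposite

namespace K452.HomGlue

open Groth.Agent.Etdl.H432.Sec Groth.Agent.Sga3B.DSPts K452.HomPts K452.HomFam K452.HomUniv K452.Restr
open K594.Elem K594.Cover K594.FamRep AlgSp K452.TorsRep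

variable {S : Scheme.{u}} {A B : Over S} [GrpObj A] [GrpObj B] [IsCommMonObj A] [IsCommMonObj B]

/-- The internal Hom as a sheaf of sets. -/
noncomputable abbrev HF (A B : Over S) [GrpObj A] [GrpObj B] [IsCommMonObj A] [IsCommMonObj B] : Sp S :=
  sets.obj (K771.HomEv.hom (P A) (P B))

/-- The morphism to the base. -/
noncomputable def toBase (F : Sp S) : F ⟶ (yon S).obj (Over.mk (𝟙 S)) :=
  ⟨{ app := fun T => TypeCat.ofHom (fun _ => (ULift.up (Over.mkIdTerminal.from T.unop) :
        ((yon S).obj (Over.mk (𝟙 S))).obj.obj T))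
     naturality := fun T T' f => by
      apply ConcreteCategory.hom_ext
      intro x
      exact congrArg ULift.up (Over.mkIdTerminal.hom_ext _ _) }⟩

theorem base_ext {T : Over S} (x y : ((yon S).obj (Over.mk (𝟙 S))).obj.obj (op T)) : x = y :=
  congrArg ULift.up (Over.mkIdTerminal.hom_ext x.down y.down)

/-- universal families through the sheaf of sets -/
theorem isUniv_of_isRep [IsProper A.hom] [Flat A.hom] [LocallyOfFinitePresentation A.hom] [GeometricallyConnected A.hom]
    [GeometricallyReduced A.hom] [IsSeparated B.hom] {V : Over S} {v : V ⟶ Over.mk (𝟙 S)} {φ : (HF A B).obj.obj (op V)}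
    (h : IsRep (toBase (HF A B)) (U := Over.mk (𝟙 S)) ⟨𝟙 _⟩ v φ) :
    IsUniv A B V (toFam (A := A) (B := B) (T := V) φ) where
  ptd := ptd_toFam _
  inj {T} s t hst := by
    refine h.inj s t (Over.mkIdTerminal.hom_ext _ _) ?_
    apply toFam_injective (A := A) (B := B) (T := T)
    change toFam (r (K771.HomEv.hom (P A) (P B)) s φ) = toFam (r (K771.HomEv.hom (P A) (P B)) t φ)
    rw [toFam_r, toFam_r, hst]
  ex {T} f hf := by
    obtain ⟨ψ, hψ⟩ := exists_toFam hf
    obtain ⟨k, -, hk⟩ := h.lift (Over.mkIdTerminal.from T) (show (HF A B).obj.obj (op T) from ψ) (base_ext _ _)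
    refine ⟨k, ?_⟩
    rw [← toFam_r, ← hψ]
    exact congrArg (toFam (A := A) (B := B) (T := T)) hk

section

variable (U : Over S) {G : Over U.left} {ξ : Red.bc U.hom A ⊗ G ⟶ Red.bc U.hom B}
variable [IsProper A.hom] [Flat A.hom] [LocallyOfFinitePresentation A.hom] [GeometricallyConnected A.hom]
    [GeometricallyReduced A.hom] [IsSeparated B.hom]

/-- A universal family over `U → S` represents the sheaf over `U`. -/
theorem exists_isRep_of_univ (h : IsUniv (Red.bc U.hom A) (Red.bc U.hom B) G ξ) :
    ∃ φ : (HF A B).obj.obj (op ((Over.map U.hom).obj G)),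
      IsRep (toBase (HF A B)) (U := U) ⟨Over.mkIdTerminal.from U⟩ (V := (Over.map U.hom).obj G) (str G) φ := by
  obtain ⟨g, hg⟩ := exists_fam U.hom ξ
  obtain ⟨φ, hφ⟩ := exists_toFam ((ptd_fam_iff U.hom).mp (by rw [hg]; exact h.ptd) : Ptd g)
  refine ⟨φ, base_ext _ _, fun {W} a b h1 h2 => ?_, fun {W} t x _ => ?_⟩
  · have h3 : (A ◁ a) ≫ g = (A ◁ b) ≫ g := by
      rw [← hφ, ← toFam_r, ← toFam_r]
      exact congrArg (toFam (A := A) (B := B) (T := W)) h2
    obtain ⟨W', κ, hκ⟩ := exists_lower (a ≫ str G)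
    have hl : ∀ c : W ⟶ (Over.map U.hom).obj G, c ≫ str G = a ≫ str G → 
        ∃ c' : W' ⟶ G, (Over.map U.hom).map c' = κ.inv ≫ c := by
      intro c hc
      refine ⟨Over.homMk (κ.inv ≫ c).left ?_, Over.OverMorphism.ext rfl⟩
      have h4 : (κ.inv ≫ c) ≫ str G = str W' := by
        rw [Category.assoc, hc, ← hκ, Iso.inv_hom_id_assoc]
      exact congrArg (fun z => z.left) h4
    obtain ⟨a', ha'⟩ := hl a rfl
    obtain ⟨b', hb'⟩ := hl b h1.symm
    have h5 : a' = b' := by
      apply h.inj
      rw [← hg, whisker_fam, whisker_fam, ha', hb', MonoidalCategory.whiskerLeft_comp,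
        MonoidalCategory.whiskerLeft_comp, Category.assoc, Category.assoc, h3]
    exact (cancel_epi κ.inv).mp (by rw [← ha', ← hb', h5])
  · obtain ⟨W', κ, hκ⟩ := exists_lower t
    let x' : A ⊗ W ⟶ B := toFam (A := A) (B := B) (T := W) x
    have hx' : Ptd x' := ptd_toFam _
    obtain ⟨k', hk'⟩ := h.ex (fam U.hom ((A ◁ κ.inv) ≫ x')) ((ptd_fam_iff U.hom).mpr (hx'.pull κ.inv))
    rw [← hg, whisker_fam] at hk'
    have h4 := fam_injective U.hom hk'
    refine ⟨κ.hom ≫ (Over.map U.hom).map k', ?_, ?_⟩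
    · rw [Category.assoc, map_str, hκ]
    · apply toFam_injective (A := A) (B := B) (T := W)
      change toFam (r (K771.HomEv.hom (P A) (P B)) (κ.hom ≫ (Over.map U.hom).map k') φ) = x'
      rw [toFam_r, hφ, MonoidalCategory.whiskerLeft_comp, Category.assoc, h4, ← Category.assoc,
        ← MonoidalCategory.whiskerLeft_comp, Iso.hom_inv_id, MonoidalCategory.whiskerLeft_id, Category.id_comp]

end

/-- **Gluing of universal families.** -/
theorem exists_univ_of_local [IsProper A.hom] [Flat A.hom] [LocallyOfFinitePresentation A.hom]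
    [GeometricallyConnected A.hom] [GeometricallyReduced A.hom] [IsSeparated B.hom] {I : Type u} (U : I → Over S)
    (hU : ∀ k, IsOpenImmersion (U k).hom)
    (hc : ∀ s : S, ∃ (k : I) (x : (U k).left), (U k).hom x = s)
    (h : ∀ k, ∃ (G : Over (U k).left) (ξ : Red.bc (U k).hom A ⊗ G ⟶ Red.bc (U k).hom B),
      IsUniv (Red.bc (U k).hom A) (Red.bc (U k).hom B) G ξ) :
    ∃ (H : Over S) (ξ : A ⊗ H ⟶ B), IsUniv A B H ξ := by
  choose G ξ hG using h
  choose φ hφ using fun k => exists_isRep_of_univ (U k) (hG k)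
  have hopen : ∀ k, IsOpenImmersion (Over.mkIdTerminal.from (U k)).left := fun k => by
    have h1 : (Over.mkIdTerminal.from (U k)).left = (U k).hom := by
      have h2 := Over.w (Over.mkIdTerminal.from (U k))
      exact (Category.comp_id _).symm.trans h2
    rw [h1]
    exact hU k
  have hfam : Fam (fun k => Over.mkIdTerminal.from (U k)) :=
    { flat := fun k => by
        have := hopen k
        infer_instance
      lfp := fun k => by
        have := hopen k
        infer_instance
      surj := fun t => by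
        obtain ⟨k, x, hx⟩ := hc t
        refine ⟨k, x, ?_⟩
        have h1 : (Over.mkIdTerminal.from (U k)).left = (U k).hom := by
          have h2 := Over.w (Over.mkIdTerminal.from (U k))
          exact (Category.comp_id _).symm.trans h2
        rw [h1]
        exact hx }
  obtain ⟨V, v, ψ, hψ⟩ := exists_isRep_of_openFam (f := toBase (HF A B)) (U := Over.mk (𝟙 S)) (y := ⟨𝟙 _⟩)
    hfam hopen (v := fun k => str (G k)) (ξ := φ) (fun k => by
      have h1 : ((yon S).obj (Over.mk (𝟙 S))).obj.map (Over.mkIdTerminal.from (U k)).op ⟨𝟙 _⟩ =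
        ⟨Over.mkIdTerminal.from (U k)⟩ := base_ext _ _
      rw [h1]
      exact hφ k)
  exact ⟨V, _, isUniv_of_isRep hψ⟩

end K452.HomGlue
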