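import Groth.Agent.AbSch.K452.HomSpace
import Groth.Agent.Sga3.H515.GrpModel
import Groth.Agent.ConsPropPair.K286.Desc
import Groth.Agent.AbSch.K448.PointedHom
import Groth.Agent.AbSch.K448.SmoothConn
import Groth.Agent.AbSch.K452.HomFib
import Groth.Agent.WittGrp.K719.GrpHom

/-!
# Representability of the homomorphisms between abelian schemes over an arbitrary base
-/

set_option autoImplicit false
universe u
open CategoryTheory CategoryTheory.Limits MonoidalCategory CartesianMonoidalCategory MonObj AlgebraicGeometry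
open CGrpSh Opposite

namespace K452.HomGood

open K452.HomFam K452.HomUniv K452.HomProps K452.HomGlue K452.HomSpace

variable {S : Scheme.{u}}

/-- The homomorphisms from `A` to `B` are represented by a scheme locally of finite presentation. -/
def Good (A B : Over S) [GrpObj A] [GrpObj B] : Prop :=
  ∃ (H : Over S) (ξ : A ⊗ H ⟶ B), IsUniv A B H ξ ∧ LocallyOfFinitePresentation H.hom

/-- Universal families are unique. -/
theorem exists_iso_of_univ {A B H H' : Over S} [GrpObj A] [GrpObj B] {ξ : A ⊗ H ⟶ B} {ξ' : A ⊗ H' ⟶ B}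
    (h : IsUniv A B H ξ) (h' : IsUniv A B H' ξ') : Nonempty (H ≅ H') := by
  obtain ⟨a, ha⟩ := h'.ex ξ h.ptd
  obtain ⟨b, hb⟩ := h.ex ξ' h'.ptd
  refine ⟨⟨a, b, ?_, ?_⟩⟩
  · apply h.inj
    rw [MonoidalCategory.whiskerLeft_comp, Category.assoc, hb, ha, MonoidalCategory.whiskerLeft_id, Category.id_comp]
  · apply h'.inj
    rw [MonoidalCategory.whiskerLeft_comp, Category.assoc, ha, hb, MonoidalCategory.whiskerLeft_id, Category.id_comp]

theorem Good.bc {A B : Over S} [GrpObj A] [GrpObj B] (h : Good A B) {S' : Scheme.{u}} (f : S' ⟶ S) :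
    Good (Red.bc f A) (Red.bc f B) := by
  obtain ⟨H, ξ, h1, h2⟩ := h
  exact ⟨_, _, h1.bc f, inferInstanceAs (LocallyOfFinitePresentation (pullback.snd _ f))⟩

theorem Good.ofIso {A B A' B' : Over S} [GrpObj A] [GrpObj B] [GrpObj A'] [GrpObj B'] (h : Good A B)
    (a : A' ≅ A) (b : B ≅ B') [IsMonHom a.hom] [IsMonHom b.hom] : Good A' B' := by
  obtain ⟨H, ξ, h1, h2⟩ := h
  exact ⟨_, _, h1.ofIso a b, h2⟩

theorem prop_of_iso (P : MorphismProperty Scheme.{u}) [P.RespectsIso] {S' : Scheme.{u}} {Y Z : Over S'}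
    (e : Y ≅ Z) (h : P Z.hom) : P Y.hom := by
  have h1 : IsIso e.hom.left := inferInstanceAs (IsIso ((Over.forget _).map e.hom))
  rw [← Over.w e.hom, P.cancel_left_of_respectsIso]
  exact h

/-- Zariski-local nature of `Good`. -/
theorem good_of_cover {A B : Over S} [GrpObj A] [GrpObj B] [IsCommMonObj A] [IsCommMonObj B]
    [IsProper A.hom] [Flat A.hom] [LocallyOfFinitePresentation A.hom]
    [GeometricallyConnected A.hom] [GeometricallyReduced A.hom] [IsSeparated B.hom] (𝒰 : S.AffineOpenCover)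
    [Small.{u} 𝒰.I₀]
    (h : ∀ i, Good (Red.bc (𝒰.f i) A) (Red.bc (𝒰.f i) B)) : Good A B := by
  obtain ⟨H, ξ, hH⟩ : ∃ (H : Over S) (ξ : A ⊗ H ⟶ B), IsUniv A B H ξ := by
    refine exists_univ_of_local (I := Shrink.{u} 𝒰.I₀) (fun k => Over.mk (𝒰.f ((equivShrink _).symm k)))
      (fun k => 𝒰.map_prop _) (fun s => ?_) (fun k => ?_)
    · obtain ⟨x, hx⟩ := 𝒰.covers s
      refine ⟨equivShrink _ (𝒰.idx s), ?_⟩
      rw [Equiv.symm_apply_apply]
      exact ⟨x, hx⟩
    · obtain ⟨G, ζ, h1, -⟩ := h ((equivShrink _).symm k)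
      exact ⟨G, ζ, h1⟩
  refine ⟨H, ξ, hH, ?_⟩
  rw [IsZariskiLocalAtTarget.iff_of_openCover (P := @LocallyOfFinitePresentation) 𝒰.openCover]
  intro i
  obtain ⟨G, ζ, h1, h2⟩ := h i
  obtain ⟨e⟩ := exists_iso_of_univ (hH.bc (𝒰.f i)) h1
  exact prop_of_iso @LocallyOfFinitePresentation (Y := Red.bc (𝒰.f i) H) e h2

/-- The statement of `S18336`. -/
def MorHyp : Prop := ∀ (S : Scheme.{u}) [IsLocallyNoetherian S]
    (X Y : Over S) [IsProper X.hom] [Flat X.hom] [IsSeparated Y.hom] [LocallyOfFiniteType Y.hom]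
    [QuasiCompact Y.hom], MorSpace X Y

/-- The statement of `K630.GeomConn.exists_idem`. -/
def IdemHyp : Prop := ∀ {Λ₁ Λ : Type u} [CommRing Λ₁] [CommRing Λ] (ψ : Λ₁ →+* Λ) (A₁ : Over (Spec (CommRingCat.of Λ₁)))
    [IsProper A₁.hom] [Smooth A₁.hom] (_ : GeometricallyConnected (Red.bc (Spec.map (CommRingCat.ofHom ψ)) A₁).hom),
    ∃ e : Λ₁, e * e = e ∧ ψ e = 1 ∧
      GeometricallyConnected (Red.bc (Spec.map (CommRingCat.ofHom (algebraMap Λ₁ (Localization.Away e)))) A₁).hom

theorem geometricallyConnected_of_bc_one {Λ : Type u} [CommRing Λ] {A : Over (Spec (CommRingCat.of Λ))}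
    (h : GeometricallyConnected (Red.bc (Spec.map (CommRingCat.ofHom (algebraMap Λ (Localization.Away (1 : Λ))))) A).hom) :
    GeometricallyConnected A.hom := by
  let φ := Spec.map (CommRingCat.ofHom (algebraMap Λ (Localization.Away (1 : Λ))))
  have hi : IsIso φ := by
    have h1 : Function.Bijective (algebraMap Λ (Localization.Away (1 : Λ))) :=
      (IsLocalization.atOne Λ (Localization.Away (1 : Λ))).bijective
    have : IsIso (CommRingCat.ofHom (algebraMap Λ (Localization.Away (1 : Λ)))) := by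
      rw [ConcreteCategory.isIso_iff_bijective]
      exact h1
    infer_instance
  have h2 : IsIso (pullback.fst A.hom φ) := inferInstance
  have h3 : pullback.fst A.hom φ ≫ A.hom = pullback.snd A.hom φ ≫ φ := pullback.condition
  have h4 : GeometricallyConnected (pullback.snd A.hom φ) := h
  have h5 : GeometricallyConnected (pullback.snd A.hom φ ≫ φ) :=
    (MorphismProperty.cancel_right_of_respectsIso @GeometricallyConnected _ φ).mpr h4
  rw [← h3] at h5
  exact (MorphismProperty.cancel_left_of_respectsIso @GeometricallyConnected _ A.hom).mp h5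

/-- **The affine case.** -/
theorem good_affine (Hmor : MorHyp.{u}) (Hidem : IdemHyp.{u}) {Λ : Type u} [CommRing Λ]
    (A B : Over (Spec (CommRingCat.of Λ))) [GrpObj A] [GrpObj B] [Smooth A.hom] [IsProper A.hom] [Smooth B.hom]
    [IsProper B.hom] [GeometricallyConnected A.hom] [GeometricallyConnected B.hom] : Good A B := by
  let P2 : Fin 2 → MorphismProperty Scheme.{u} := ![@Smooth, @IsProper]
  have hP2 : ∀ a, Groth.Agent.Ega43.LimitDescend.DescendsLim (P2 a) := by
    intro a
    fin_cases a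
    · exact Groth.Agent.Sga3.H515.LimSmooth.descendsLim_smooth
    · exact K286.Desc.descendsLim_isProper
  have hP2' : ∀ a, (P2 a).IsStableUnderBaseChange := by
    intro a
    fin_cases a
    · exact inferInstanceAs (MorphismProperty.IsStableUnderBaseChange @Smooth)
    · exact inferInstanceAs (MorphismProperty.IsStableUnderBaseChange @IsProper)
  have hone : IsMonHom (1 : A ⟶ B) := K719.GrpHom.isMonHom_one
  obtain ⟨R₀, hR₀, M, -, -, -, -, -, -, h1, h2, -⟩ :=
    Groth.Agent.Sga3.H515.GrpModel.exists_model_of_props (1 : A ⟶ B) P2 P2 (fun a : Empty => a.elim) hP2 hP2' hP2 hP2'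
      (fun a => a.elim) (fun a => a.elim)
  have hA1 : Smooth M.G₀.hom := h1 0 ‹_›
  have hA2 : IsProper M.G₀.hom := h1 1 ‹_›
  have hB1 : Smooth M.H₀.hom := h2 0 ‹_›
  have hB2 : IsProper M.H₀.hom := h2 1 ‹_›
  have hnoeth : IsNoetherianRing R₀ := by
    have h3 : Algebra.FiniteType ℤ R₀ := (Subalgebra.fg_iff_finiteType R₀).mp hR₀
    exact Algebra.FiniteType.isNoetherianRing ℤ R₀
  have key : ∀ (X₀ : Over (Spec (CommRingCat.of R₀))) (X : Over (Spec (CommRingCat.of Λ)))
      (e : Red.bc (Spec.map (CommRingCat.ofHom R₀.val.toRingHom)) X₀ ≅ X) (_ : Smooth X₀.hom) (_ : IsProper X₀.hom)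
      (_ : GeometricallyConnected X.hom), GeometricallyConnected X₀.hom := by
    intro X₀ X e _ _ hX
    obtain ⟨d, -, hd2, hd3⟩ := Hidem R₀.val.toRingHom X₀ (prop_of_iso @GeometricallyConnected e hX)
    have hd4 : d = 1 := Subtype.val_injective hd2
    subst hd4
    exact geometricallyConnected_of_bc_one hd3
  have hA3 : GeometricallyConnected M.G₀.hom := key _ _ M.eG hA1 hA2 ‹_›
  have hB3 : GeometricallyConnected M.H₀.hom := key _ _ M.eH hB1 hB2 ‹_›
  have hA5 : GeometricallyReduced M.G₀.hom := K448.SmoothConn.geometricallyReduced _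
  have hB5 : GeometricallyReduced M.H₀.hom := K448.SmoothConn.geometricallyReduced _
  have hA4 : IsCommMonObj M.G₀ := K448.PointedHom.isCommMonObj M.G₀
  have hB4 : IsCommMonObj M.H₀ := K448.PointedHom.isCommMonObj M.H₀
  have h5 : Good M.G₀ M.H₀ := exists_univ (Hmor _ _ _)
  have h6 : IsMonHom M.eG.symm.hom := inferInstanceAs (IsMonHom M.eG.inv)
  exact (h5.bc (Spec.map (CommRingCat.ofHom R₀.val.toRingHom))).ofIso M.eG.symm M.eH

/-- **The general case.** -/
theorem good (Hmor : MorHyp.{u}) (Hidem : IdemHyp.{u}) (A B : Over S) [GrpObj A] [IsCommMonObj A] [Smooth A.hom]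
    [IsProper A.hom] [GrpObj B] [IsCommMonObj B] [Smooth B.hom] [IsProper B.hom] [GeometricallyConnected A.hom]
    [GeometricallyConnected B.hom] : Good A B := by
  have hA5 : GeometricallyReduced A.hom := K448.SmoothConn.geometricallyReduced _
  refine good_of_cover S.affineOpenCover fun i => ?_
  let f := S.affineOpenCover.f i
  have h1 : Smooth (Red.bc f A).hom := inferInstanceAs (Smooth (pullback.snd A.hom f))
  have h2 : IsProper (Red.bc f A).hom := inferInstanceAs (IsProper (pullback.snd A.hom f))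
  have h3 : GeometricallyConnected (Red.bc f A).hom := inferInstanceAs (GeometricallyConnected (pullback.snd A.hom f))
  have h4 : Smooth (Red.bc f B).hom := inferInstanceAs (Smooth (pullback.snd B.hom f))
  have h5 : IsProper (Red.bc f B).hom := inferInstanceAs (IsProper (pullback.snd B.hom f))
  have h6 : GeometricallyConnected (Red.bc f B).hom := inferInstanceAs (GeometricallyConnected (pullback.snd B.hom f))
  exact @good_affine Hmor Hidem _ _ (Red.bc f A) (Red.bc f B) _ _ h1 h2 h4 h5 h3 h6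

/-- `S19297` from `S18336` and the constancy of the number of connected components. -/
theorem exists_grp (Hmor : MorHyp.{u}) (Hidem : IdemHyp.{u}) (A B : Over S)
    [GrpObj A] [IsCommMonObj A] [Smooth A.hom] [IsProper A.hom]
    (hA : ∀ s : S, ConnectedSpace ↥(A.hom.fiber s))
    [GrpObj B] [IsCommMonObj B] [Smooth B.hom] [IsProper B.hom]
    (hB : ∀ s : S, ConnectedSpace ↥(B.hom.fiber s)) :
    ∃ (H : Over S) (_ : GrpObj H) (_ : IsCommMonObj H),
      Nonempty ((CGrpSh.pts Scheme.fppfPrecoverage H) ≅ HomSh.homSh (QuotSh.J Scheme.fppfPrecoverage S) (CGrpSh.pts Scheme.fppfPrecoverage A) (CGrpSh.pts Scheme.fppfPrecoverage B)) ∧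
      IsSeparated H.hom ∧ LocallyOfFinitePresentation H.hom ∧ LocallyQuasiFinite H.hom ∧ FormallyUnramified H.hom ∧
      (∀ (Ω : Type u) [Field Ω] [IsAlgClosed Ω] (t : Spec (CommRingCat.of Ω) ⟶ S),
        ∃ (r : ℕ) (e : Red.bc t H ≅ TwC.const (Spec (CommRingCat.of Ω)) (Multiplicative (Fin r → ℤ))),
          TwC.IsConstGrp (Multiplicative (Fin r → ℤ)) (Red.bc t H) e) ∧
      ∀ (R : Type u) [CommRing R] [IsDomain R] [IsDiscreteValuationRing R] (L : Type u) [Field L] [Algebra R L]
        [IsFractionRing R L] (a : Spec (CommRingCat.of L) ⟶ H.left) (b : Spec (CommRingCat.of R) ⟶ S),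
        a ≫ H.hom = Spec.map (CommRingCat.ofHom (algebraMap R L)) ≫ b →
        ∃ l : Spec (CommRingCat.of R) ⟶ H.left, Spec.map (CommRingCat.ofHom (algebraMap R L)) ≫ l = a ∧ l ≫ H.hom = b := by
  have h1 := K452.ConnFib.geometricallyConnected A hA
  have h2 := K452.ConnFib.geometricallyConnected B hB
  obtain ⟨H, ξ, h3, h4⟩ := good Hmor Hidem A B
  exact K452.HomFib.main A B hA hB h3 h4

end K452.HomGood
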