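import Groth.Agent.AbSch.K452.HomGood
import Groth.Agent.AbSch.K630.GeomConn

/-!
# `S19297` modulo `S18336`
-/

set_option autoImplicit false
universe u
open CategoryTheory CategoryTheory.Limits MonoidalCategory CartesianMonoidalCategory MonObj AlgebraicGeometry

namespace K452.HomMain

theorem idemHyp : K452.HomGood.IdemHyp.{u} := fun ψ A₁ _ _ h => K630.GeomConn.exists_idem ψ A₁ h

/-- `S19297` from `S18336`. -/
theorem exists_grp {S : Scheme.{u}} (Hmor : K452.HomGood.MorHyp.{u}) (A B : Over S)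
    [GrpObj A] [IsCommMonObj A] [Smooth A.hom] [IsProper A.hom]
    (hA : ∀ s : S, ConnectedSpace ↥(A.hom.fiber s))
    [GrpObj B] [IsCommMonObj B] [Smooth B.hom] [IsProper B.hom]
    (hB : ∀ s : S, ConnectedSpace ↥(B.hom.fiber s)) :
    ∃ (H : Over S) (_ : GrpObj H) (_ : IsCommMonObj H),
      Nonempty ((CGrpSh.pts Scheme.fppfPrecoverage H) ≅ HomSh.homSh (QuotSh.J Scheme.fppfPrecoverage S) (CGrpSh.pts Scheme.fppfPrecoverage A) (CGrpSh.pts Scheme.fppfPrecoverage B)) ∧
      IsSeparated H.hom ∧ LocallyOfFinitePresentation H.hom ∧ LocallyQuasiFinite H.hom ∧ FormallyUnramified H.hom ∧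
      (∀ (Ω : Type u) [Field Ω] [IsAlgClosed Ω] (t : Spec (CommRingCat.of Ω) ⟶ S),
        ∃ (r : ℕ) (e : Red.bc t H ≅ TwC.const (Spec (CommRingCat.of Ω)) (Multiplicative (Fin r → ℤ))),
          TwC.IsConstGrp (Multiplicative (Fin r → ℤ)) (Red.bc t H) e) ∧
      ∀ (R : Type u) [CommRing R] [IsDomain R] [IsDiscreteValuationRing R] (L : Type u) [Field L] [Algebra R L]
        [IsFractionRing R L] (a : Spec (CommRingCat.of L) ⟶ H.left) (b : Spec (CommRingCat.of R) ⟶ S),
        a ≫ H.hom = Spec.map (CommRingCat.ofHom (algebraMap R L)) ≫ b →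
        ∃ l : Spec (CommRingCat.of R) ⟶ H.left, Spec.map (CommRingCat.ofHom (algebraMap R L)) ≫ l = a ∧ l ≫ H.hom = b :=
  K452.HomGood.exists_grp Hmor idemHyp A B hA hB

end K452.HomMain
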