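import Groth.Agent.AbSch.K452.HomUniv
import Groth.Agent.AlgSp.K642.HomPR
import Groth.Agent.S0613

/-!
# Properties of universal families of homomorphisms

* `Ptd.ext_of_surjective`: rigidity;
* `exists_eqLocus`, `isSeparated`: `H → S` is separated;
* `formallyUnramified`: `H → S` is formally unramified;
* `dvr`: the valuative criterion for discrete valuation rings.
-/

set_option autoImplicit false
universe u
open CategoryTheory CategoryTheory.Limits MonoidalCategory CartesianMonoidalCategory MonObj AlgebraicGeometry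
open Opposite

noncomputable section

namespace K452.HomProps

open K452.HomFam K452.HomUniv K448.RigidOver K448.Rigidity K448.RigidityMain

variable {S : Scheme.{u}} {A B : Over S} [GrpObj A] [GrpObj B]

section Rigid

variable [IsProper A.hom] [Flat A.hom] [LocallyOfFinitePresentation A.hom] [GeometricallyConnected A.hom]
  [GeometricallyReduced A.hom] [IsSeparated B.hom] {T : Over S}

omit [IsSeparated B.hom] in
/-- A pointed family trivial over the members of a surjective family is trivial. -/
theorem Ptd.eq_one_of_surjective {f : A ⊗ T ⟶ B} (hf : Ptd f) {T₀ : Over S} (t : T₀ ⟶ T) [Surjective t.left]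
    (h : (A ◁ t) ≫ f = 1) : f = 1 := by
  have h1 : ∀ x, x ∈ collapsed (snd A T).left f.left := by
    intro x
    obtain ⟨x₀, rfl⟩ := t.left.surjective x
    have key : ∀ z : ↥(A ⊗ T).left, (snd A T).left z = t.left x₀ → f.left z = η[B].left (T.hom (t.left x₀)) := by
      intro z hz
      obtain ⟨z₀, hz₀, hz₀'⟩ := Scheme.exists_preimage_of_isPullback (isPullback_whiskerLeft A t) z x₀ hz
      have h2 : f.left z = ((A ◁ t) ≫ f).left z₀ := by
        rw [Over.comp_left, Scheme.Hom.comp_apply, hz₀]
      rw [h2, h, Hom.one_def, Over.comp_left, Scheme.Hom.comp_apply]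
      congr 1
      have h3 : (toUnit (A ⊗ T₀)).left = (A ⊗ T₀).hom := by
        have := Over.w (toUnit (A ⊗ T₀))
        exact (Category.comp_id _).symm.trans this
      rw [h3, ← Scheme.Hom.comp_apply, Over.w, ← hz₀', ← Scheme.Hom.comp_apply, Over.w]
    rintro _ ⟨z, hz, rfl⟩ _ ⟨z', hz', rfl⟩
    rw [key z hz, key z' hz']
  obtain ⟨k, hk, -⟩ := existsUnique_factor (snd A T).left f.left h1
  have h2 : k ≫ B.hom = T.hom := by
    have h3 : (snd A T).left ≫ k ≫ B.hom = (snd A T).left ≫ T.hom := by
      rw [← Category.assoc, hk, Over.w, Over.w]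
    have h4 := congrArg (fun z => (lift (1 : T ⟶ A) (𝟙 T)).left ≫ z) h3
    change (lift (1 : T ⟶ A) (𝟙 T)).left ≫ (snd A T).left ≫ k ≫ B.hom =
      (lift (1 : T ⟶ A) (𝟙 T)).left ≫ (snd A T).left ≫ T.hom at h4
    have e1 : (lift (1 : T ⟶ A) (𝟙 T)).left ≫ (snd A T).left = 𝟙 T.left := by
      rw [← Over.comp_left, lift_snd]
      rfl
    rw [reassoc_of% e1, reassoc_of% e1] at h4
    exact h4
  let k' : T ⟶ B := Over.homMk k h2
  have hk' : snd A T ≫ k' = f := Over.OverMorphism.ext hk
  have h5 : k' = 1 := by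
    have h6 := hf
    unfold Ptd at h6
    rw [← hk', ← Category.assoc, lift_snd, Category.id_comp] at h6
    exact h6
  rw [← hk', h5, MonObj.comp_one]

omit [IsProper A.hom] [Flat A.hom] [LocallyOfFinitePresentation A.hom] [GeometricallyConnected A.hom]
  [GeometricallyReduced A.hom] [IsSeparated B.hom] in
theorem Ptd.div {f g : A ⊗ T ⟶ B} (hf : Ptd f) (hg : Ptd g) : Ptd (f * g⁻¹) := by
  unfold Ptd at hf hg ⊢
  rw [MonObj.comp_mul, GrpObj.comp_inv, hf, hg, inv_one, _root_.mul_one]

omit [IsSeparated B.hom] in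
/-- **Rigidity.** -/
theorem Ptd.ext_of_surjective {f g : A ⊗ T ⟶ B} (hf : Ptd f) (hg : Ptd g) {T₀ : Over S} (t : T₀ ⟶ T)
    [Surjective t.left] (h : (A ◁ t) ≫ f = (A ◁ t) ≫ g) : f = g := by
  have h1 := Ptd.eq_one_of_surjective (Ptd.div hf hg) t (by
    rw [MonObj.comp_mul, GrpObj.comp_inv, h, mul_inv_cancel])
  exact mul_inv_eq_one.mp h1

end Rigid

section Locus

omit [GrpObj A] [GrpObj B] in
/-- The locus where two families agree. -/
theorem exists_eqLocus [IsProper A.hom] [Flat A.hom] [LocallyOfFinitePresentation A.hom] [IsSeparated B.hom]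
    {T : Over S} (f g : A ⊗ T ⟶ B) : ∃ (E : Over S) (i : E ⟶ T), IsClosedImmersion i.left ∧
      ∀ (W : Over S) (t : W ⟶ T), (∃ t' : W ⟶ E, t' ≫ i = t) ↔ (A ◁ t) ≫ f = (A ◁ t) ≫ g := by
  obtain ⟨E, i, hi, h⟩ := K642.HomPR.exists_locus (snd A T).left B.hom f.left g.left (by rw [Over.w, Over.w])
  refine ⟨Over.mk (i ≫ T.hom), Over.homMk i rfl, hi, fun W t => ?_⟩
  have h1 := h W.left t.left (A ⊗ W).left (A ◁ t).left (snd A W).left (isPullback_whiskerLeft A t)
  constructor
  · rintro ⟨t', ht'⟩
    have h2 := h1.mp ⟨t'.left, congrArg (fun z => z.left) ht'⟩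
    exact Over.OverMorphism.ext h2
  · intro h2
    obtain ⟨t', ht'⟩ := h1.mpr (congrArg (fun z => z.left) h2)
    refine ⟨Over.homMk t' ?_, Over.OverMorphism.ext ht'⟩
    change t' ≫ i ≫ T.hom = W.hom
    rw [← Category.assoc, ht', Over.w]

variable {H : Over S} {ξ : A ⊗ H ⟶ B} (h : IsUniv A B H ξ)

include h in
/-- `H → S` is separated. -/
theorem isSeparated [IsProper A.hom] [Flat A.hom] [LocallyOfFinitePresentation A.hom] [IsSeparated B.hom] :
    IsSeparated H.hom := by
  obtain ⟨E, i, hi, hE⟩ := exists_eqLocus ((A ◁ fst H H) ≫ ξ) ((A ◁ snd H H) ≫ ξ)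
  have hm : Mono i := by
    have : Mono i.left := inferInstance
    exact (Over.forget S).mono_of_mono_map this
  have key : ∀ {W : Over S} (t : W ⟶ H ⊗ H), (A ◁ t) ≫ (A ◁ fst H H) ≫ ξ = (A ◁ t) ≫ (A ◁ snd H H) ≫ ξ ↔
      t ≫ fst H H = t ≫ snd H H := by
    intro W t
    constructor
    · intro h1
      apply h.inj
      rw [MonoidalCategory.whiskerLeft_comp, MonoidalCategory.whiskerLeft_comp, Category.assoc, Category.assoc, h1]
    · intro h1
      rw [← Category.assoc, ← Category.assoc, ← MonoidalCategory.whiskerLeft_comp,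
        ← MonoidalCategory.whiskerLeft_comp, h1]
  obtain ⟨d, hd⟩ := (hE H (lift (𝟙 H) (𝟙 H))).mpr ((key _).mpr (by rw [lift_fst, lift_snd]))
  have he := (key i).mp ((hE E i).mp ⟨𝟙 E, Category.id_comp i⟩)
  have hiso : IsIso d := by
    refine ⟨i ≫ fst H H, ?_, ?_⟩
    · rw [← Category.assoc, hd, lift_fst]
    · rw [← cancel_mono i, Category.assoc, hd, comp_lift, Category.comp_id, Category.id_comp]
      apply CartesianMonoidalCategory.hom_ext
      · rw [lift_fst]
      · rw [lift_snd, he]
  have h1 : IsIso d.left := inferInstanceAs (IsIso ((Over.forget S).map d))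
  have h2 : pullback.diagonal H.hom = d.left ≫ i.left := by
    rw [← Over.comp_left, hd]
    apply pullback.hom_ext
    · rw [pullback.diagonal_fst]
      exact (congrArg (fun z => z.left) (lift_fst (𝟙 H) (𝟙 H))).symm
    · rw [pullback.diagonal_snd]
      exact (congrArg (fun z => z.left) (lift_snd (𝟙 H) (𝟙 H))).symm
  refine ⟨?_⟩
  rw [h2]
  infer_instance

end Locus

section Unramified

/-- Formally unramified morphisms by liftings. -/
theorem formallyUnramified_of_lift {X S : Scheme.{u}} (f : X ⟶ S)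
    (h : ∀ (C : Type u) [CommRing C] (I : Ideal C) (_ : I ^ 2 = ⊥) (a b : Spec (CommRingCat.of C) ⟶ X),
      a ≫ f = b ≫ f → Spec.map (CommRingCat.ofHom (Ideal.Quotient.mk I)) ≫ a =
        Spec.map (CommRingCat.ofHom (Ideal.Quotient.mk I)) ≫ b → a = b) : FormallyUnramified f := by
  refine ⟨fun {U} hU {V} hV e => ?_⟩
  algebraize [(f.appLE U V e).hom]
  change Algebra.FormallyUnramified _ _
  rw [Algebra.FormallyUnramified.iff_comp_injective]
  intro C _ _ I hI g₁ g₂ hg
  have key : ∀ g : Γ(X, V) →ₐ[Γ(S, U)] C, (Spec.map (CommRingCat.ofHom g.toRingHom) ≫ hV.fromSpec) ≫ f =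
      Spec.map (CommRingCat.ofHom (algebraMap Γ(S, U) C)) ≫ hU.fromSpec := by
    intro g
    rw [Category.assoc, ← IsAffineOpen.SpecMap_appLE_fromSpec f hU hV e, ← Category.assoc]
    have h1 : Spec.map (CommRingCat.ofHom g.toRingHom) ≫ Spec.map (f.appLE U V e) =
        Spec.map (CommRingCat.ofHom (algebraMap Γ(S, U) C)) := by
      rw [← Spec.map_comp]
      congr 1
      ext x
      exact g.commutes x
    rw [h1]
  have h2 := h C I hI (Spec.map (CommRingCat.ofHom g₁.toRingHom) ≫ hV.fromSpec)
    (Spec.map (CommRingCat.ofHom g₂.toRingHom) ≫ hV.fromSpec) (by rw [key, key]) (by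
      rw [← Category.assoc, ← Category.assoc, ← Spec.map_comp, ← Spec.map_comp]
      congr 2
      ext x
      exact DFunLike.congr_fun hg x)
  have h3 := (cancel_mono hV.fromSpec).mp h2
  have h4 := Spec.map_injective h3
  ext x
  exact congrArg (fun z => z.hom x) h4

variable {H : Over S} {ξ : A ⊗ H ⟶ B} (h : IsUniv A B H ξ)

include h in
/-- `H → S` is formally unramified. -/
theorem formallyUnramified [IsProper A.hom] [Flat A.hom] [LocallyOfFinitePresentation A.hom]
    [GeometricallyConnected A.hom] [GeometricallyReduced A.hom] [IsSeparated B.hom] : FormallyUnramified H.hom := by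
  refine formallyUnramified_of_lift _ fun C _ I hI a b hab h1 => ?_
  let T : Over S := Over.mk (a ≫ H.hom)
  let T₀ : Over S := Over.mk (Spec.map (CommRingCat.ofHom (Ideal.Quotient.mk I)) ≫ a ≫ H.hom)
  let t : T₀ ⟶ T := Over.homMk (Spec.map (CommRingCat.ofHom (Ideal.Quotient.mk I))) rfl
  let a' : T ⟶ H := Over.homMk a rfl
  let b' : T ⟶ H := Over.homMk b hab.symm
  have hs : Surjective t.left := by
    refine ⟨fun x => ?_⟩
    have h2 : I ≤ nilradical C := by
      intro y hy
      rw [mem_nilradical]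
      refine ⟨2, ?_⟩
      have h3 : y ^ 2 ∈ I ^ 2 := Ideal.pow_mem_pow hy 2
      rw [hI] at h3
      exact h3
    exact (PrimeSpectrum.comap_quotientMk_bijective_of_le_nilradical h2).2 x
  have h5 : t ≫ a' = t ≫ b' := Over.OverMorphism.ext h1
  have h6 : a' = b' := by
    apply h.inj
    refine Ptd.ext_of_surjective (h.ptd.pull a') (h.ptd.pull b') t ?_
    rw [← Category.assoc, ← Category.assoc, ← MonoidalCategory.whiskerLeft_comp,
      ← MonoidalCategory.whiskerLeft_comp, h5]
  exact congrArg (fun z => z.left) h6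

end Unramified

section DVR

variable {H : Over S} {ξ : A ⊗ H ⟶ B} (h : IsUniv A B H ξ)

include h in
/-- The valuative criterion for discrete valuation rings. -/
theorem dvr [Smooth A.hom] [IsProper B.hom]
    (R : Type u) [CommRing R] [IsDomain R] [IsDiscreteValuationRing R] (L : Type u) [Field L] [Algebra R L]
    [IsFractionRing R L] (a : Spec (CommRingCat.of L) ⟶ H.left) (b : Spec (CommRingCat.of R) ⟶ S)
    (hab : a ≫ H.hom = Spec.map (CommRingCat.ofHom (algebraMap R L)) ≫ b) :
    ∃ l : Spec (CommRingCat.of R) ⟶ H.left, Spec.map (CommRingCat.ofHom (algebraMap R L)) ≫ l = a ∧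
      l ≫ H.hom = b := by
  let TR : Over S := Over.mk b
  let TL : Over S := Over.mk (Spec.map (CommRingCat.ofHom (algebraMap R L)) ≫ b)
  let j : TL ⟶ TR := Over.homMk (Spec.map (CommRingCat.ofHom (algebraMap R L))) rfl
  let a' : TL ⟶ H := Over.homMk a hab
  let _ : GrpObj (Over.mk (pullback.snd B.hom b)) := inferInstanceAs (GrpObj (Red.bc b B))
  have hsm : Smooth (snd A TR).left := inferInstanceAs (Smooth (pullback.snd A.hom b))
  have hpb := isPullback_whiskerLeft A j
  let e := hpb.isoPullback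
  let fL : (A ⊗ TL).left ⟶ pullback B.hom b :=
    pullback.lift ((A ◁ a') ≫ ξ).left ((snd A TL).left ≫ j.left) (by
      rw [Over.w, Category.assoc]
      exact (Over.w (snd A TL)).symm)
  obtain ⟨u, ⟨hu1, hu2⟩, -⟩ := Groth.Agent.Models.WeilChart.existsUnique_extension (pullback.snd B.hom b)
    (snd A TR).left L (e.inv ≫ fL) (by
      rw [Category.assoc, pullback.lift_snd, ← hpb.w, ← Category.assoc]
      congr 1
      exact hpb.isoPullback_inv_fst)
  have hg : (u ≫ pullback.fst B.hom b) ≫ B.hom = (A ⊗ TR).hom := by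
    rw [Category.assoc, pullback.condition, ← Category.assoc, hu1]
    exact Over.w (snd A TR)
  let g : A ⊗ TR ⟶ B := Over.homMk (u ≫ pullback.fst B.hom b) hg
  have hgL : (A ◁ j) ≫ g = (A ◁ a') ≫ ξ := by
    apply Over.OverMorphism.ext
    change (A ◁ j).left ≫ u ≫ pullback.fst B.hom b = ((A ◁ a') ≫ ξ).left
    have h1 : (A ◁ j).left = e.hom ≫ pullback.fst (snd A TR).left j.left := hpb.isoPullback_hom_fst.symm
    have h2 : (A ◁ j).left ≫ u = fL := by
      rw [h1, Category.assoc]
      exact (congrArg (fun z => e.hom ≫ z) hu2).trans (Iso.hom_inv_id_assoc _ _)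
    rw [← Category.assoc, h2, pullback.lift_fst]
  have hptd : Ptd g := by
    have hdom : IsDominant j.left := by
      have h3 : Function.Injective (algebraMap R L) := IsFractionRing.injective R L
      have h3' : Fact (Function.Injective (algebraMap R L)) := ⟨h3⟩
      have h4 : IsSchemeTheoreticallyDominant (Spec.map (CommRingCat.ofHom (algebraMap R L))) :=
        Groth.Agent.Models.WeilPts.schDominant_of_injective _
      exact inferInstanceAs (IsDominant (Spec.map (CommRingCat.ofHom (algebraMap R L))))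
    have hred : IsReduced TR.left := inferInstanceAs (IsReduced (Spec (CommRingCat.of R)))
    have h5 : j ≫ lift (1 : TR ⟶ A) (𝟙 TR) ≫ g = j ≫ (1 : TR ⟶ B) := by
      have h6 : j ≫ lift (1 : TR ⟶ A) (𝟙 TR) = lift (1 : TL ⟶ A) (𝟙 TL) ≫ (A ◁ j) := by
        rw [comp_lift, lift_whiskerLeft, MonObj.comp_one, Category.comp_id, Category.id_comp]
      rw [← Category.assoc, h6, Category.assoc, hgL, MonObj.comp_one]
      exact h.ptd.pull a'
    apply Over.OverMorphism.ext
    exact ext_of_isDominant_of_isSeparated B.hom ((Over.w _).trans (Over.w _).symm) j.left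
      (congrArg (fun z => z.left) h5)
  obtain ⟨t, ht⟩ := h.ex g hptd
  have h7 : j ≫ t = a' := by
    apply h.inj
    rw [MonoidalCategory.whiskerLeft_comp, Category.assoc, ht, hgL]
  exact ⟨t.left, congrArg (fun z => z.left) h7, Over.w t⟩

end DVR

end K452.HomProps
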