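import Groth.Agent.AbSch.K452.HomGlue
import Groth.Agent.AbSch.K452.HomProps
import Groth.Agent.AlgSp.K642.HomDef
import Groth.Agent.AlgSp.K608.SepAbs
import Groth.Agent.AlgSp.K598.RepKit
import Groth.Agent.AlgSp.K597.ProperSub
import Groth.Agent.AlgSp.K594.Diag
import Groth.Agent.AlgSp.K602.FTy
import Groth.Agent.Unram.K147.LQF
import Groth.Agent.S3707
import Groth.Agent.AlgSp.K613.LqfSch

/-!
# The scheme of homomorphisms between abelian schemes over a locally Noetherian base

`exists_univ`: given the algebraic space of morphisms `A → B` (`MorSpace A B`, the conclusion of `S18336`), the functor of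
homomorphisms is representable by a scheme, locally of finite type.
-/

set_option autoImplicit false
universe u
open CategoryTheory CategoryTheory.Limits MonoidalCategory CartesianMonoidalCategory MonObj AlgebraicGeometry
open CGrpSh Opposite

namespace K452.HomSpace

open Groth.Agent.Etdl.H432.Sec K452.HomPts K452.HomFam K452.HomUniv K452.HomProps K452.HomGlue
open K594.Elem K594.Cover AlgSp K452.TorsRep K642.HomDef

variable {S : Scheme.{u}}

section Mor

variable {A B : Over S}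

theorem xmap_eq {T T' : Over S} (t : T' ⟶ T) : xmap A t = (t ▷ A).left := by
  apply pullback.hom_ext
  · rw [xmap_fst]
    have h1 := congrArg (fun z => z.left) (whiskerRight_fst t A)
    exact h1.symm
  · rw [xmap_snd]
    have h1 := congrArg (fun z => z.left) (whiskerRight_snd t A)
    exact h1.symm

/-- Families of morphisms are sections of `morF`. -/
noncomputable def morEquiv (T : Over S) : (A ⊗ T ⟶ B) ≃ (morF A B).obj (op T) where
  toFun g := ⟨((lift (snd T A) (fst T A) : T ⊗ A ⟶ A ⊗ T) ≫ g).left, Over.w _⟩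
  invFun g := (lift (snd A T) (fst A T) : A ⊗ T ⟶ T ⊗ A) ≫ (Over.homMk g.1 g.2 : T ⊗ A ⟶ B)
  left_inv g := by
    apply Over.OverMorphism.ext
    change ((lift (snd A T) (fst A T) : A ⊗ T ⟶ T ⊗ A) ≫ (lift (snd T A) (fst T A) : T ⊗ A ⟶ A ⊗ T) ≫ g).left = g.left
    rw [← Category.assoc, comp_lift, lift_snd, lift_fst, lift_fst_snd, Category.id_comp]
  right_inv g := by
    apply ext'
    change ((lift (snd T A) (fst T A) : T ⊗ A ⟶ A ⊗ T) ≫ (lift (snd A T) (fst A T) : A ⊗ T ⟶ T ⊗ A) ≫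
      (Over.homMk g.1 g.2 : T ⊗ A ⟶ B)).left = g.1
    rw [← Category.assoc, comp_lift, lift_snd, lift_fst, lift_fst_snd, Category.id_comp]
    rfl

theorem morEquiv_nat {T T' : Over S} (t : T' ⟶ T) (g : A ⊗ T ⟶ B) :
    (morF A B).map t.op (morEquiv T g) = morEquiv T' ((A ◁ t) ≫ g) := by
  apply ext'
  rw [map_val, xmap_eq]
  change ((t ▷ A) ≫ (lift (snd T A) (fst T A) : T ⊗ A ⟶ A ⊗ T) ≫ g).left =
    ((lift (snd T' A) (fst T' A) : T' ⊗ A ⟶ A ⊗ T') ≫ (A ◁ t) ≫ g).left
  rw [← Category.assoc, ← Category.assoc, comp_lift, lift_whiskerLeft, whiskerRight_snd, whiskerRight_fst]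

end Mor

/-- The algebraic space of morphisms from `A` to `B`: the conclusion of `S18336`. -/
def MorSpace (A B : Over S) : Prop := ∃ R : AlgSp.Sp S, AlgSp.IsAlgSpace R ∧
      Nonempty (R.obj ≅ WeilRes.functor A.hom (Red.bc A.hom B) ⋙ CategoryTheory.uliftFunctor.{u + 1, u}) ∧
      AlgSp.IsSeparatedSp R ∧
      ∀ t : R ⟶ (AlgSp.yon S).obj (Over.mk (𝟙 S)), AlgSp.LocP @LocallyOfFiniteType t

theorem exists_rho {A B : Over S} {R : AlgSp.Sp S}
    (h : Nonempty (R.obj ≅ WeilRes.functor A.hom (Red.bc A.hom B) ⋙ CategoryTheory.uliftFunctor.{u + 1, u})) :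
    ∃ ρ : ∀ T : Over S, R.obj.obj (op T) ≃ (A ⊗ T ⟶ B), ∀ {T T' : Over S} (t : T' ⟶ T) (x : R.obj.obj (op T)),
      ρ T' (R.obj.map t.op x) = (A ◁ t) ≫ ρ T x := by
  obtain ⟨φ⟩ := h
  let ρ : ∀ T : Over S, R.obj.obj (op T) ≃ (A ⊗ T ⟶ B) := fun T =>
    (((φ.app (op T)).toEquiv.trans Equiv.ulift).trans (wEquiv A B T)).trans (morEquiv T).symm
  refine ⟨ρ, fun {T T'} t x => ?_⟩
  apply (morEquiv T').injective
  rw [← morEquiv_nat]
  change (morEquiv T') ((morEquiv T').symm (wEquiv A B T' (φ.hom.app (op T') (R.obj.map t.op x)).down)) =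
    (morF A B).map t.op ((morEquiv T) ((morEquiv T).symm (wEquiv A B T (φ.hom.app (op T) x).down)))
  rw [Equiv.apply_symm_apply, Equiv.apply_symm_apply, ← wEquiv_nat]
  congr 1
  exact congrArg ULift.down (NatTrans.naturality_apply φ.hom t.op x)

section Main

variable {A B : Over S} [GrpObj A] [GrpObj B] [IsCommMonObj A] [IsCommMonObj B]

/-- The locus where a family is pointed. -/
theorem exists_ptdLocus [IsSeparated B.hom] {U : Over S} (g : A ⊗ U ⟶ B) :
    ∃ (E : Over S) (i : E ⟶ U), IsClosedImmersion i.left ∧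
      ∀ (W : Over S) (t : W ⟶ U), (∃ t' : W ⟶ E, t' ≫ i = t) ↔ Ptd ((A ◁ t) ≫ g) := by
  let c : U ⟶ B := lift (1 : U ⟶ A) (𝟙 U) ≫ g
  have hη : IsClosedImmersion η[B].left := by
    have h1 : η[B].left ≫ B.hom = 𝟙 _ := Over.w η[B]
    have h2 : IsClosedImmersion (η[B].left ≫ B.hom) := by
      rw [h1]
      infer_instance
    exact IsClosedImmersion.of_comp η[B].left B.hom
  obtain ⟨E, i, k, hp⟩ : ∃ (E : Over S) (i : E ⟶ U) (k : E ⟶ 𝟙_ (Over S)), IsPullback i k c η[B] :=
    ⟨_, _, _, IsPullback.of_hasPullback c η[B]⟩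
  refine ⟨E, i, MorphismProperty.of_isPullback (P := @IsClosedImmersion) (hp.map (Over.forget S)).flip hη,
    fun W t => ?_⟩
  have key : Ptd ((A ◁ t) ≫ g) ↔ t ≫ c = 1 := by
    unfold Ptd
    rw [← Category.assoc, lift_whiskerLeft, Category.id_comp]
    have h1 : t ≫ c = lift (1 : W ⟶ A) t ≫ g := by
      change t ≫ lift (1 : U ⟶ A) (𝟙 U) ≫ g = _
      rw [← Category.assoc, comp_lift, MonObj.comp_one, Category.comp_id]
    rw [h1]
  rw [key]
  constructor
  · rintro ⟨t', rfl⟩
    rw [Category.assoc, hp.w, ← Category.assoc, Hom.one_def, toUnit_unique (t' ≫ k) (toUnit W)]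
  · intro h
    exact ⟨hp.lift t (toUnit W) (by rw [h, Hom.one_def]), hp.lift_fst _ _ _⟩

variable {R : AlgSp.Sp S} (ρ : ∀ T : Over S, R.obj.obj (op T) ≃ (A ⊗ T ⟶ B))
  (hρ : ∀ {T T' : Over S} (t : T' ⟶ T) (x : R.obj.obj (op T)), ρ T' (R.obj.map t.op x) = (A ◁ t) ≫ ρ T x)

/-- The functor of homomorphisms in the space of morphisms. -/
noncomputable def incl : HF A B ⟶ R :=
  ⟨{ app := fun T => TypeCat.ofHom (fun φ => (ρ T.unop).symm (toFam (A := A) (B := B) (T := T.unop) φ))
     naturality := fun T T' t => by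
      apply ConcreteCategory.hom_ext
      intro φ
      apply (ρ T'.unop).injective
      change (ρ T'.unop) ((ρ T'.unop).symm (toFam (A := A) (B := B)
        (r (K771.HomEv.hom (P A) (P B)) t.unop φ))) = (ρ T'.unop) (R.obj.map t.unop.op
          ((ρ T.unop).symm (toFam (A := A) (B := B) (T := T.unop) φ)))
      rw [Equiv.apply_symm_apply, toFam_r, hρ, Equiv.apply_symm_apply] }⟩

theorem rho_incl {T : Over S} (φ : (HF A B).obj.obj (op T)) :
    ρ T ((incl ρ hρ).hom.app (op T) φ) = toFam (A := A) (B := B) (T := T) φ :=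
  Equiv.apply_symm_apply _ _

variable [IsProper A.hom] [Flat A.hom] [LocallyOfFinitePresentation A.hom] [GeometricallyConnected A.hom]
    [GeometricallyReduced A.hom] [IsSeparated B.hom]

theorem repWith_incl : RepWith @IsClosedImmersion (incl ρ hρ) := by
  apply repWith_of_exists
  intro U y
  obtain ⟨E, i, hi, hE⟩ := exists_ptdLocus (A := A) (B := B) (ρ U y)
  have hm : Mono i := by
    have : Mono i.left := inferInstance
    exact (Over.forget S).mono_of_mono_map this
  obtain ⟨ξ, hξ⟩ := exists_toFam ((hE E i).mp ⟨𝟙 E, Category.id_comp i⟩)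
  refine ⟨E, i, ξ, ⟨?_, fun a b h1 _ => (cancel_mono i).mp h1, fun {T} t x hx => ?_⟩, hi⟩
  · apply (ρ E).injective
    rw [rho_incl, hξ, hρ]
  · have h1 : toFam (A := A) (B := B) (T := T) x = (A ◁ t) ≫ ρ U y := by
      rw [← rho_incl ρ hρ, hx, hρ]
    obtain ⟨k, hk⟩ := (hE T t).mpr (by
      rw [← h1]
      exact ptd_toFam _)
    refine ⟨k, hk, ?_⟩
    apply toFam_injective (A := A) (B := B) (T := T)
    change toFam (r (K771.HomEv.hom (P A) (P B)) k ξ) = _
    rw [toFam_r, hξ, ← Category.assoc, ← MonoidalCategory.whiskerLeft_comp, hk, h1]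

theorem isSeparatedSp : IsSeparatedSp (HF A B) := by
  apply repWith_of_exists
  intro U z
  let a : (HF A B).obj.obj (op U) := (prod.fst : HF A B ⨯ HF A B ⟶ HF A B).hom.app (op U) z
  let b : (HF A B).obj.obj (op U) := (prod.snd : HF A B ⨯ HF A B ⟶ HF A B).hom.app (op U) z
  obtain ⟨E, i, hi, hE⟩ := exists_eqLocus (toFam (A := A) (B := B) (T := U) a) (toFam (A := A) (B := B) (T := U) b)
  have hm : Mono i := by
    have : Mono i.left := inferInstance
    exact (Over.forget S).mono_of_mono_map this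
  have key : ∀ {T : Over S} (t : T ⟶ U), (HF A B).obj.map t.op a = (HF A B).obj.map t.op b ↔
      (A ◁ t) ≫ toFam (A := A) (B := B) (T := U) a = (A ◁ t) ≫ toFam (A := A) (B := B) (T := U) b := by
    intro T t
    rw [← toFam_r, ← toFam_r]
    exact (toFam_injective (A := A) (B := B) (T := T)).eq_iff.symm
  exact ⟨E, i, _, (K594.Diag.isRep_diag_iff z i _).mpr ⟨⟨(key i).mpr ((hE E i).mp ⟨𝟙 E, Category.id_comp i⟩),
    fun k l h => (cancel_mono i).mp h, fun t ht => (hE _ t).mpr ((key t).mp ht)⟩, rfl⟩, hi⟩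

/-- Etale charts of the space of homomorphisms are unramified over the base. -/
theorem formallyUnramified_chart {U : Over S} {a : (yon S).obj U ⟶ HF A B} (ha : RepWith @Etale a) :
    FormallyUnramified U.hom := by
  refine formallyUnramified_of_lift _ fun C _ I hI α β hαβ h1 => ?_
  let T : Over S := Over.mk (α ≫ U.hom)
  let T₀ : Over S := Over.mk (Spec.map (CommRingCat.ofHom (Ideal.Quotient.mk I)) ≫ α ≫ U.hom)
  let t : T₀ ⟶ T := Over.homMk (Spec.map (CommRingCat.ofHom (Ideal.Quotient.mk I))) rfl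
  let a' : T ⟶ U := Over.homMk α rfl
  let b' : T ⟶ U := Over.homMk β hαβ.symm
  have hs : Surjective t.left := by
    refine ⟨fun x => ?_⟩
    have h2 : I ≤ nilradical C := by
      intro y hy
      rw [mem_nilradical]
      refine ⟨2, ?_⟩
      have h3 : y ^ 2 ∈ I ^ 2 := Ideal.pow_mem_pow hy 2
      rw [hI] at h3
      exact h3
    exact (PrimeSpectrum.comap_quotientMk_bijective_of_le_nilradical h2).2 x
  have h5 : t ≫ a' = t ≫ b' := Over.OverMorphism.ext h1
  have h6 : a.hom.app (op T) ⟨a'⟩ = a.hom.app (op T) ⟨b'⟩ := by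
    apply toFam_injective (A := A) (B := B) (T := T)
    refine Ptd.ext_of_surjective (ptd_toFam _) (ptd_toFam _) t ?_
    rw [← toFam_r, ← toFam_r]
    congr 1
    change (HF A B).obj.map t.op (a.hom.app (op T) ⟨a'⟩) = (HF A B).obj.map t.op (a.hom.app (op T) ⟨b'⟩)
    rw [← app_map, ← app_map]
    change a.hom.app (op T₀) ⟨t ≫ a'⟩ = a.hom.app (op T₀) ⟨t ≫ b'⟩
    rw [h5]
  obtain ⟨W, w, ξ, hξ, hw⟩ := RepWith.exists_isRep ha (a.hom.app (op T) ⟨a'⟩)
  obtain ⟨k, hk1, hk2⟩ := hξ.lift (𝟙 T) ⟨a'⟩ (by rw [map_id_apply])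
  obtain ⟨l, hl1, hl2⟩ := hξ.lift (𝟙 T) ⟨b'⟩ (by rw [map_id_apply]; exact h6.symm)
  have h7 : t ≫ k = t ≫ l := by
    refine hξ.inj _ _ (by rw [Category.assoc, Category.assoc, hk1, hl1]) ?_
    rw [map_comp_apply, map_comp_apply, hk2, hl2]
    exact congrArg ULift.up h5
  have h8 : k.left = l.left := by
    have := hw
    refine Groth.Agent.S3707.eq_of_surjective w.left k.left l.left ?_ t.left ?_
    · rw [← Over.comp_left, ← Over.comp_left, hk1, hl1]
    · rw [← Over.comp_left, ← Over.comp_left, h7]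
  have h9 : k = l := Over.OverMorphism.ext h8
  subst h9
  rw [hk2] at hl2
  exact congrArg (fun z => z.left) (congrArg ULift.down hl2)

include ρ hρ in
theorem isAlgSpace_HF (hR : IsAlgSpace R) : IsAlgSpace (HF A B) :=
  K598.RepKit.isAlgSpace_of_repWith_isClosedImmersion (repWith_incl ρ hρ) hR

include ρ hρ in
theorem locP_lqf (hR : IsAlgSpace R) (ht : ∀ t : R ⟶ (AlgSp.yon S).obj (Over.mk (𝟙 S)), AlgSp.LocP @LocallyOfFiniteType t) :
    LocP @LocallyOfFiniteType (toBase (HF A B)) ∧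
      LocP (@LocallyQuasiFinite ⊓ @LocallyOfFiniteType) (toBase (HF A B)) := by
  have h1 : LocP @LocallyOfFiniteType (toBase (HF A B)) := by
    rw [← K602.FTy.str_uniq (incl ρ hρ ≫ K602.FTy.str R) (toBase (HF A B))]
    exact K597.locP_comp K597.etLoc_lft (isAlgSpace_HF ρ hρ hR).hasAtlas hR.hasAtlas K602.FTy.hasAtlas_base
      (K597.ProperSub.locP_lft_of_closed (repWith_incl ρ hρ)) (ht _)
  refine ⟨h1, fun U V a b h ha hb w => ?_⟩
  have h2 : LocallyOfFiniteType h.left := h1 a b h ha hb w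
  have h3 := formallyUnramified_chart ha
  have h4 : FormallyUnramified h.left := by
    have h5 : FormallyUnramified (h.left ≫ V.hom) := by
      rw [Over.w]
      exact h3
    exact FormallyUnramified.of_comp h.left V.hom
  exact ⟨K147.LQF.locallyQuasiFinite_of_unramified h.left, h2⟩

end Main

variable {A B : Over S} [GrpObj A] [GrpObj B] [IsCommMonObj A] [IsCommMonObj B] [IsProper A.hom] [Flat A.hom]
  [LocallyOfFinitePresentation A.hom] [GeometricallyConnected A.hom] [GeometricallyReduced A.hom] [IsSeparated B.hom]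

/-- **The locally Noetherian case.** -/
theorem exists_univ [IsLocallyNoetherian S] (h : MorSpace A B) :
    ∃ (H : Over S) (ξ : A ⊗ H ⟶ B), IsUniv A B H ξ ∧ LocallyOfFinitePresentation H.hom := by
  obtain ⟨R, hR, hφ, -, ht⟩ := h
  obtain ⟨ρ, hρ⟩ := exists_rho hφ
  obtain ⟨h1, h2⟩ := locP_lqf ρ hρ hR ht
  obtain ⟨H, ⟨e⟩⟩ := K613.exists_iso_of_lqf (isAlgSpace_HF ρ hρ hR) (toBase (HF A B)) h2
    (K608.SepAbs.isSeparatedMor_of_isSeparatedSp _ isSeparatedSp)
  have h3 : LocallyOfFiniteType H.hom := by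
    rw [← K602.FTy.lft_yon_iff H (e.hom ≫ toBase (HF A B))]
    intro U V a b k ha hb w
    exact h1 (a ≫ e.hom) b k (K597.etale_comp ha (K598.RepKit.repWith_of_isIso (P := @Etale) e.hom)) hb
      (by rw [Category.assoc]; exact w)
  have h4 : IsPullback e.hom ((yon S).map (Over.mkIdTerminal.from H)) (toBase (HF A B)) (𝟙 _) :=
    IsPullback.of_horiz_isIso ⟨K602.FTy.str_uniq _ _⟩
  exact ⟨H, _, isUniv_of_isRep (isRep_of_isPullback h4), inferInstance⟩

end K452.HomSpace
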