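import Groth.Agent.AbSch.K452.HomFam
import Groth.Agent.CGrpSh.K731.RepPts

/-!
# Universal families of homomorphisms

`IsUniv A B H ξ`: `H` with the pointed family `ξ : A ⊗ H ⟶ B` represents the functor of pointed families.
* `exists_grp`: `H` is a commutative group scheme whose sheaf of points is the internal Hom sheaf;
* `fam`, `bc`: base change;
* `ofIso`: transport along isomorphisms.
-/

set_option autoImplicit false
universe u
open CategoryTheory CategoryTheory.Limits MonoidalCategory CartesianMonoidalCategory MonObj AlgebraicGeometry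
open CGrpSh Opposite

namespace K452.HomUniv

open Groth.Agent.Etdl.H432.Sec Groth.Agent.Sga3B.DSPts K452.HomPts K452.HomFam K452.Restr

variable {S : Scheme.{u}}

/-- A universal pointed family. -/
structure IsUniv (A B H : Over S) [GrpObj A] [GrpObj B] (ξ : A ⊗ H ⟶ B) : Prop where
  ptd : Ptd ξ
  inj : ∀ {T : Over S} (s t : T ⟶ H), (A ◁ s) ≫ ξ = (A ◁ t) ≫ ξ → s = t
  ex : ∀ {T : Over S} (f : A ⊗ T ⟶ B), Ptd f → ∃ t : T ⟶ H, (A ◁ t) ≫ ξ = f

section Grp

variable {A B H : Over S} [GrpObj A] [GrpObj B] {ξ : A ⊗ H ⟶ B} (h : IsUniv A B H ξ)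
variable [IsCommMonObj A] [IsCommMonObj B]
variable [IsProper A.hom] [Flat A.hom] [LocallyOfFinitePresentation A.hom] [GeometricallyConnected A.hom]
  [GeometricallyReduced A.hom] [IsSeparated B.hom]

include h in
/-- A universal family gives a group scheme representing the internal Hom. -/
theorem exists_grp : ∃ (_ : GrpObj H) (_ : IsCommMonObj H)
    (e : pts Scheme.fppfPrecoverage H ≅ HomSh.homSh (QuotSh.J Scheme.fppfPrecoverage S) (pts Scheme.fppfPrecoverage A)
      (pts Scheme.fppfPrecoverage B)),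
    ∀ (T : Over S) (t : T ⟶ H), toFam (A := A) (B := B) (e.hom.hom.app (op T) (ULift.up (Additive.ofMul t))) =
      (A ◁ t) ≫ ξ := by
  obtain ⟨φ, hφ⟩ := exists_toFam h.ptd
  have hb : ∀ T : Over S, Function.Bijective (fun t : T ⟶ H => r (K771.HomEv.hom (P A) (P B)) t φ) := by
    intro T
    constructor
    · intro s t hst
      apply h.inj
      have h1 := congrArg toFam hst
      rw [← hφ, ← toFam_r, ← toFam_r]
      exact h1
    · intro ψ
      obtain ⟨t, ht⟩ := h.ex (toFam ψ) (ptd_toFam ψ)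
      refine ⟨t, toFam_injective ?_⟩
      change toFam (r _ t φ) = toFam ψ
      rw [toFam_r, hφ, ht]
  obtain ⟨g1, g2, e, he⟩ := K731.RepPts.exists_grpObj (HomSh.homSh (QuotSh.J Scheme.fppfPrecoverage S)
    (pts Scheme.fppfPrecoverage A) (pts Scheme.fppfPrecoverage B)) H (fun T => Equiv.ofBijective _ (hb T)) (by
    intro T T' f x
    exact (r_r (K771.HomEv.hom (P A) (P B)) x f φ).symm)
  refine ⟨g1, g2, e, fun T t => ?_⟩
  have h1 := he T t
  have h2 : toFam (A := A) (B := B) (e.hom.hom.app (op T) (ULift.up (Additive.ofMul t))) =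
      toFam (r (K771.HomEv.hom (P A) (P B)) t φ) := congrArg toFam h1
  rw [h2, toFam_r, hφ]

end Grp

section Bc

variable {S' : Scheme.{u}} (f : S' ⟶ S) {A B : Over S} [GrpObj A] [GrpObj B]

/-- Families over the base change. -/
noncomputable def fam {Y : Over S'} (g : A ⊗ (Over.map f).obj Y ⟶ B) : Red.bc f A ⊗ Y ⟶ Red.bc f B :=
  bcEquiv f _ B ((kap f A Y).hom ≫ g)

theorem fam_injective {Y : Over S'} {g g' : A ⊗ (Over.map f).obj Y ⟶ B} (h : fam f g = fam f g') : g = g' :=
  (cancel_epi (kap f A Y).hom).mp ((bcEquiv f _ B).injective h)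

theorem exists_fam {Y : Over S'} (k : Red.bc f A ⊗ Y ⟶ Red.bc f B) :
    ∃ g : A ⊗ (Over.map f).obj Y ⟶ B, fam f g = k :=
  ⟨(kap f A Y).inv ≫ (bcEquiv f _ B).symm k, by
    rw [fam, Iso.hom_inv_id_assoc, MulEquiv.apply_symm_apply]⟩

theorem whisker_fam {Y Y' : Over S'} (y : Y' ⟶ Y) (g : A ⊗ (Over.map f).obj Y ⟶ B) :
    (Red.bc f A ◁ y) ≫ fam f g = fam f ((A ◁ (Over.map f).map y) ≫ g) := by
  unfold fam
  rw [bcEquiv_naturality, ← Category.assoc, whisker_kap, Category.assoc]

theorem lift_fam {Y W : Over S'} (g : A ⊗ (Over.map f).obj Y ⟶ B) (a : W ⟶ Red.bc f A) (y : W ⟶ Y) :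
    lift a y ≫ fam f g = bcEquiv f W B (lift ((bcEquiv f W A).symm a) ((Over.map f).map y) ≫ g) := by
  unfold fam
  rw [bcEquiv_naturality, ← Category.assoc, map_lift_kap]

theorem ptd_fam_iff {Y : Over S'} {g : A ⊗ (Over.map f).obj Y ⟶ B} : Ptd (fam f g) ↔ Ptd g := by
  unfold Ptd
  rw [lift_fam, map_one, CategoryTheory.Functor.map_id, ← map_one (bcEquiv f Y B), (bcEquiv f Y B).injective.eq_iff]

/-- the projection of the base change -/
noncomputable def pr (H : Over S) : (Over.map f).obj (Red.bc f H) ⟶ H := (Over.mapPullbackAdj f).counit.app H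

theorem map_pr_injective {H : Over S} {Y : Over S'} {s t : Y ⟶ Red.bc f H}
    (h : (Over.map f).map s ≫ pr f H = (Over.map f).map t ≫ pr f H) : s = t := by
  apply ((Over.mapPullbackAdj f).homEquiv Y H).symm.injective
  rw [Adjunction.homEquiv_counit, Adjunction.homEquiv_counit]
  exact h

theorem exists_map_pr {H : Over S} {Y : Over S'} (t : (Over.map f).obj Y ⟶ H) :
    ∃ s : Y ⟶ Red.bc f H, (Over.map f).map s ≫ pr f H = t := by
  refine ⟨(Over.mapPullbackAdj f).homEquiv Y H t, ?_⟩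
  have h1 := ((Over.mapPullbackAdj f).homEquiv Y H).symm_apply_apply t
  rw [Adjunction.homEquiv_counit] at h1
  exact h1

/-- **Base change of universal families.** -/
theorem IsUniv.bc {H : Over S} {ξ : A ⊗ H ⟶ B} (h : IsUniv A B H ξ) :
    IsUniv (Red.bc f A) (Red.bc f B) (Red.bc f H) (fam f ((A ◁ pr f H) ≫ ξ)) where
  ptd := (ptd_fam_iff f).mpr (h.ptd.pull _)
  inj := by
    intro T s t hst
    rw [whisker_fam, whisker_fam] at hst
    have h1 := fam_injective f hst
    rw [← Category.assoc, ← Category.assoc, ← MonoidalCategory.whiskerLeft_comp,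
      ← MonoidalCategory.whiskerLeft_comp] at h1
    exact map_pr_injective f (h.inj _ _ h1)
  ex := by
    intro T k hk
    obtain ⟨g, rfl⟩ := exists_fam f k
    obtain ⟨t, rfl⟩ := h.ex g ((ptd_fam_iff f).mp hk)
    obtain ⟨s, rfl⟩ := exists_map_pr f t
    refine ⟨s, ?_⟩
    rw [whisker_fam, MonoidalCategory.whiskerLeft_comp, Category.assoc]

end Bc

section Iso

variable {A B A' B' H : Over S} [GrpObj A] [GrpObj B] [GrpObj A'] [GrpObj B']

/-- Transport of universal families along isomorphisms of group schemes. -/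
theorem IsUniv.ofIso {ξ : A ⊗ H ⟶ B} (h : IsUniv A B H ξ) (a : A' ≅ A) (b : B ≅ B') [IsMonHom a.hom] [IsMonHom b.hom] :
    IsUniv A' B' H ((a.hom ▷ H) ≫ ξ ≫ b.hom) where
  ptd := by
    have h1 := h.ptd
    unfold Ptd at h1 ⊢
    rw [← Category.assoc, lift_whiskerRight, MonObj.one_comp, ← Category.assoc, h1, MonObj.one_comp]
  inj := by
    intro T s t hst
    apply h.inj
    have h1 : ∀ s : T ⟶ H, (A' ◁ s) ≫ (a.hom ▷ H) ≫ ξ ≫ b.hom = (a.hom ▷ T) ≫ ((A ◁ s) ≫ ξ) ≫ b.hom := by
      intro s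
      rw [← Category.assoc, ← Category.assoc, whisker_exchange]
      simp only [Category.assoc]
    rw [h1, h1] at hst
    exact (cancel_mono b.hom).mp ((cancel_epi (a.hom ▷ T)).mp hst)
  ex := by
    intro T f hf
    obtain ⟨t, ht⟩ := h.ex ((a.inv ▷ T) ≫ f ≫ b.inv) (by
      unfold Ptd at hf ⊢
      rw [← Category.assoc, lift_whiskerRight, MonObj.one_comp, ← Category.assoc, hf, MonObj.one_comp])
    refine ⟨t, ?_⟩
    have h1 : (A' ◁ t) ≫ (a.hom ▷ H) ≫ ξ ≫ b.hom = (a.hom ▷ T) ≫ ((A ◁ t) ≫ ξ) ≫ b.hom := by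
      rw [← Category.assoc, ← Category.assoc, whisker_exchange]
      simp only [Category.assoc]
    rw [h1, ht]
    simp

end Iso

end K452.HomUniv
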