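import Mathlib.AlgebraicGeometry.Morphisms.Flat
import Mathlib.AlgebraicGeometry.PullbackCarrier
import Mathlib.CategoryTheory.Monoidal.Cartesian.Over
import Mathlib.AlgebraicGeometry.Limits
import Mathlib.AlgebraicGeometry.Stalk

/-!
# Jointly surjective flat families are jointly epimorphic

* `hom_ext_of_flat_family`: two morphisms out of `X` agree if they agree after composition with a jointly surjective
  family of flat morphisms (no quasi-compactness);
* `over_hom_ext_of_flat_family`: two `S`-morphisms agree if their base changes along a jointly surjective family of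
  flat morphisms `S' i ⟶ S` agree.
* `over_hom_ext_of_local`: the family of the `Spec O_{S', s'} ⟶ S' ⟶ S` for a flat surjective `S' ⟶ S`.
-/

set_option autoImplicit false
universe u
open CategoryTheory CategoryTheory.Limits AlgebraicGeometry

namespace K452.JointEpi

theorem hom_ext_of_flat_family {I : Type u} {X Y : Scheme.{u}} {W : I → Scheme.{u}} (g : ∀ i, W i ⟶ X)
    [hg : ∀ i, Flat (g i)] (hsurj : ∀ x : X, ∃ i, x ∈ Set.range (g i)) {a b : X ⟶ Y}
    (h : ∀ i, g i ≫ a = g i ≫ b) : a = b := by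
  have h1 : Flat (Sigma.desc g) := by
    infer_instance
  have h2 : Surjective (Sigma.desc g) := by
    refine ⟨fun x => ?_⟩
    obtain ⟨i, w, hw⟩ := hsurj x
    refine ⟨Sigma.ι W i w, ?_⟩
    rw [← Scheme.Hom.comp_apply, Sigma.ι_desc, hw]
  have h3 : Epi (Sigma.desc g) := Flat.epi_of_flat_of_surjective _
  rw [← cancel_epi (Sigma.desc g)]
  exact Sigma.hom_ext _ _ fun i => by rw [Sigma.ι_desc_assoc, Sigma.ι_desc_assoc, h i]

theorem over_hom_ext_of_flat_family {I : Type u} {S : Scheme.{u}} {S' : I → Scheme.{u}} (p : ∀ i, S' i ⟶ S)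
    [∀ i, Flat (p i)] (hsurj : ∀ s : S, ∃ i, s ∈ Set.range (p i)) {X Y : Over S} {a b : X ⟶ Y}
    (h : ∀ i, (Over.pullback (p i)).map a = (Over.pullback (p i)).map b) : a = b := by
  apply Over.OverMorphism.ext
  refine hom_ext_of_flat_family (fun i => pullback.fst X.hom (p i)) (fun x => ?_) (fun i => ?_)
  · obtain ⟨i, w, hw⟩ := hsurj (X.hom x)
    obtain ⟨z, hz, -⟩ := Scheme.Pullback.exists_preimage_pullback (f := X.hom) (g := p i) x w hw.symm
    exact ⟨i, z, hz⟩
  · have h1 := congrArg (fun t => t.left ≫ pullback.fst Y.hom (p i)) (h i)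
    have h2 : ∀ c : X ⟶ Y, ((Over.pullback (p i)).map c).left ≫ pullback.fst Y.hom (p i) =
        pullback.fst X.hom (p i) ≫ c.left := fun c => pullback.lift_fst _ _ _
    simpa only [h2] using h1

lemma flat_fromSpecStalk {S : Scheme.{u}} (s : S) : Flat (S.fromSpecStalk s) := by
  obtain ⟨_, ⟨U, hU, rfl⟩, hxU, -⟩ :=
    S.isBasis_affineOpens.exists_subset_of_mem_open (Set.mem_univ s) isOpen_univ
  have h1 : Flat (Spec.map (S.presheaf.germ U s hxU)) := by
    rw [Flat.SpecMap_iff]
    letI : Algebra Γ(S, U) (S.presheaf.stalk s) := (S.presheaf.germ U s hxU).hom.toAlgebra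
    have := hU.isLocalization_stalk ⟨s, hxU⟩
    exact IsLocalization.flat (S.presheaf.stalk s) (hU.primeIdealOf ⟨s, hxU⟩).asIdeal.primeCompl
  rw [← hU.fromSpecStalk_eq_fromSpecStalk hxU]
  have : IsOpenImmersion (IsAffineOpen.fromSpec hU) := IsAffineOpen.isOpenImmersion_fromSpec hU
  have h2 : Flat (IsAffineOpen.fromSpec hU) := inferInstance
  exact MorphismProperty.comp_mem @Flat _ _ h1 h2

theorem over_hom_ext_of_local {S S' : Scheme.{u}} (f : S' ⟶ S) [Flat f] [Surjective f] {X Y : Over S} {a b : X ⟶ Y}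
    (h : ∀ s' : S', (Over.pullback (S'.fromSpecStalk s' ≫ f)).map a =
      (Over.pullback (S'.fromSpecStalk s' ≫ f)).map b) : a = b := by
  have hfl : ∀ s' : S', Flat (S'.fromSpecStalk s') := fun s' => flat_fromSpecStalk s'
  refine over_hom_ext_of_flat_family (fun s' : S' => S'.fromSpecStalk s' ≫ f) (fun s => ?_) h
  obtain ⟨s', rfl⟩ := f.surjective s
  let c : Spec (S'.presheaf.stalk s') := IsLocalRing.closedPoint (S'.presheaf.stalk s')
  have hc : S'.fromSpecStalk s' c = s' := Scheme.fromSpecStalk_closedPoint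
  refine ⟨s', c, ?_⟩
  rw [Scheme.Hom.comp_apply, hc]

end K452.JointEpi
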