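import Groth.Agent.AbSch.K452.LamPic
import Groth.Agent.AbSch.K452.JointEpi
import Groth.Agent.Sga7.H515.FKClosed

/-!
# The kernel of the morphism attached to an invertible module is a closed subscheme
-/

set_option autoImplicit false
universe u
open CategoryTheory CategoryTheory.Limits MonoidalCategory CartesianMonoidalCategory MonObj AlgebraicGeometry

namespace K452.LamKer

open Groth.Agent Groth.Agent.Grpsch.PicGrp Groth.Agent.Fga.RigGrp
open Groth.Agent.Pic13.H138.AlgEquiv Groth.Agent.Pic13.H138.Slice K530.PicZero K452.LamPic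

theorem fibZero_pull {Y T : Scheme.{u}} (g : Y ⟶ T) (d : Pic T) : FibZero g (pull g d) := by
  intro Ω _ _ σ
  have h5 := pic_spec_local Ω (pull σ d)
  rw [← pull_comp, pullback.condition, pull_comp, h5, map_one]
  exact one_mem _

theorem isPullback_XTmap {X S : Scheme.{u}} (f : X ⟶ S) {T T' : Over S} (g : T' ⟶ T) :
    IsPullback (PicF.XTmap f g) (PicF.XTproj f T') (PicF.XTproj f T) g.left := by
  refine IsPullback.of_right ?_ (XTmap_XTproj f g) (IsPullback.of_hasPullback f T.hom)
  rw [XTmap_fst, Over.w]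
  exact IsPullback.of_hasPullback f T'.hom

section

variable {S : Scheme.{u}} {A At : Over S} [GrpObj At]
  {φ : ∀ T : Over S, PicF.Cl (PicF.XT A.hom T) → (T ⟶ At)}

theorem phi_mul (hφ : AbDual.IsDualAV Scheme.fppfPrecoverage A At φ) (T : Over S)
    {a b : Pic (PicF.XT A.hom T)} (ha : FibZero (PicF.XTproj A.hom T) a) (hb : FibZero (PicF.XTproj A.hom T) b) :
    φ T (toCl (a * b)) = φ T (toCl a) * φ T (toCl b) := by
  rw [← isPicZeroCl_toCl_iff] at ha hb
  obtain ⟨L, hL, rfl⟩ := exists_mk a
  obtain ⟨M, hM, rfl⟩ := exists_mk b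
  rw [mk_mul_mk]
  exact hφ.mul T L M ha hb

theorem phi_one (hφ : AbDual.IsDualAV Scheme.fppfPrecoverage A At φ) (T : Over S) : φ T (toCl 1) = 1 := by
  have h := phi_mul hφ T (FibZero.one _) (FibZero.one _)
  rw [_root_.mul_one] at h
  exact (left_eq_mul.mp h)

theorem phi_natural (hφ : AbDual.IsDualAV Scheme.fppfPrecoverage A At φ) {T T' : Over S} (g : T' ⟶ T)
    {a : Pic (PicF.XT A.hom T)} (ha : FibZero (PicF.XTproj A.hom T) a) :
    φ T' (toCl (pull (PicF.XTmap A.hom g) a)) = g ≫ φ T (toCl a) := by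
  rw [toCl_pull]
  exact hφ.relPic.natural T T' g _ ((isPicZeroCl_toCl_iff _ _ _).2 ha)

theorem phi_pull (hφ : AbDual.IsDualAV Scheme.fppfPrecoverage A At φ) (T : Over S) (d : Pic T.left) :
    φ T (toCl (pull (PicF.XTproj A.hom T) d)) = 1 := by
  apply Over.OverMorphism.ext
  have hfl : ∀ t : T.left, Flat (T.left.fromSpecStalk t) := fun t => JointEpi.flat_fromSpecStalk t
  refine JointEpi.hom_ext_of_flat_family (fun t : T.left => T.left.fromSpecStalk t) (fun t => ?_) (fun t => ?_)
  · refine ⟨t, IsLocalRing.closedPoint (T.left.presheaf.stalk t), ?_⟩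
    exact Scheme.fromSpecStalk_closedPoint
  · let g : Over.mk (T.left.fromSpecStalk t ≫ T.hom) ⟶ T := Over.homMk (T.left.fromSpecStalk t) rfl
    have h1 := phi_natural hφ g (fibZero_pull (PicF.XTproj A.hom T) d)
    have h5 : pull (T.left.fromSpecStalk t) d = 1 := pic_spec_local (T.left.presheaf.stalk t) _
    have h2 : pull (PicF.XTmap A.hom g) (pull (PicF.XTproj A.hom T) d) = 1 := by
      rw [← pull_comp, XTmap_XTproj, pull_comp]
      exact (congrArg _ h5).trans (map_one _)
    rw [h2, phi_one hφ] at h1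
    have h3 : g ≫ φ T (toCl (pull (PicF.XTproj A.hom T) d)) = g ≫ 1 := by
      rw [← h1, MonObj.comp_one]
    exact congrArg (fun z => z.left) h3

/-- The class of the Mumford module is `mum`. -/
theorem mk_eq_mum [GrpObj A] (L : A.left.Modules) (hL : PicF.IsInvertible L) (N : (PicF.XT A.hom A).Modules)
    (hN : PicF.IsInvertible N)
    (h : AgPol.IsLambdaSheaf (μ[A].left : PicF.XT A.hom A ⟶ A.left) (fst A A).left (snd A A).left L N) :
    mk N hN = mum (mk L hL) (fst A A) (snd A A) := by
  obtain ⟨e⟩ := h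
  have h1 : (mk N hN : Pic (A ⊗ A).left) * pull (fst A A).left (mk L hL) * pull (snd A A).left (mk L hL) =
      pull μ[A].left (mk L hL) := by
    rw [pull_mk, pull_mk, pull_mk]
    exact mk_congr e
  have h2 : (fst A A * snd A A : A ⊗ A ⟶ A) = μ[A] := by
    rw [Hom.mul_def, CartesianMonoidalCategory.lift_fst_snd, Category.id_comp]
  unfold mum
  rw [h2]
  change (mk N hN : Pic (A ⊗ A).left) = _
  rw [eq_mul_inv_iff_mul_eq, eq_mul_inv_iff_mul_eq]
  rw [mul_right_comm]
  exact h1

/-- The morphism attached to an invertible module, evaluated at a point. -/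
theorem comp_lam [GrpObj A] [LocallyOfFiniteType A.hom] [QuasiCompact A.hom] [GeometricallyConnected A.hom]
    (hφ : AbDual.IsDualAV Scheme.fppfPrecoverage A At φ) (l : Pic A.left) {T : Over S} (x : T ⟶ A) :
    x ≫ φ A (toCl (mum l (fst A A) (snd A A))) =
      φ T (toCl (pull (PicF.XTmap A.hom x) (mum l (fst A A) (snd A A)))) :=
  (phi_natural hφ x (fibZero_mum l)).symm

/-- The locus where the point attached to a class in `Pic⁰` becomes trivial is a closed subscheme. -/
theorem exists_ker {X S : Scheme.{u}} (f : X ⟶ S) [IsProper f] [Flat f] [LocallyOfFinitePresentation f]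
    [GeometricallyIntegral f] (e : S ⟶ X) (he : e ≫ f = 𝟙 S) {At : Over S} [GrpObj At]
    {φ : ∀ T : Over S, PicF.Cl (PicF.XT f T) → (T ⟶ At)}
    (hφ : AbDual.IsDualAV Scheme.fppfPrecoverage (Over.mk f) At φ) (P : Over S) (n : Pic (PicF.XT f P))
    (hn : FibZero (PicF.XTproj f P) n) :
    ∃ (W : Scheme.{u}) (j : W ⟶ P.left), IsClosedImmersion j ∧ LocallyOfFinitePresentation j ∧
      ∀ (T : Over S) (x : T ⟶ P), (∃ g : T.left ⟶ W, g ≫ j = x.left) ↔ x ≫ φ P (toCl n) = 1 := by
  have hGI : GeometricallyIntegral (PicF.XTproj f P) := inferInstance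
  obtain ⟨W, j, hj1, hj2, hj⟩ := Sga7.H515.FKClosed.exists_closed (PicF.XTproj f P) (PicF.secT f e he P)
    (secT_XTproj _ _ _ _) _ (norm_mem f e he P n)
  refine ⟨W, j, hj1, hj2, fun T x => ?_⟩
  rw [hj, show x ≫ φ P (toCl n) = φ T (toCl (pull (PicF.XTmap f x) n)) from
    (phi_natural hφ x hn).symm]
  have hsq := isPullback_XTmap f x
  have h1 : pull (pullback.fst (PicF.XTproj f P) x.left) (norm f e he P n) = 1 ↔
      pull (PicF.XTmap f x) (norm f e he P n) = 1 := by
    have h2 : hsq.isoPullback.hom ≫ pullback.fst _ _ = PicF.XTmap f x := hsq.isoPullback_hom_fst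
    have h3 : hsq.isoPullback.inv ≫ PicF.XTmap f x = pullback.fst _ _ := hsq.isoPullback_inv_fst
    constructor
    · intro h
      rw [← h2, pull_comp, h, map_one]
    · intro h
      rw [← h3, pull_comp, h, map_one]
  rw [h1, pull_norm]
  have hnz : FibZero (PicF.XTproj f T) (pull (PicF.XTmap f x) n) := hn.pull _ _ (XTmap_XTproj f x)
  set c := pull (PicF.XTmap f x) n with hc
  have hdz : FibZero (PicF.XTproj f T) (pull (PicF.XTproj f T) (pull (PicF.secT f e he T) c)) :=
    fibZero_pull _ _
  have hcz : FibZero (PicF.XTproj f T) (norm f e he T c) := by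
    rw [norm_apply, div_eq_mul_inv]
    exact hnz.mul hdz.inv
  have hcc : c = norm f e he T c * pull (PicF.XTproj f T) (pull (PicF.secT f e he T) c) := by
    rw [norm_apply, div_mul_cancel]
  have hphi : φ T (toCl c) = φ T (toCl (norm f e he T c)) := by
    conv_lhs => rw [hcc]
    exact (phi_mul hφ T hcz hdz).trans (by
      rw [show φ T (toCl (pull (PicF.XTproj f T) (pull (PicF.secT f e he T) c))) = 1 from
        phi_pull hφ T _, _root_.mul_one])
  rw [hphi]
  constructor
  · intro h
    rw [h]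
    exact phi_one hφ T
  · intro h
    have h3 : φ T (toCl (norm f e he T c)) = φ T (toCl 1) := h.trans (phi_one hφ T).symm
    refine eq_of_phi_eq f (fun T U => K530.RigInj.bij_of_isProper f T U)
      e he hφ.relPic T _ _ (norm_mem f e he T c) (one_mem _) ?_ ?_ h3
    · rw [isPicZeroCl_toCl_iff]
      exact hcz
    · rw [isPicZeroCl_toCl_iff]
      exact FibZero.one _

end

end K452.LamKer
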