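import Groth.Agent.AbVar.K530.PicZero
import Groth.Prelude.Def_AgPol

/-!
# The Mumford class of an invertible module on a group scheme lies in `Pic⁰`
-/

set_option autoImplicit false
universe u
open CategoryTheory CategoryTheory.Limits MonoidalCategory CartesianMonoidalCategory MonObj AlgebraicGeometry

namespace K452.LamPic

open Groth.Agent Groth.Agent.Grpsch.PicGrp Groth.Agent.Fga.RigGrp
open Groth.Agent.Pic13.H138.AlgEquiv Groth.Agent.Pic13.H138.Slice K530.PicZero

variable {S : Scheme.{u}} {A : Over S} [GrpObj A]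

/-- the class of `m^*L ⊗ a^*L⁻¹ ⊗ b^*L⁻¹` at two points `a`, `b`. -/
noncomputable def mum (l : Pic A.left) {T : Over S} (a b : T ⟶ A) : Pic T.left :=
  pull (a * b).left l * (pull a.left l)⁻¹ * (pull b.left l)⁻¹

theorem pull_mum (l : Pic A.left) {T T' : Over S} (g : T' ⟶ T) (a b : T ⟶ A) :
    pull g.left (mum l a b) = mum l (g ≫ a) (g ≫ b) := by
  unfold mum
  rw [map_mul, map_mul, map_inv, map_inv, ← pull_comp, ← pull_comp, ← pull_comp, ← Over.comp_left,
    ← Over.comp_left, ← Over.comp_left, MonObj.comp_mul]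

theorem mum_one_right (l : Pic A.left) {T : Over S} (a : T ⟶ A) :
    mum l a 1 = (pull (1 : T ⟶ A).left l)⁻¹ := by
  unfold mum
  rw [_root_.mul_one, mul_inv_cancel, _root_.one_mul]

theorem mum_one_left (l : Pic A.left) {T : Over S} (b : T ⟶ A) :
    mum l 1 b = (pull (1 : T ⟶ A).left l)⁻¹ := by
  unfold mum
  rw [_root_.one_mul, mul_right_comm, mul_inv_cancel, _root_.one_mul]

theorem one_left (T : Over S) : (1 : T ⟶ A).left = T.hom ≫ (η[A] : 𝟙_ (Over S) ⟶ A).left := by
  rw [Hom.one_def]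
  rfl

theorem one_left' (T : Over S) {Z : Scheme.{u}} (a : T.left ⟶ Z) (b : Z ⟶ S) (h : a ≫ b = T.hom) :
    (1 : T ⟶ A).left = a ≫ b ≫ (η[A] : 𝟙_ (Over S) ⟶ A).left := by
  rw [one_left, ← h, Category.assoc]

theorem fibZero_mum [LocallyOfFiniteType A.hom] [QuasiCompact A.hom] [GeometricallyConnected A.hom]
    (l : Pic A.left) : FibZero (PicF.XTproj A.hom A) (mum l (fst A A) (snd A A)) := by
  intro Ω _ _ σ
  let X : Scheme.{u} := pullback (PicF.XTproj A.hom A) σ
  let q : X ⟶ Spec (CommRingCat.of Ω) := pullback.snd _ _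
  let inst : X.Over (Spec (CommRingCat.of Ω)) := ⟨q⟩
  change AlgEq Ω X (pull (pullback.fst (PicF.XTproj A.hom A) σ) (mum l (fst A A) (snd A A))) 1
  let s : Spec (CommRingCat.of Ω) ⟶ S := σ ≫ A.hom
  let XS : Over S := Over.mk (q ≫ s)
  let w : XS ⟶ A ⊗ A := Over.homMk (pullback.fst _ _) (by
    have h1 : (A ⊗ A).hom = (snd A A).left ≫ A.hom := (Over.w (snd A A)).symm
    rw [h1]
    exact pullback.condition_assoc _)
  let P : Scheme.{u} := Pic13.prodK Ω X q
  let PS : Over S := Over.mk (pullback.fst q q ≫ q ≫ s)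
  let p1 : PS ⟶ XS := Over.homMk (pullback.fst q q) rfl
  let p2 : PS ⟶ XS := Over.homMk (pullback.snd q q) (pullback.condition_assoc _).symm
  let t : Spec (CommRingCat.of Ω) ⟶ X := pullback.lift (σ ≫ (lift (𝟙 A) (𝟙 A)).left) (𝟙 _) (by
    have h1 : (lift (𝟙 A) (𝟙 A)).left ≫ (snd A A).left = 𝟙 A.left := by
      rw [← Over.comp_left, lift_snd]; rfl
    rw [Category.assoc, Category.id_comp]
    erw [h1]
    rw [Category.comp_id])
  let t₀ : Spec (CommRingCat.of Ω) ⟶ X := pullback.lift (σ ≫ (lift (1 : A ⟶ A) (𝟙 A)).left) (𝟙 _) (by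
    have h1 : (lift (1 : A ⟶ A) (𝟙 A)).left ≫ (snd A A).left = 𝟙 A.left := by
      rw [← Over.comp_left, lift_snd]; rfl
    rw [Category.assoc, Category.id_comp]
    erw [h1]
    rw [Category.comp_id])
  have ht : t ≫ q = 𝟙 _ := pullback.lift_snd _ _ _
  have ht₀ : t₀ ≫ q = 𝟙 _ := pullback.lift_snd _ _ _
  have hX : ConnectedSpace X := by
    have : GeometricallyConnected (PicF.XTproj A.hom A) := inferInstance
    have h2 : ConnectedSpace (Spec (CommRingCat.of Ω)) :=
      (inferInstance : ConnectedSpace (PrimeSpectrum Ω))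
    exact GeometricallyConnected.geometrically_connectedSpace (f := PicF.XTproj A.hom A) σ
        (pullback.fst _ σ) (pullback.snd _ σ) (IsPullback.of_hasPullback _ _)
  refine ⟨X, q, hX, inferInstance, inferInstance,
    mum l (T := PS) (p1 ≫ w ≫ fst A A) (p2 ≫ w ≫ fst A A), t, t₀, ht, ht₀, ?_, ?_⟩
  · let sl : XS ⟶ PS := Over.homMk (Pic13.sliceAt Ω X q t ht) (by
      have h1 : Pic13.sliceAt Ω X q t ht ≫ pullback.fst q q = 𝟙 X := sliceAt_fst Ω X q t ht
      exact (Category.assoc _ _ _).symm.trans ((congrArg (fun z => z ≫ q ≫ s) h1).trans (Category.id_comp _)))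
    have e1 : sl ≫ p1 = 𝟙 XS := Over.OverMorphism.ext (sliceAt_fst Ω X q t ht)
    have e2 : (sl ≫ p2).left = q ≫ t := sliceAt_snd Ω X q t ht
    have e3 : sl ≫ p2 ≫ w ≫ fst A A = w ≫ snd A A := by
      apply Over.OverMorphism.ext
      have h1 : (w ≫ snd A A).left = q ≫ σ := pullback.condition
      rw [← Category.assoc, Over.comp_left, e2, h1, Over.comp_left, Category.assoc]
      congr 1
      have h2 : t ≫ w.left = σ ≫ (lift (𝟙 A) (𝟙 A)).left := pullback.lift_fst _ _ _
      rw [reassoc_of% h2, ← Over.comp_left, lift_fst]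
      exact Category.comp_id _
    change pull sl.left (mum l (p1 ≫ w ≫ fst A A) (p2 ≫ w ≫ fst A A)) =
      pull w.left (mum l (fst A A) (snd A A))
    rw [pull_mum, pull_mum, e3, reassoc_of% e1]
  · let sl : XS ⟶ PS := Over.homMk (Pic13.sliceAt Ω X q t₀ ht₀) (by
      have h1 : Pic13.sliceAt Ω X q t₀ ht₀ ≫ pullback.fst q q = 𝟙 X := sliceAt_fst Ω X q t₀ ht₀
      exact (Category.assoc _ _ _).symm.trans ((congrArg (fun z => z ≫ q ≫ s) h1).trans (Category.id_comp _)))
    have e1 : sl ≫ p1 = 𝟙 XS := Over.OverMorphism.ext (sliceAt_fst Ω X q t₀ ht₀)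
    have e2 : (sl ≫ p2).left = q ≫ t₀ := sliceAt_snd Ω X q t₀ ht₀
    have e3 : sl ≫ p2 ≫ w ≫ fst A A = 1 := by
      apply Over.OverMorphism.ext
      rw [← Category.assoc, Over.comp_left, e2, Over.comp_left, Category.assoc]
      have h2 : t₀ ≫ w.left = σ ≫ (lift (1 : A ⟶ A) (𝟙 A)).left := pullback.lift_fst _ _ _
      rw [reassoc_of% h2, ← Over.comp_left, lift_fst, one_left, one_left]
      rfl
    change pull sl.left (mum l (p1 ≫ w ≫ fst A A) (p2 ≫ w ≫ fst A A)) = 1
    rw [pull_mum, e3, mum_one_right, one_left' XS q s rfl, pull_comp]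
    have h5 := pic_spec_local Ω (pull (s ≫ (η[A] : 𝟙_ (Over S) ⟶ A).left) l)
    rw [h5, map_one, inv_one]

end K452.LamPic
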