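import Groth.Agent.AbSch.K452.ExSeq
import Groth.Agent.AbSch.K452.TorsRep
import Groth.Agent.AlgSp.K651.Sigma
import Groth.Agent.Sga3.H804.EtFam
import Groth.Agent.S8712
import Groth.Agent.Desc.MorDescent
import Groth.Agent.Unram.K147.LQF
import Groth.Agent.AlgSp.K594.Local

/-!
# Extensions by lattices

`IsLat X`: étale-locally on the base, the group scheme `X` is the constant group of a f.g. free abelian group.
* `etale`, `isSeparated`: such a group scheme is étale and separated over the base;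
* `exists_section`: extensions (of sheaves, big fppf site) of a smooth group scheme of finite presentation with
  geometrically connected fibres by `X` split.
-/

set_option autoImplicit false
universe u
open CategoryTheory CategoryTheory.Limits MonoidalCategory CartesianMonoidalCategory MonObj AlgebraicGeometry
open CGrpSh Opposite

namespace K452.LatExt

/-- étale-locally constant group schemes, with values in f.g. free abelian groups -/
abbrev IsLat {S : Scheme.{u}} (X : Over S) [GrpObj X] : Prop :=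
  TwC.Locally S TwC.Topology.etale (fun S' f =>
      ∃ (r : ℕ) (e : Red.bc f X ≅ TwC.const S' (Multiplicative (Fin r → ℤ))),
        TwC.IsConstGrp (Multiplicative (Fin r → ℤ)) (Red.bc f X) e)

section

variable {S : Scheme.{u}} {X : Over S} [GrpObj X] (hX : IsLat X)

theorem etale_const (S' : Scheme.{u}) (M : Type u) : Etale (TwC.const S' M).hom := by
  change Etale (Sigma.desc fun _ : M => 𝟙 S')
  exact IsZariskiLocalAtSource.sigmaDesc (P := @Etale) fun _ => inferInstance

theorem isSeparated_const (S' : Scheme.{u}) (M : Type u) : IsSeparated (TwC.const S' M).hom := by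
  change IsSeparated (Sigma.desc fun _ : M => 𝟙 S')
  exact K651.Sigma.isSeparated_sigmaDesc _ _ fun _ => inferInstance

theorem prop_of_iso (P : MorphismProperty Scheme.{u}) [P.RespectsIso] {S' : Scheme.{u}} {Y Z : Over S'}
    (e : Y ≅ Z) (h : P Z.hom) : P Y.hom := by
  have h1 : IsIso e.hom.left := inferInstanceAs (IsIso ((Over.forget _).map e.hom))
  rw [← Over.w e.hom, P.cancel_left_of_respectsIso]
  exact h

include hX in
theorem prop_of_local {P : MorphismProperty Scheme.{u}} [IsZariskiLocalAtTarget P]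
    [P.DescendsAlong (@Surjective ⊓ @Flat ⊓ @LocallyOfFinitePresentation)]
    (h : ∀ (S' : Scheme.{u}) (M : Type u), P (TwC.const S' M).hom) : P X.hom := by
  choose V f hf hs r e he using hX
  refine Groth.Agent.Sga3.H804.EtFam.of_etale_family (P := P) X.hom V f hf (fun s => ⟨s, hs s⟩)
    (a := fun s => pullback.fst X.hom (f s)) (b := fun s => pullback.snd X.hom (f s))
    (fun s => IsPullback.of_hasPullback _ _) (fun s => ?_)
  exact prop_of_iso P (Y := Red.bc (f s) X) (e s ≪≫ K564.ExtBase.constULift _ _) (h _ _)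

include hX in
theorem etale : Etale X.hom := prop_of_local hX etale_const

include hX in
theorem isSeparated : IsSeparated X.hom :=
  have := Groth.Agent.Desc.MorDescent.descendsAlong_isSeparated.{u}
  prop_of_local hX isSeparated_const

open K564.ConstTors K564.ExtAlg K564.ExtBase K564.ExtTwisted

theorem exists_cover {E P : Over S} [GrpObj E] [GrpObj P] (hX : IsLat X)
    (u : X ⟶ E) (v : E ⟶ P) [IsMonHom u] [IsMonHom v] (huv : u ≫ v = 1)
    (hpb : IsPullback (fst E X) ((E ◁ u) ≫ μ[E]) v v) :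
    ∃ R ∈ Scheme.fpqcPrecoverage S, ∀ ⦃W : Scheme.{u}⦄ (f : W ⟶ S), R f → ConstOver v f := by
  choose V f hf hs r e he using hX
  refine ⟨Presieve.ofArrows V f, Scheme.fppfPrecoverage_le_fpqcPrecoverage _ ?_, ?_⟩
  · change _ ∈ Scheme.precoverage _ S
    rw [Scheme.ofArrows_mem_precoverage_iff]
    exact ⟨fun s => ⟨s, hs s⟩, fun s => ⟨inferInstance, inferInstance⟩⟩
  · rintro _ _ ⟨s⟩
    exact ⟨ULift.{u} (Multiplicative (Fin (r s) → ℤ)), inferInstance, Groth.Agent.S8712.torsionFree _,
      ⟨ctBc (f s) (isConstGrp_ulift (e s) (he s)) u v huv hpb⟩⟩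

/-- Extensions of smooth group schemes of finite presentation with geometrically connected fibres by lattices
split. -/
theorem exists_splitting {E P : Over S} [GrpObj E] [GrpObj P] (hX : IsLat X)
    [Smooth P.hom] [QuasiCompact P.hom] [QuasiSeparated P.hom] [GeometricallyConnected P.hom]
    (u : X ⟶ E) (v : E ⟶ P) (hex : NonAbH1.IsExactSeq Scheme.fppfPrecoverage u v) :
    ∃ s : P ⟶ E, IsMonHom s ∧ s ≫ v = 𝟙 P := by
  obtain ⟨hu, hv, huv, hpb, hloc⟩ := hex
  obtain ⟨R, hR, hc⟩ := exists_cover hX u v huv hpb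
  have hmono : Mono u := mono_of_pb u v hpb
  have hηP : (η[P] : 𝟙_ (Over S) ⟶ P).left ≫ P.hom = 𝟙 S := Over.w (η[P] : 𝟙_ (Over S) ⟶ P)
  have hηE : (η[E] : 𝟙_ (Over S) ⟶ E).left ≫ v.left = (η[P] : 𝟙_ (Over S) ⟶ P).left := by
    rw [← Over.comp_left, IsMonHom.one_hom]
  obtain ⟨s, hs1, hs2⟩ := exists_section_of_cover hR v (locTriv_of v.left hloc) hc
    (η[P] : 𝟙_ (Over S) ⟶ P).left hηP (η[E] : 𝟙_ (Over S) ⟶ E).left hηE
  let g : P ⟶ E := Over.homMk s (by rw [← Over.w v, ← Category.assoc, hs1, Category.id_comp])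
  have hgv : g ≫ v = 𝟙 P := Over.OverMorphism.ext hs1
  have hη : η[P] ≫ g = η[E] := Over.OverMorphism.ext hs2
  refine ⟨g, ⟨hη, ?_⟩, hgv⟩
  have hconn : GeometricallyConnected (P ⊗ P).hom := by
    have h1 : GeometricallyConnected (pullback.fst P.hom P.hom) := inferInstance
    exact GeometricallyConnected.comp (pullback.fst P.hom P.hom) P.hom
  apply Over.OverMorphism.ext
  refine eq_of_cover hR v hc (P ⊗ P).hom (lift η[P] η[P]).left (Over.w (lift η[P] η[P])) _ _ (Over.w _) ?_ ?_
  · rw [← Over.comp_left, ← Over.comp_left]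
    congr 1
    rw [Category.assoc, Category.assoc, hgv, Category.comp_id, IsMonHom.mul_hom v, ← Category.assoc (g ⊗ₘ g),
      tensorHom_comp_tensorHom, hgv, id_tensorHom_id, Category.id_comp]
  · rw [← Over.comp_left, ← Over.comp_left]
    congr 1
    have h1 : ∀ (Q : Over S) [GrpObj Q], lift η[Q] η[Q] ≫ μ[Q] = η[Q] := by
      intro Q _
      rw [← Hom.mul_def]
      have h2 : (η[Q] : 𝟙_ (Over S) ⟶ Q) = 1 := by
        rw [Hom.one_def, toUnit_unique (toUnit (𝟙_ (Over S))) (𝟙 _), Category.id_comp]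
      rw [h2, _root_.mul_one]
    rw [← Category.assoc, h1, hη, ← Category.assoc, lift_map, hη, h1]

/-- Splitting of extensions of sheaves. -/
theorem exists_section {P : Over S} [IsCommMonObj X] (hX : IsLat X) [GrpObj P] [IsCommMonObj P]
    [Smooth P.hom] [QuasiCompact P.hom] [QuasiSeparated P.hom] [GeometricallyConnected P.hom]
    {E : BigSite.Ab Scheme.fppfPrecoverage S} (i : pts Scheme.fppfPrecoverage X ⟶ E)
    (q : E ⟶ pts Scheme.fppfPrecoverage P) (w : i ≫ q = 0) (hex : (ShortComplex.mk i q w).ShortExact) :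
    ∃ s : pts Scheme.fppfPrecoverage P ⟶ E, s ≫ q = 𝟙 _ := by
  have h1 := etale hX
  have h2 := isSeparated hX
  let Q : MorphismProperty Scheme.{u} := @AlgebraicGeometry.Etale ⊓ @IsSeparated
  have := K594.Local.etale.{u}
  have := K594.Local.isSeparated.{u}
  have hQ : Q.IsLocalAtTarget Scheme.fppfPrecoverage := MorphismProperty.IsLocalAtTarget.inf _ _
  have hQ' : Q ≤ K594.FppfRep.Slqf := by
    rintro A B f ⟨hf1, hf2⟩
    have := hf1
    exact ⟨hf2, K147.LQF.locallyQuasiFinite_of_etale f, inferInstance⟩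
  obtain ⟨G, g1, g2, v, hv, e, he, -⟩ := K452.TorsRep.exists_grp i q w hex Q hQ' ⟨h1, h2⟩
  let u : X ⟶ G := K731.Full.hom (i ≫ e.inv)
  have hu : ptsMap Scheme.fppfPrecoverage u = i ≫ e.inv := K731.Full.ptsMap_hom _
  have hw : ptsMap Scheme.fppfPrecoverage u ≫ ptsMap Scheme.fppfPrecoverage v = 0 := by
    rw [hu, ← he, Category.assoc, e.inv_hom_id_assoc, w]
  have hse : (ShortComplex.mk _ _ hw).ShortExact := by
    refine ShortComplex.shortExact_of_iso (S₁ := ShortComplex.mk i q w)
      (ShortComplex.isoMk (Iso.refl _) e.symm (Iso.refl _) ?_ ?_) hex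
    · change 𝟙 _ ≫ ptsMap Scheme.fppfPrecoverage u = i ≫ e.inv
      rw [Category.id_comp, hu]
    · change e.inv ≫ ptsMap Scheme.fppfPrecoverage v = q ≫ 𝟙 _
      rw [Category.comp_id, ← he, e.inv_hom_id_assoc]
  obtain ⟨s, hs, hsv⟩ := exists_splitting hX u v (K452.ExSeq.isExactSeq u v hw hse)
  refine ⟨ptsMap Scheme.fppfPrecoverage s ≫ e.hom, ?_⟩
  rw [Category.assoc, he, ← ptsMap_comp]
  have : ∀ (a : P ⟶ P) [IsMonHom a], a = 𝟙 P → ptsMap Scheme.fppfPrecoverage a = 𝟙 _ := by
    intro a _ ha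
    subst ha
    exact ptsMap_id _
  exact this _ hsv

end

end K452.LatExt
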