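import Groth.Agent.AbSch.K452.LatLC
import Groth.Agent.AbSch.K453.Slice
import Groth.Agent.AbSch.K452.ConnFib
import Groth.Agent.S19288
import Groth.Agent.SGA3x.K6.Const
import Groth.Agent.Sga3B.BcIso

/-!
# Homomorphisms to and extensions by lattices: the sheaf versions
-/

set_option autoImplicit false
universe u
open CategoryTheory CategoryTheory.Limits MonoidalCategory CartesianMonoidalCategory MonObj AlgebraicGeometry
open CGrpSh Opposite

namespace K452.LatHomExt

open K453.Slice

variable {S : Scheme.{u}}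

theorem pt_bcConst {M : Type} {S' : Scheme.{u}} (q : S' ⟶ S) (m : M) :
    TwC.pt S' M m ≫ (K6.Const.bcConst M q).inv =
      Functor.LaxMonoidal.ε (Over.pullback q) ≫ (Over.pullback q).map (TwC.pt S M m) := by
  apply Over.OverMorphism.ext
  apply pullback.hom_ext
  · rw [K6.Const.pt_bcConst_inv]
    have h1 : ((Over.pullback q).map (TwC.pt S M m)).left ≫ pullback.fst (TwC.const S M).hom q =
      pullback.fst (𝟙_ (Over S)).hom q ≫ (TwC.pt S M m).left := pullback.lift_fst _ _ _
    have h3 : pullback.fst (𝟙_ (Over S)).hom q ≫ (𝟙_ (Over S)).hom = pullback.snd (𝟙_ (Over S)).hom q ≫ q :=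
      pullback.condition
    have h4 : (Functor.LaxMonoidal.ε (Over.pullback q)).left ≫ pullback.snd (𝟙_ (Over S)).hom q =
      (𝟙_ (Over S')).hom := Over.w (Functor.LaxMonoidal.ε (Over.pullback q))
    have h5 : pullback.fst (𝟙_ (Over S)).hom q ≫ (𝟙_ (Over S)).hom = pullback.fst (𝟙_ (Over S)).hom q :=
      Category.comp_id _
    rw [Over.comp_left, Category.assoc, h1, ← h5, h3, ← Category.assoc, ← Category.assoc, h4]
    change _ = (𝟙 S' ≫ q) ≫ _
    rw [Category.id_comp]
  · exact (Over.w (TwC.pt S' M m ≫ (K6.Const.bcConst M q).inv)).trans (Over.w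
      (Functor.LaxMonoidal.ε (Over.pullback q) ≫ (Over.pullback q).map (TwC.pt S M m))).symm

theorem isConstGrp_bc {M : Type} [Group M] {G : Over S} [GrpObj G] (e : G ≅ TwC.const S M)
    (he : TwC.IsConstGrp M G e) {S' : Scheme.{u}} (q : S' ⟶ S) :
    TwC.IsConstGrp M (Red.bc q G) ((Over.pullback q).mapIso e ≪≫ K6.Const.bcConst M q) := by
  have h1 : ∀ m, TwC.pt S' M m ≫ ((Over.pullback q).mapIso e ≪≫ K6.Const.bcConst M q).inv =
      Functor.LaxMonoidal.ε (Over.pullback q) ≫ (Over.pullback q).map (TwC.pt S M m ≫ e.inv) := by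
    intro m
    change TwC.pt S' M m ≫ (K6.Const.bcConst M q).inv ≫ (Over.pullback q).map e.inv = _
    rw [← Category.assoc, pt_bcConst, Category.assoc, Functor.map_comp]
  intro m n
  rw [h1, h1, h1, ← he m n, ← MonObj.comp_mul]
  congr 1
  exact (Functor.map_mul _ _ _).symm

theorem isConstGrp_iso {M : Type} [Group M] {G G' : Over S} [GrpObj G] [GrpObj G'] (ψ : G ≅ G') [IsMonHom ψ.hom]
    (e : G ≅ TwC.const S M) (he : TwC.IsConstGrp M G e) : TwC.IsConstGrp M G' (ψ.symm ≪≫ e) := by
  have h1 : ∀ m, TwC.pt S M m ≫ (ψ.symm ≪≫ e).inv = (TwC.pt S M m ≫ e.inv) ≫ ψ.hom :=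
    fun m => (Category.assoc _ _ _).symm
  intro m n
  rw [h1, h1, h1, ← he m n, MonObj.mul_comp]

theorem isLat_bc {X : Over S} [GrpObj X] (hX : LatExt.IsLat X) {S' : Scheme.{u}} (f : S' ⟶ S) :
    LatExt.IsLat (Red.bc f X) := by
  intro s'
  obtain ⟨U, g, hg, ⟨x, hx⟩, r, e, he⟩ := hX (f s')
  obtain ⟨z, hz, -⟩ := Scheme.Pullback.exists_preimage_pullback (f := f) (g := g) s' x hx.symm
  refine ⟨pullback f g, pullback.fst f g, inferInstance, ⟨z, hz⟩, r, ?_⟩
  let φ : Grp.mk (Red.bc (pullback.snd f g) (Red.bc g X)) ≅ Grp.mk (Red.bc (pullback.fst f g) (Red.bc f X)) :=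
    (Groth.Agent.Sga3B.BcIso.bcCompIso _ _ _).symm ≪≫
      Groth.Agent.Sga3B.BcIso.bcCongrIso pullback.condition.symm X ≪≫ Groth.Agent.Sga3B.BcIso.bcCompIso _ _ _
  let ψ : Red.bc (pullback.snd f g) (Red.bc g X) ≅ Red.bc (pullback.fst f g) (Red.bc f X) :=
    (Grp.forget _).mapIso φ
  have : IsMonHom ψ.hom := inferInstanceAs (IsMonHom φ.hom.hom.hom)
  exact ⟨_, isConstGrp_iso ψ _ (isConstGrp_bc e he (pullback.snd f g))⟩

section

variable {P X : Over S} [GrpObj X] [IsCommMonObj X] [GrpObj P] [IsCommMonObj P]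

theorem isZero_homSh (hX : LatExt.IsLat X) [Smooth P.hom] [QuasiCompact P.hom] [QuasiSeparated P.hom]
    (hP : ∀ s : S, ConnectedSpace ↥(P.hom.fiber s)) :
    IsZero (HomSh.homSh (QuotSh.J Scheme.fppfPrecoverage S) (pts Scheme.fppfPrecoverage P)
      (pts Scheme.fppfPrecoverage X)) := by
  have h1 := LatExt.etale hX
  have h2 := LatExt.isSeparated hX
  have h3 := ConnFib.geometricallyConnected P hP
  refine isZero_homSh_pts _ P X fun T t ψ _ => ?_
  have : Etale (Red.bc t X).hom := inferInstanceAs (Etale (pullback.snd X.hom t))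
  have : IsSeparated (Red.bc t X).hom := inferInstanceAs (IsSeparated (pullback.snd X.hom t))
  have : QuasiCompact (Red.bc t P).hom := inferInstanceAs (QuasiCompact (pullback.snd P.hom t))
  have : QuasiSeparated (Red.bc t P).hom := inferInstanceAs (QuasiSeparated (pullback.snd P.hom t))
  have : Smooth (Red.bc t P).hom := inferInstanceAs (Smooth (pullback.snd P.hom t))
  have : GeometricallyConnected (Red.bc t P).hom := inferInstanceAs (GeometricallyConnected (pullback.snd P.hom t))
  exact Groth.Agent.S19288.result (Red.bc t P) (Red.bc t X) (fun s => inferInstance) ψ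

theorem isZero_extSh (hX : LatExt.IsLat X) [Smooth P.hom] [QuasiCompact P.hom] [QuasiSeparated P.hom]
    (hP : ∀ s : S, ConnectedSpace ↥(P.hom.fiber s)) :
    IsZero ((HomSh.extSh (QuotSh.J Scheme.fppfPrecoverage S) (pts Scheme.fppfPrecoverage P) 1).obj
      (pts Scheme.fppfPrecoverage X)) := by
  have h3 := ConnFib.geometricallyConnected P hP
  refine LocExt.isZero_extSh_one_of_split _ _ fun Y E hE e₁ e₃ => ?_
  obtain @⟨E₁, E₂, E₃, i, q, w⟩ := E
  dsimp only at e₁ e₃
  subst e₁ e₃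
  let K := Scheme.fppfPrecoverage.{u}
  have hres := shortExact_res K Y hE
  let i' : pts K (Red.bc Y.hom X) ⟶ (res K Y).obj E₂ := (ptsIso K Y X).inv ≫ (res K Y).map i
  let q' : (res K Y).obj E₂ ⟶ pts K (Red.bc Y.hom P) := (res K Y).map q ≫ (ptsIso K Y P).hom
  have w' : i' ≫ q' = 0 := by
    change ((ptsIso K Y X).inv ≫ (res K Y).map i) ≫ (res K Y).map q ≫ (ptsIso K Y P).hom = 0
    rw [Category.assoc, ← Functor.map_comp_assoc, w, Functor.map_zero, zero_comp, comp_zero]
  have hex : (ShortComplex.mk i' q' w').ShortExact := by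
    refine ShortComplex.shortExact_of_iso (S₁ := (ShortComplex.mk i q w).map (res K Y))
      (S₂ := ShortComplex.mk i' q' w')
      (ShortComplex.isoMk (ptsIso K Y X) (Iso.refl _) (ptsIso K Y P) ?_ ?_) hres
    · change (ptsIso K Y X).hom ≫ (ptsIso K Y X).inv ≫ (res K Y).map i = (res K Y).map i ≫ 𝟙 _
      rw [Iso.hom_inv_id_assoc, Category.comp_id]
    · change 𝟙 _ ≫ (res K Y).map q ≫ (ptsIso K Y P).hom = (res K Y).map q ≫ (ptsIso K Y P).hom
      rw [Category.id_comp]
  have : QuasiCompact (Red.bc Y.hom P).hom := inferInstanceAs (QuasiCompact (pullback.snd P.hom Y.hom))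
  have : QuasiSeparated (Red.bc Y.hom P).hom := inferInstanceAs (QuasiSeparated (pullback.snd P.hom Y.hom))
  have : Smooth (Red.bc Y.hom P).hom := inferInstanceAs (Smooth (pullback.snd P.hom Y.hom))
  have : GeometricallyConnected (Red.bc Y.hom P).hom :=
    inferInstanceAs (GeometricallyConnected (pullback.snd P.hom Y.hom))
  obtain ⟨s, hs⟩ := LatExt.exists_section (isLat_bc hX Y.hom) i' q' w' hex
  refine ⟨(res K Y).preimage ((ptsIso K Y P).hom ≫ s), (res K Y).map_injective ?_⟩
  rw [Functor.map_comp, Functor.map_preimage, CategoryTheory.Functor.map_id, Category.assoc]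
  have h5 : s ≫ (res K Y).map q = (ptsIso K Y P).inv := by
    rw [← cancel_mono (ptsIso K Y P).hom, Category.assoc, Iso.inv_hom_id]
    exact hs
  rw [h5, Iso.hom_inv_id]

end

end K452.LatHomExt
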