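import Groth.Agent.AbSch.K452.LocExt
import Groth.Agent.AbSch.K452.LatExt
import Groth.Agent.SGA7.K565.ConstPts
import Groth.Agent.Sga3B.DSPts

/-!
# Lattices are locally constant sheaves on the big fppf site

`exists_LC`: the sheaf of points of a group scheme which is étale-locally the constant group of a f.g. free abelian group
is locally constant in the sense of `K452.LocExt.LC`.
-/

set_option autoImplicit false
universe u
open CategoryTheory CategoryTheory.Limits MonoidalCategory CartesianMonoidalCategory MonObj AlgebraicGeometry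
open CGrpSh Opposite

namespace K452.LatLC

open K452.LocExt K452.ExSeq K565.ConstPts Groth.Agent.Sga3B.DSPts

variable {S : Scheme.{u}}

theorem mem_J_of_cover {T : Over S} {I : Type*} (V : I → Scheme.{u}) (f : ∀ i, V i ⟶ T.left)
    (hs : ∀ t : T.left, ∃ i, t ∈ Set.range (f i)) [∀ i, Flat (f i)] [∀ i, LocallyOfFinitePresentation (f i)]
    (R : Sieve T) (hR : ∀ i, R (Over.homMk (f i) : Over.mk (f i ≫ T.hom) ⟶ T)) :
    R ∈ QuotSh.J Scheme.fppfPrecoverage S T := by
  have hP : Presieve.ofArrows V f ∈ Scheme.fppfPrecoverage T.left := by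
    change _ ∈ Scheme.precoverage _ _
    rw [Scheme.ofArrows_mem_precoverage_iff]
    exact ⟨hs, fun s => ⟨inferInstance, inferInstance⟩⟩
  have hle : (Sieve.overEquiv T).symm (Sieve.generate (Presieve.ofArrows V f)) ≤ R := ?_
  · exact (QuotSh.J Scheme.fppfPrecoverage S).superset_covering hle (K731.Basic.mem_J_of_mem hP)
  intro (T' : Over S) (h : T' ⟶ T) hh
  obtain ⟨W, g, q, ⟨i⟩, hgq⟩ := (Sieve.overEquiv_symm_iff _ _).mp hh
  let g' : T' ⟶ Over.mk (f i ≫ T.hom) := Over.homMk g (by
    rw [← Over.w h, ← hgq, Category.assoc]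
    rfl)
  have hg' : g' ≫ (Over.homMk (f i) : Over.mk (f i ≫ T.hom) ⟶ T) = h := by
    ext1
    exact hgq
  rw [← hg']
  exact R.downward_closed (hR i) g'

theorem bot_mem (T : Over S) [IsEmpty T.left] : (⊥ : Sieve T) ∈ QuotSh.J Scheme.fppfPrecoverage S T := by
  have : ∀ i : PEmpty.{1}, Flat (PEmpty.elim i : T.left ⟶ T.left) := fun i => i.elim
  have : ∀ i : PEmpty.{1}, LocallyOfFinitePresentation (PEmpty.elim i : T.left ⟶ T.left) := fun i => i.elim
  exact mem_J_of_cover (I := PEmpty.{1}) (fun i => T.left) (fun i => i.elim) (fun t => (IsEmpty.false t).elim) ⊥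
    (fun i => i.elim)

section

variable {X : Over S} [GrpObj X] {S' : Scheme.{u}} (f : S' ⟶ S) {Z : Type u} [Group Z]
    (c : CP Z (Red.bc f X)) (A : Over S')

/-- the constant points -/
noncomputable def cpt (z : Z) : (Over.map f).obj A ⟶ X := (bcEquiv f A X).symm (toUnit A ≫ c.pt z)

theorem cpt_one : cpt f c A 1 = 1 := by
  rw [cpt, c.pt_one, comp_one, map_one]

theorem cpt_mul (z w : Z) : cpt f c A (z * w) = cpt f c A z * cpt f c A w := by
  rw [cpt, c.mul, comp_mul, map_mul]
  rfl

/-- an object over `(Over.map f).obj A` as an object over `S'` -/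
abbrev lift {T : Over S} (t : T ⟶ (Over.map f).obj A) : Over S' := Over.mk (t.left ≫ A.hom)

theorem lift_w {T : Over S} (t : T ⟶ (Over.map f).obj A) : (t.left ≫ A.hom) ≫ f = T.hom := by
  rw [Category.assoc]
  exact Over.w t

theorem comp_cpt_left {T : Over S} (t : T ⟶ (Over.map f).obj A) (z : Z) :
    (t ≫ cpt f c A z).left = (toUnit (lift f A t) ≫ c.pt z).left ≫ pullback.fst X.hom f := by
  rw [Over.comp_left, cpt, bcEquiv_symm_left, ← Category.assoc]
  let t' : lift f A t ⟶ A := Over.homMk t.left rfl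
  have h1 : t'.left ≫ (toUnit A ≫ c.pt z).left = (toUnit (lift f A t) ≫ c.pt z).left := by
    rw [← Over.comp_left, ← Category.assoc, toUnit_unique (t' ≫ toUnit A) (toUnit _)]
  exact congrArg (fun a => a ≫ pullback.fst X.hom f) h1

theorem dec {T : Over S} (t : T ⟶ (Over.map f).obj A) (g : T ⟶ X) : ∃ V : Z → T.left.Opens,
    (∀ x : T.left, ∃! z, x ∈ V z) ∧ ∀ z, (Over.homMk (V z).ι : Over.mk ((V z).ι ≫ T.hom) ⟶ T) ≫ g =
      (Over.homMk (V z).ι : Over.mk ((V z).ι ≫ T.hom) ⟶ T) ≫ t ≫ cpt f c A z := by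
  let j : (Over.map f).obj (lift f A t) ⟶ T := Over.homMk (𝟙 _) (by
    change 𝟙 _ ≫ T.hom = (t.left ≫ A.hom) ≫ f
    rw [Category.id_comp, lift_w])
  let g1 : lift f A t ⟶ Red.bc f X := bcEquiv f _ X (j ≫ g)
  have hg1 : g1.left ≫ pullback.fst X.hom f = g.left := by
    have h1 := bcEquiv_fst f _ X (j ≫ g)
    refine h1.trans ?_
    change 𝟙 _ ≫ g.left = g.left
    rw [Category.id_comp]
  obtain ⟨V, hV1, hV2⟩ := c.dec g1
  refine ⟨V, hV1, fun z => Over.OverMorphism.ext ?_⟩
  rw [Over.comp_left, Over.comp_left, comp_cpt_left, ← hg1, ← Category.assoc, ← Category.assoc]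
  congr 1
  exact hV2 z

theorem inj {T : Over S} [hT : Nonempty T.left] (t : T ⟶ (Over.map f).obj A) {z w : Z}
    (h : t ≫ cpt f c A z = t ≫ cpt f c A w) : z = w := by
  have : Nonempty (lift f A t).left := hT
  apply c.inj (T := lift f A t)
  apply (bcEquiv f _ X).symm.injective
  apply Over.OverMorphism.ext
  rw [bcEquiv_symm_left, bcEquiv_symm_left, ← comp_cpt_left, ← comp_cpt_left, h]

end

/-- The sheaf of points of a group scheme which is constant over `S'` is constant over all objects over `S'`. -/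
noncomputable def lcOf {X : Over S} [GrpObj X] [IsCommMonObj X] {S' : Scheme.{u}} (f : S' ⟶ S) {r : ℕ}
    (c : CP (ULift.{u} (Multiplicative (Fin r → ℤ))) (Red.bc f X)) (A : Over S') :
    LC (pts Scheme.fppfPrecoverage X) ((Over.map f).obj A) (Fin r → ℤ) where
  pt :=
    { toFun := fun m => up (cpt f c A (ULift.up (Multiplicative.ofAdd m)))
      map_zero' := by
        have h1 : cpt f c A (ULift.up (Multiplicative.ofAdd 0)) = 1 := cpt_one f c A
        rw [h1]
        rfl
      map_add' := fun m m' => by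
        have h1 : cpt f c A (ULift.up (Multiplicative.ofAdd (m + m'))) = _ :=
          cpt_mul f c A (ULift.up (Multiplicative.ofAdd m)) (ULift.up (Multiplicative.ofAdd m'))
        rw [h1]
        rfl }
  dec {T} t g := by
    obtain ⟨g⟩ := g
    obtain ⟨V, hV1, hV2⟩ := dec f c A t g.toMul
    refine ⟨⟨fun T' h => ∃ m : Fin r → ℤ, (pts Scheme.fppfPrecoverage X).obj.map h.op ⟨g⟩ =
      (pts Scheme.fppfPrecoverage X).obj.map (h ≫ t).op (up (cpt f c A (ULift.up (Multiplicative.ofAdd m)))), ?_⟩,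
      ?_, fun T' h hh => hh⟩
    · rintro Y Y' h ⟨m, hm⟩ k
      refine ⟨m, ?_⟩
      rw [LC.map_comp_apply, hm, ← LC.map_comp_apply, Category.assoc]
    · refine mem_J_of_cover (fun z => (V z : Scheme.{u})) (fun z => (V z).ι) (fun x => ?_) _ (fun z => ?_)
      · obtain ⟨z, hz, -⟩ := hV1 x
        exact ⟨z, by simpa using hz⟩
      · refine ⟨z.down.toAdd, ?_⟩
        have h1 := (hV2 z).trans (Category.assoc _ _ _).symm
        exact congrArg (fun x => up (K := Scheme.fppfPrecoverage) x) h1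
  inj {T} t m m' h := by
    by_cases hT : Nonempty T.left
    · left
      have h1 : t ≫ cpt f c A (ULift.up (Multiplicative.ofAdd m)) =
        t ≫ cpt f c A (ULift.up (Multiplicative.ofAdd m')) := up_inj (K := Scheme.fppfPrecoverage) h
      have h2 := inj f c A t h1
      exact Multiplicative.ofAdd.injective (ULift.up_injective h2)
    · right
      have := not_nonempty_iff.mp hT
      exact bot_mem T

theorem exists_LC {X : Over S} [GrpObj X] [IsCommMonObj X] (hX : LatExt.IsLat X) (Y : Over S) :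
    ∃ R ∈ QuotSh.J Scheme.fppfPrecoverage S Y, ∀ ⦃V : Over S⦄ (g : V ⟶ Y), R g →
      ∃ r : ℕ, Nonempty (LC (pts Scheme.fppfPrecoverage X) V (Fin r → ℤ)) := by
  choose U f hf hs r e he using hX
  refine ⟨⟨fun V g => ∃ r : ℕ, Nonempty (LC (pts Scheme.fppfPrecoverage X) V (Fin r → ℤ)), ?_⟩, ?_,
    fun V g h => h⟩
  · rintro V W g ⟨r, ⟨c⟩⟩ k
    exact ⟨r, ⟨c.res k⟩⟩
  · refine mem_J_of_cover (fun s => pullback Y.hom (f s)) (fun s => pullback.fst Y.hom (f s)) (fun y => ?_) _
      (fun s => ?_)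
    · obtain ⟨x, hx⟩ := hs (Y.hom y)
      obtain ⟨z, hz, -⟩ := Scheme.Pullback.exists_preimage_pullback y x hx.symm
      exact ⟨_, z, hz⟩
    · refine ⟨r s, ⟨?_⟩⟩
      let A : Over (U s) := Over.mk (pullback.snd Y.hom (f s))
      let c := ofConst (K564.ExtBase.isConstGrp_ulift (e s) (he s))
      let k : Over.mk (pullback.fst Y.hom (f s) ≫ Y.hom) ⟶ (Over.map (f s)).obj A := Over.homMk (𝟙 _) (by
        change 𝟙 _ ≫ pullback.snd Y.hom (f s) ≫ f s = pullback.fst Y.hom (f s) ≫ Y.hom
        rw [Category.id_comp, pullback.condition])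
      exact (lcOf (f s) c A).res k

end K452.LatLC
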