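import Groth.Agent.AbSch.K453.ExtShLES

/-!
# Vanishing of the first local Ext sheaf

Site `(C, J)` with `C : Type (u+1)`, `Category.{u} C`.
* `isZero_extSh_one_of_lift`: `𝓔xt¹(F, M) = 0` if every `F|_X ⟶ C|_X` lifts locally to `I|_X`, for every short exact
  sequence `0 → M → I → C → 0`;
* `isZero_extSh_one_of_split`: `𝓔xt¹(F, M) = 0` if every extension of `F|_X` by `M|_X` splits;
* `LC F Z M`: the restriction of the abelian sheaf `F` to `Z` behaves like the constant sheaf with value `M`;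
  `LC.exists_hom`, `LC.hom_ext`: morphisms from it;
* `isZero_extSh_one_of_LC`: `𝓔xt¹(F, -) = 0` for `F` locally constant with value f.g. free abelian groups.
-/

set_option autoImplicit false
universe u

open CategoryTheory CategoryTheory.Limits Opposite

namespace K452.LocExt

open K453.SheafEx HomSh K453.HomShEx

variable {C : Type (u + 1)} [Category.{u} C] {J : GrothendieckTopology C}

section Ext

variable [EnoughInjectives (Sheaf J AddCommGrpCat.{u + 1})]

theorem isZero_extSh_one_of_lift (F M : Sheaf J AddCommGrpCat.{u + 1})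
    (h : ∀ (S : ShortComplex (Sheaf J AddCommGrpCat.{u + 1})), S.ShortExact → S.X₁ = M →
      ∀ (X : C) (φ : F.over X ⟶ S.X₃.over X), ∃ R ∈ J X, ∀ ⦃V : C⦄ (g : V ⟶ X), R g →
        ∃ ψ : F.over V ⟶ S.X₂.over V, ψ ≫ (J.overPullback AddCommGrpCat.{u + 1} V).map S.g =
          (homSh J F S.X₃).obj.map g.op φ) : IsZero ((extSh J F 1).obj M) := by
  let S : ShortComplex (Sheaf J AddCommGrpCat.{u + 1}) :=
    ShortComplex.mk (Injective.ι M) (cokernel.π (Injective.ι M)) (cokernel.condition _)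
  have hS : S.ShortExact :=
    { exact := ShortComplex.exact_of_g_is_cokernel _ (cokernelIsCokernel _)
      mono_f := inferInstanceAs (Mono (Injective.ι M))
      epi_g := inferInstanceAs (Epi (cokernel.π (Injective.ι M))) }
  have hI : Injective S.X₂ := inferInstanceAs (Injective (Injective.under M))
  obtain ⟨δ, w₁, w₂, -, ex₂⟩ := K453.ExtShLES.exists_δR J F hS
  have hepi : Epi δ := K453.ExtShLES.epi_of_injective J F S δ w₂ ex₂
  refine (isZero_iff_sections _).mpr fun X s => ?_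
  obtain ⟨R, hR, hR'⟩ := (epi_iff_locally δ).mp hepi X s
  refine eq_zero_of_locally _ s R hR fun V g hg => ?_
  obtain ⟨φ, hφ⟩ := hR' g hg
  rw [← hφ]
  obtain ⟨R₂, hR₂, hR₂'⟩ := h S hS rfl V φ
  refine eq_zero_of_locally _ _ R₂ hR₂ fun W k hk => ?_
  obtain ⟨ψ, hψ⟩ := hR₂' k hk
  have h1 : (homShMap J (𝟙 F) S.g).hom.app (op W) ψ = (homSh J F S.X₃).obj.map k.op φ :=
    (app_right S.g W ψ).trans hψ
  have h2 := ConcreteCategory.congr_hom (δ.hom.naturality k.op) φ
  have h3 := congrArg (fun a => a.hom.app (op W) ψ) w₁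
  have h4 : δ.hom.app (op W) ((homShMap J (𝟙 F) S.g).hom.app (op W) ψ) = 0 := h3
  rw [h1] at h4
  exact h2.symm.trans h4

/-- `𝓔xt¹(F, M) = 0` if all extensions on all slices split. -/
theorem isZero_extSh_one_of_split (F M : Sheaf J AddCommGrpCat.{u + 1})
    (h : ∀ (X : C) (E : ShortComplex (Sheaf (J.over X) AddCommGrpCat.{u + 1})), E.ShortExact →
      E.X₁ = M.over X → E.X₃ = F.over X → ∃ s : E.X₃ ⟶ E.X₂, s ≫ E.g = 𝟙 _) :
    IsZero ((extSh J F 1).obj M) := by
  refine isZero_extSh_one_of_lift F M fun S hS hM X φ => ?_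
  subst hM
  have h1 := shortExact_over X hS
  have := h1.mono_f
  have := h1.epi_g
  -- the pullback extension
  let π := (J.overPullback AddCommGrpCat.{u + 1} X).map S.g
  let ι := (J.overPullback AddCommGrpCat.{u + 1} X).map S.f
  have hπ : Epi π := h1.epi_g
  have hι : Mono ι := h1.mono_f
  have hιπ : ι ≫ π = 0 := (S.map (J.overPullback AddCommGrpCat.{u + 1} X)).zero
  let E : ShortComplex (Sheaf (J.over X) AddCommGrpCat.{u + 1}) :=
    ShortComplex.mk (X₁ := S.X₁.over X) (X₂ := pullback π φ) (X₃ := F.over X)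
      (pullback.lift ι 0 (by rw [hιπ, zero_comp])) (pullback.snd π φ) (pullback.lift_snd _ _ _)
  have hEf : E.f ≫ pullback.fst π φ = ι := pullback.lift_fst _ _ _
  have hmono : Mono E.f := by
    have h5 : Mono (E.f ≫ pullback.fst π φ) := by
      rw [hEf]
      exact hι
    exact mono_of_mono _ (pullback.fst π φ)
  have hE : E.ShortExact :=
    { exact := by
        have hlift : ∀ {W : Sheaf (J.over X) AddCommGrpCat.{u + 1}} (k : W ⟶ pullback π φ)
            (_ : k ≫ pullback.snd π φ = 0), ∃ l : W ⟶ S.X₁.over X, l ≫ E.f = k := by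
          intro W k hk
          have hk' : (k ≫ pullback.fst π φ) ≫ π = 0 := by
            rw [Category.assoc, pullback.condition, ← Category.assoc, hk, zero_comp]
          have : Mono (S.map (J.overPullback AddCommGrpCat.{u + 1} X)).f := hι
          obtain ⟨l, hl⟩ := h1.exact.lift' (k ≫ pullback.fst π φ) hk'
          refine ⟨l, pullback.hom_ext ?_ ?_⟩
          · rw [Category.assoc, hEf]
            exact hl
          · rw [Category.assoc, hk, show E.f ≫ pullback.snd π φ = 0 from pullback.lift_snd _ _ _, comp_zero]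
        exact ShortComplex.exact_of_f_is_kernel E (KernelFork.IsLimit.ofι E.f E.zero
          (fun k hk => (hlift k hk).choose) (fun k hk => (hlift k hk).choose_spec)
          (fun k hk m hm => (cancel_mono E.f).mp (hm.trans (hlift k hk).choose_spec.symm)))
      mono_f := hmono
      epi_g := inferInstanceAs (Epi (pullback.snd π φ)) }
  obtain ⟨s, hs⟩ := h X E hE rfl rfl
  refine ⟨⊤, J.top_mem X, fun V g _ => ?_⟩
  have h2 : (s ≫ pullback.fst π φ) ≫ π = φ := by
    rw [Category.assoc, pullback.condition, ← Category.assoc, show s ≫ pullback.snd π φ = 𝟙 _ from hs,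
      Category.id_comp]
  let θ : F.over X ⟶ S.X₂.over X := s ≫ pullback.fst π φ
  let θ' : (homSh J F S.X₂).obj.obj (op X) := θ
  refine ⟨(homSh J F S.X₂).obj.map g.op θ', ?_⟩
  have h3 : (homShMap J (𝟙 F) S.g).hom.app (op X) θ' = φ := (app_right S.g X θ).trans h2
  have h4 := ConcreteCategory.congr_hom ((homShMap J (𝟙 F) S.g).hom.naturality g.op) θ'
  refine (app_right S.g V _).symm.trans (h4.trans ?_)
  exact congrArg ((homSh J F S.X₃).obj.map g.op) h3

end Ext

section LC

/-- The restriction of the abelian sheaf `F` to `Z` behaves like the constant sheaf with value `M`. -/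
structure LC (F : Sheaf J AddCommGrpCat.{u + 1}) (Z : C) (M : Type) [AddCommGroup M] where
  pt : M →+ F.obj.obj (op Z)
  dec : ∀ {T : C} (f : T ⟶ Z) (g : F.obj.obj (op T)), ∃ R ∈ J T, ∀ ⦃T' : C⦄ (h : T' ⟶ T), R h →
    ∃ m, F.obj.map h.op g = F.obj.map (h ≫ f).op (pt m)
  inj : ∀ {T : C} (f : T ⟶ Z) (m m' : M), F.obj.map f.op (pt m) = F.obj.map f.op (pt m') →
    m = m' ∨ (⊥ : Sieve T) ∈ J T

namespace LC

variable {F : Sheaf J AddCommGrpCat.{u + 1}} {Z : C} {M : Type} [AddCommGroup M]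

theorem map_comp_apply (G : Sheaf J AddCommGrpCat.{u + 1}) {A B D : C} (a : A ⟶ B) (b : B ⟶ D)
    (x : G.obj.obj (op D)) : G.obj.map (a ≫ b).op x = G.obj.map a.op (G.obj.map b.op x) := by
  rw [op_comp, Functor.map_comp]
  rfl

theorem map_id_apply (G : Sheaf J AddCommGrpCat.{u + 1}) {A : C}
    (x : G.obj.obj (op A)) : G.obj.map (𝟙 A).op x = x := by
  rw [op_id, CategoryTheory.Functor.map_id]
  rfl

theorem ext_local (G : Sheaf J AddCommGrpCat.{u + 1}) {U : C} {s t : G.obj.obj (op U)} (R : Sieve U)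
    (hR : R ∈ J U) (h : ∀ ⦃V : C⦄ (g : V ⟶ U), R g → G.obj.map g.op s = G.obj.map g.op t) : s = t := by
  rw [← sub_eq_zero]
  refine eq_zero_of_locally G _ R hR fun V g hg => ?_
  rw [map_sub, h g hg, sub_self]

/-- restriction -/
def res (c : LC F Z M) {W : C} (k : W ⟶ Z) : LC F W M where
  pt := (F.obj.map k.op).hom.comp c.pt
  dec {T} f g := by
    obtain ⟨R, hR, h⟩ := c.dec (f ≫ k) g
    refine ⟨R, hR, fun T' a ha => ?_⟩
    obtain ⟨m, hm⟩ := h a ha
    refine ⟨m, hm.trans ?_⟩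
    rw [← Category.assoc]
    exact map_comp_apply F _ _ _
  inj {T} f m m' h := by
    refine c.inj (f ≫ k) m m' ?_
    rw [map_comp_apply, map_comp_apply]
    exact h

variable (c : LC F Z M) {G : Sheaf J AddCommGrpCat.{u + 1}} (x : M →+ G.obj.obj (op Z))

/-- the defining property of the value -/
def Pr {T : C} (f : T ⟶ Z) (g : F.obj.obj (op T)) (y : G.obj.obj (op T)) : Prop :=
  ∀ ⦃T' : C⦄ (h : T' ⟶ T) (m : M), F.obj.map h.op g = F.obj.map (h ≫ f).op (c.pt m) →
    G.obj.map h.op y = G.obj.map (h ≫ f).op (x m)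

variable {c x}

theorem Pr.res {T : C} {f : T ⟶ Z} {g : F.obj.obj (op T)} {y : G.obj.obj (op T)} (h : c.Pr x f g y)
    {T' : C} (k : T' ⟶ T) : c.Pr x (k ≫ f) (F.obj.map k.op g) (G.obj.map k.op y) := by
  intro T'' a m ha
  rw [← map_comp_apply, ← Category.assoc] at ha ⊢
  exact h _ _ ha

theorem Pr.uniq {T : C} {f : T ⟶ Z} {g : F.obj.obj (op T)} {y y' : G.obj.obj (op T)} (h : c.Pr x f g y)
    (h' : c.Pr x f g y') : y = y' := by
  obtain ⟨R, hR, hR'⟩ := c.dec f g
  refine ext_local G R hR fun V a ha => ?_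
  obtain ⟨m, hm⟩ := hR' a ha
  exact (h a m hm).trans (h' a m hm).symm

theorem Pr.of_local {T : C} {f : T ⟶ Z} {g : F.obj.obj (op T)} {y : G.obj.obj (op T)} (R : Sieve T) (hR : R ∈ J T)
    (h : ∀ ⦃T' : C⦄ (k : T' ⟶ T), R k → c.Pr x (k ≫ f) (F.obj.map k.op g) (G.obj.map k.op y)) : c.Pr x f g y := by
  intro T' a m ha
  refine ext_local G _ (J.pullback_stable a hR) fun V b hb => ?_
  have h1 := h (b ≫ a) hb (𝟙 V) m ?_
  · rw [map_id_apply, Category.id_comp] at h1
    rw [← map_comp_apply, h1, Category.assoc, map_comp_apply]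
  · rw [map_id_apply, Category.id_comp, map_comp_apply, ha, ← map_comp_apply, Category.assoc]

theorem Pr.pt {T : C} (f : T ⟶ Z) (m : M) : c.Pr x f (F.obj.map f.op (c.pt m)) (G.obj.map f.op (x m)) := by
  intro T' a m' ha
  rw [← map_comp_apply] at ha ⊢
  obtain h | h := c.inj _ _ _ ha
  · rw [h]
  · exact ext_local G ⊥ h fun _ _ hb => hb.elim

theorem Pr.pt' {T : C} (f : T ⟶ Z) (m : M) {g : F.obj.obj (op T)} (hg : g = F.obj.map f.op (c.pt m)) :
    c.Pr x f g (G.obj.map f.op (x m)) := by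
  subst hg
  exact Pr.pt f m

theorem Pr.add {T : C} {f : T ⟶ Z} {g g' : F.obj.obj (op T)} {y y' : G.obj.obj (op T)} (h : c.Pr x f g y)
    (h' : c.Pr x f g' y') : c.Pr x f (g + g') (y + y') := by
  obtain ⟨R, hR, hR'⟩ := c.dec f g
  obtain ⟨R₂, hR₂, hR₂'⟩ := c.dec f g'
  refine Pr.of_local (R ⊓ R₂) (J.intersection_covering hR hR₂) fun V a ha => ?_
  obtain ⟨m, hm⟩ := hR' a ha.1
  obtain ⟨m', hm'⟩ := hR₂' a ha.2
  have h1 := h a m hm
  have h2 := h' a m' hm'
  have h3 : F.obj.map a.op (g + g') = F.obj.map (a ≫ f).op (c.pt (m + m')) := by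
    rw [map_add, map_add, hm, hm', map_add]
  have h4 : G.obj.map a.op (y + y') = G.obj.map (a ≫ f).op (x (m + m')) := by
    rw [map_add, map_add, h1, h2, map_add]
  rw [h3, h4]
  exact Pr.pt _ _

variable (c x)

theorem Pr.exists {T : C} (f : T ⟶ Z) (g : F.obj.obj (op T)) : ∃ y : G.obj.obj (op T), c.Pr x f g y := by
  classical
  obtain ⟨R, hR, hR'⟩ := c.dec f g
  have hG := ((sheafCompose J (forget AddCommGrpCat.{u + 1})).obj G).property
  rw [isSheaf_iff_isSheaf_of_type] at hG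
  have hex : ∀ ⦃V : C⦄ (k : V ⟶ T), R k → ∃ y : G.obj.obj (op V), c.Pr x (k ≫ f) (F.obj.map k.op g) y := by
    intro V k hk
    obtain ⟨m, hm⟩ := hR' k hk
    exact ⟨_, Pr.pt' (k ≫ f) m hm⟩
  choose s hs using hex
  let fam : Presieve.FamilyOfElements (G.obj ⋙ forget AddCommGrpCat.{u + 1}) R.arrows := fun V k hk => s k hk
  have hc : fam.Compatible := by
    refine (Presieve.compatible_iff_sieveCompatible fam).2 ?_
    intro Y W k a hk
    have h1 := (hs k hk).res a
    rw [← map_comp_apply, ← Category.assoc] at h1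
    exact (hs _ (R.downward_closed hk a)).uniq h1
  obtain ⟨t, ht, -⟩ := hG R hR fam hc
  refine ⟨t, Pr.of_local R hR fun V k hk => ?_⟩
  have h2 : G.obj.map k.op t = s k hk := ht k hk
  rw [h2]
  exact hs k hk

/-- Morphisms from a constant sheaf. -/
theorem exists_hom : ∃ φ : F.over Z ⟶ G.over Z, ∀ m, φ.hom.app (op (Over.mk (𝟙 Z))) (c.pt m) = x m := by
  classical
  have hex : ∀ (T : Over Z) (g : F.obj.obj (op T.left)), ∃ y : G.obj.obj (op T.left), c.Pr x T.hom g y :=
    fun T g => Pr.exists c x T.hom g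
  choose a ha using hex
  let φ : F.over Z ⟶ G.over Z :=
    ⟨{ app := fun T => AddCommGrpCat.ofHom
        { toFun := fun g => a T.unop g
          map_zero' := by
            have h1 : a T.unop (0 + 0) = a T.unop 0 + a T.unop 0 :=
              (ha T.unop (0 + 0)).uniq ((ha T.unop 0).add (ha T.unop 0))
            rw [add_zero] at h1
            exact (left_eq_add.mp h1)
          map_add' := fun g g' => (ha T.unop (g + g')).uniq ((ha T.unop g).add (ha T.unop g')) }
       naturality := fun T T' f => by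
        refine AddCommGrpCat.ext fun g => ?_
        have h1 := (ha T.unop g).res f.unop.left
        rw [Over.w] at h1
        exact (ha T'.unop _).uniq h1 }⟩
  refine ⟨φ, fun m => ?_⟩
  have h1 : c.Pr x (𝟙 Z) (c.pt m) (x m) := by
    have := Pr.pt (c := c) (x := x) (𝟙 Z) m
    rwa [map_id_apply, map_id_apply] at this
  exact (ha (Over.mk (𝟙 Z)) (c.pt m)).uniq h1

variable {x} in
theorem hom_ext {φ ψ : F.over Z ⟶ G.over Z}
    (h : ∀ m, φ.hom.app (op (Over.mk (𝟙 Z))) (c.pt m) = ψ.hom.app (op (Over.mk (𝟙 Z))) (c.pt m)) : φ = ψ := by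
  apply Sheaf.hom_ext
  refine NatTrans.ext (funext fun T => AddCommGrpCat.ext fun g => ?_)
  have key : ∀ (χ : F.over Z ⟶ G.over Z) {V : C} (k : V ⟶ T.unop.left) (m : M)
      (_ : F.obj.map k.op g = F.obj.map (k ≫ T.unop.hom).op (c.pt m)),
      G.obj.map k.op (χ.hom.app T g) = G.obj.map (k ≫ T.unop.hom).op (χ.hom.app (op (Over.mk (𝟙 Z))) (c.pt m)) := by
    intro χ V k m hm
    let k' : Over.mk (k ≫ T.unop.hom) ⟶ T.unop := Over.homMk k rfl
    let k'' : Over.mk (k ≫ T.unop.hom) ⟶ Over.mk (𝟙 Z) := Over.homMk (k ≫ T.unop.hom) (Category.comp_id _)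
    have h1 := ConcreteCategory.congr_hom (χ.hom.naturality k'.op) g
    have h2 := ConcreteCategory.congr_hom (χ.hom.naturality k''.op) (c.pt m)
    have h3 : (F.over Z).obj.map k'.op g = (F.over Z).obj.map k''.op (c.pt m) := hm
    have h4 : χ.hom.app (op (Over.mk (k ≫ T.unop.hom))) ((F.over Z).obj.map k'.op g) =
      χ.hom.app (op (Over.mk (k ≫ T.unop.hom))) ((F.over Z).obj.map k''.op (c.pt m)) := by rw [h3]
    exact h1.symm.trans (h4.trans h2)
  obtain ⟨R, hR, hR'⟩ := c.dec T.unop.hom g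
  refine ext_local G R hR fun V k hk => ?_
  obtain ⟨m, hm⟩ := hR' k hk
  exact (key φ k m hm).trans ((congrArg _ (h m)).trans (key ψ k m hm).symm)

end LC

section

variable [EnoughInjectives (Sheaf J AddCommGrpCat.{u + 1})]

/-- `𝓔xt¹(F, M) = 0` for `F` locally constant with value f.g. free abelian groups. -/
theorem isZero_extSh_one_of_LC (F M : Sheaf J AddCommGrpCat.{u + 1})
    (h : ∀ X : C, ∃ R ∈ J X, ∀ ⦃V : C⦄ (g : V ⟶ X), R g → ∃ r : ℕ, Nonempty (LC F V (Fin r → ℤ))) :
    IsZero ((extSh J F 1).obj M) := by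
  refine isZero_extSh_one_of_lift F M fun S hS hM X φ => ?_
  have hepi := hS.epi_g
  obtain ⟨R, hR, hR'⟩ := h X
  choose r c using hR'
  -- lift the values at the basis vectors
  have hex : ∀ ⦃V : C⦄ (g : V ⟶ X) (hg : R g), ∃ R₂ ∈ J V, ∀ ⦃W : C⦄ (k : W ⟶ V), R₂ k →
      ∀ j : Fin (r g hg), ∃ t : S.X₂.obj.obj (op W), S.g.hom.app (op W) t =
        S.X₃.obj.map k.op (φ.hom.app (op (Over.mk g)) ((c g hg).some.pt (Pi.single j 1))) := by
    intro V g hg
    have h1 : ∀ j : Fin (r g hg), ∃ R₂ ∈ J V, ∀ ⦃W : C⦄ (k : W ⟶ V), R₂ k →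
      ∃ t : S.X₂.obj.obj (op W), S.g.hom.app (op W) t =
        S.X₃.obj.map k.op (φ.hom.app (op (Over.mk g)) ((c g hg).some.pt (Pi.single j 1))) :=
      fun j => (epi_iff_locally S.g).mp hepi V _
    choose Rj hRj hRj' using h1
    refine ⟨Finset.univ.inf Rj, ?_, fun W k hk j => hRj' j k (Finset.inf_le (f := Rj) (Finset.mem_univ j) k hk)⟩
    refine Finset.inf_induction (J.top_mem V) (fun a ha b hb => J.intersection_covering ha hb) fun j _ => hRj j
  choose R₂ hR₂ hR₂' using hex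
  refine ⟨Sieve.bind R R₂, J.bind_covering hR hR₂, fun W e he => ?_⟩
  obtain ⟨V, k, g, hg, hk, rfl⟩ := he
  let cV := (c g hg).some
  choose t ht using hR₂' g hg k hk
  let cW := cV.res k
  let x : (Fin (r g hg) → ℤ) →+ S.X₂.obj.obj (op W) :=
    { toFun := fun m => ∑ j, m j • t j
      map_zero' := by simp
      map_add' := fun m m' => by simp [add_smul, Finset.sum_add_distrib] }
  obtain ⟨ψ, hψ⟩ := cW.exists_hom x
  refine ⟨ψ, cW.hom_ext fun m => ?_⟩
  change S.g.hom.app (op W) (ψ.hom.app (op (Over.mk (𝟙 W))) (cW.pt m)) = _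
  rw [hψ m]
  have h1 : x m = ∑ j, m j • t j := rfl
  rw [h1, map_sum]
  have h2 : ∀ j, S.g.hom.app (op W) (m j • t j) = m j • S.X₃.obj.map k.op
      (φ.hom.app (op (Over.mk g)) (cV.pt (Pi.single j 1))) := by
    intro j
    rw [map_zsmul, ht]
  rw [Finset.sum_congr rfl fun j _ => h2 j]
  let θ : (Fin (r g hg) → ℤ) →+ S.X₃.obj.obj (op W) :=
    (S.X₃.obj.map k.op).hom.comp ((φ.hom.app (op (Over.mk g))).hom.comp cV.pt)
  have h4 : θ m = ∑ j, m j • θ (Pi.single j 1) := by
    conv_lhs => rw [← Finset.univ_sum_single m]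
    rw [map_sum]
    refine Finset.sum_congr rfl fun j _ => ?_
    rw [← map_zsmul]
    congr 1
    rw [← Pi.single_smul, smul_eq_mul, mul_one]
  refine h4.symm.trans ?_
  let k' : Over.mk (k ≫ g) ⟶ Over.mk g := Over.homMk k rfl
  have h5 := ConcreteCategory.congr_hom (φ.hom.naturality k'.op) (cV.pt m)
  have h6 := HomSh.app_over_mk_congr J φ (Category.id_comp (k ≫ g)) (F.obj.map k.op (cV.pt m))
  exact (h6.trans h5).symm

end

end LC

end K452.LocExt
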