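import Groth.Agent.S3016
import Groth.Agent.S3037
import Groth.Agent.Variety.K426.DimZero
import Groth.Agent.VarietyB.DimSch
import Groth.Agent.Fga.DimLt
import Groth.Agent.Grpsch.AbBC
import Groth.Agent.Sga3.H780.Pointed

/-!
# Homomorphisms of group schemes of the same dimension: quasi-finite iff surjective
-/

set_option autoImplicit false
universe u
open CategoryTheory CategoryTheory.Limits MonoidalCategory CartesianMonoidalCategory MonObj GrpObj AlgebraicGeometry

namespace K452.LqfSurj

open Groth.Agent

variable {k : Type u} [Field k]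

theorem exists_dim {X : Scheme.{u}} (f : X ⟶ Spec (CommRingCat.of k)) [LocallyOfFiniteType f] [IrreducibleSpace X] :
    ∃ n : ℕ, topologicalKrullDim X = n := by
  let _ : X.Over (Spec (CommRingCat.of k)) := ⟨f⟩
  have : LocallyOfFiniteType (X ↘ Spec (CommRingCat.of k)) := inferInstanceAs (LocallyOfFiniteType f)
  exact ⟨_, Groth.Agent.VarietyB.DimSch.topologicalKrullDim_eq_trd k⟩

/-- the field case -/
theorem field_iff (G H : Over (Spec (CommRingCat.of k))) [GrpObj G] [GrpObj H]
    [LocallyOfFiniteType G.hom] [QuasiCompact G.hom] [LocallyOfFiniteType H.hom] [IsSeparated H.hom]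
    [IrreducibleSpace H.left]
    (u : G ⟶ H) [IsMonHom u] (hdim : topologicalKrullDim G.left = topologicalKrullDim H.left) :
    LocallyQuasiFinite u.left ↔ Surjective u.left := by
  have hw : u.left ≫ H.hom = G.hom := Over.w u
  have hqc : QuasiCompact u.left := by
    have : QuasiCompact (u.left ≫ H.hom) := by rw [hw]; infer_instance
    exact QuasiCompact.of_comp u.left H.hom
  obtain ⟨hcl, hd⟩ := Groth.Agent.S3016.result k G H u
  have hfin := Groth.Agent.S3037.result k G H u
  set K := Limits.pullback u.left (η[H] : 𝟙_ (Over (Spec (CommRingCat.of k))) ⟶ H).left with hK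
  have hone : (η[G] : 𝟙_ (Over (Spec (CommRingCat.of k))) ⟶ G).left ≫ u.left =
      (η[H] : 𝟙_ (Over (Spec (CommRingCat.of k))) ⟶ H).left := by
    rw [← Over.comp_left, IsMonHom.one_hom]
  let e0 : (𝟙_ (Over (Spec (CommRingCat.of k)))).left ⟶ K :=
    pullback.lift (η[G] : 𝟙_ (Over (Spec (CommRingCat.of k))) ⟶ G).left (𝟙 _)
      (by rw [hone, Category.id_comp])
  have hne : Nonempty K := by
    have : Nonempty (𝟙_ (Over (Spec (CommRingCat.of k)))).left :=
      inferInstanceAs (Nonempty (Spec (CommRingCat.of k)))
    exact ⟨e0 (Classical.arbitrary _)⟩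
  let p : K ⟶ Spec (CommRingCat.of k) := pullback.snd _ _
  have hlft : LocallyOfFiniteType u.left := by
    have : LocallyOfFiniteType (u.left ≫ H.hom) := by rw [hw]; infer_instance
    exact locallyOfFiniteType_of_comp u.left H.hom
  have hp1 : LocallyOfFiniteType p := inferInstanceAs (LocallyOfFiniteType (pullback.snd _ _))
  have hp2 : QuasiCompact p := inferInstanceAs (QuasiCompact (pullback.snd _ _))
  have htf := _root_.K426.DimZero.tfae k p
  have h02 : topologicalKrullDim K = 0 ↔ DiscreteTopology K := htf.out 0 2
  obtain ⟨n, hn⟩ := exists_dim (k := k) H.hom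
  rw [hdim, hn] at hd
  constructor
  · intro hq
    have hf : IsFinite u.left := by
      have : IsLocallyArtinian K := by
        have : IsLocallyArtinian (Spec (CommRingCat.of k)) := inferInstance
        have hq' : LocallyQuasiFinite p := inferInstanceAs (LocallyQuasiFinite (pullback.snd _ _))
        exact IsLocallyArtinian.of_locallyQuasiFinite p
      exact hfin.mpr inferInstance
    have h0 : topologicalKrullDim K = 0 := h02.mpr (hfin.mp hf)
    rw [h0, add_zero] at hd
    refine ⟨?_⟩
    rw [← Set.range_eq_univ]
    by_contra hne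
    have h2 := Groth.Agent.Fga.DimLt.exists_ltSeries_succ hcl hne hd.le
    rw [hn] at h2
    have h3 : n + 1 ≤ n := by exact_mod_cast h2
    omega
  · intro hs
    have h1 : topologicalKrullDim (Set.range u.left.base) = n := by
      have : Set.range u.left.base = Set.univ := hs.surj.range_eq
      rw [this, ← hn]
      exact (IsHomeomorph.topologicalKrullDim_eq _ (Homeomorph.Set.univ H.left).isHomeomorph)
    rw [h1] at hd
    have h0 : topologicalKrullDim K = 0 := by
      generalize topologicalKrullDim K = z at hd
      match z, hd with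
      | ⊥, hd => exact absurd hd (by simp)
      | ((z : ℕ∞) : WithBot ℕ∞), hd =>
        match z, hd with
        | ⊤, hd =>
          exfalso
          have h3 : ((n : ℕ∞)) = (n : ℕ∞) + ⊤ := by exact_mod_cast hd
          simp at h3
        | (z : ℕ), hd =>
          have h3 : n = n + z := by exact_mod_cast hd
          have h4 : z = 0 := by omega
          rw [h4]; rfl
    have : IsFinite u.left := hfin.mpr (h02.mp h0)
    infer_instance

end K452.LqfSurj
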