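import Groth.Agent.AbSch.K452.TorsKit
import Groth.Agent.AbSch.K452.Restr
import Groth.Agent.AbSch.K454.MulEpi
import Groth.Agent.Grpsch.KerMul
import Groth.Agent.Grpsch.MulFinFlat
import Groth.Agent.Sga3.H830.CommAux

/-!
# Extensions of a group scheme by an abelian scheme with a splitting of a non-zero multiple are group schemes

* `exists_torsion`: the `n`-torsion of a commutative group scheme;
* `exists_grp_of_nsplit`: `0 → A → E → T → 0` exact, `τ : T → E` lifting the multiplication by `n ≠ 0`, `A` an abelian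
  scheme: `E` is the sheaf of points of a group scheme.
-/

set_option autoImplicit false
universe u
open CategoryTheory CategoryTheory.Limits MonoidalCategory CartesianMonoidalCategory MonObj AlgebraicGeometry
open CGrpSh Opposite

namespace K452.NRep

open K452.NSplit
open K452.TorsRep hiding map_up up_inj

variable {S : Scheme.{u}}

theorem exists_torsion (A : Over S) [GrpObj A] [IsCommMonObj A] (n : ℤ) :
    ∃ (N : Over S) (_ : GrpObj N) (_ : IsCommMonObj N) (j : N ⟶ A) (_ : IsMonHom j),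
      IsPullback j (toUnit N) (𝟙 A ^ n) η[A] := by
  have : IsMonHom (𝟙 A ^ n) := Groth.Agent.Grpsch.MulFinFlat.isMonHom_zpow (𝟙 A) n
  obtain ⟨N, _, j, hj, hpb⟩ := Groth.Agent.Grpsch.KerMul.exists_kernel (𝟙 A ^ n)
  have hη : Mono η[A] := ⟨fun a b _ => toUnit_unique a b⟩
  have hm : Mono j := by
    have : Mono η[A] := hη
    exact MorphismProperty.of_isPullback (P := MorphismProperty.monomorphisms (Over S)) hpb.flip this
  exact ⟨N, _, Groth.Agent.Sga3.H830.CommAux.isCommMonObj_of_mono j, j, hj, hpb⟩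

section

variable {A T N : Over S} [GrpObj A] [IsCommMonObj A] [GrpObj T] [IsCommMonObj T] [GrpObj N] [IsCommMonObj N]
variable {E : BigSite.Ab Scheme.fppfPrecoverage S} (i : pts Scheme.fppfPrecoverage A ⟶ E)
  (q : E ⟶ pts Scheme.fppfPrecoverage T) (w : i ≫ q = 0) (hex : (ShortComplex.mk i q w).ShortExact)
  (n : ℤ) (τ : pts Scheme.fppfPrecoverage T ⟶ E) (hτ : τ ≫ q = n • 𝟙 _)

omit [IsCommMonObj A] [IsCommMonObj T] in
theorem lift_mul_lift {W : Over S} (a a' : W ⟶ A) (b b' : W ⟶ T) :
    lift a b * lift a' b' = lift (a * a') (b * b') := by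
  apply CartesianMonoidalCategory.hom_ext
  · rw [MonObj.mul_comp, lift_fst, lift_fst, lift_fst]
  · rw [MonObj.mul_comp, lift_snd, lift_snd, lift_snd]

include hτ w hex in
theorem exists_rho : ∃ ρ : E ⟶ pts Scheme.fppfPrecoverage A, ρ ≫ i = n • 𝟙 _ - q ≫ τ := by
  have hm : Mono (ShortComplex.mk i q w).f := hex.mono_f
  obtain ⟨l, hl⟩ := hex.exact.lift' (n • 𝟙 _ - q ≫ τ) (by
    change (n • 𝟙 _ - q ≫ τ) ≫ q = 0
    rw [Preadditive.sub_comp, Category.assoc, hτ, Preadditive.zsmul_comp, Category.id_comp, Preadditive.comp_zsmul,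
      Category.comp_id, sub_self])
  exact ⟨l, hl⟩

/-- the morphism to the product -/
noncomputable def pair (ρ : E ⟶ pts Scheme.fppfPrecoverage A) : E ⟶ pts Scheme.fppfPrecoverage (A ⊗ T) :=
  ⟨{ app := fun X => AddCommGrpCat.ofHom
        { toFun := fun x => up (lift (ρ.hom.app X x).down.toMul (q.hom.app X x).down.toMul)
          map_zero' := by
            rw [map_zero, map_zero]
            change up (lift (1 : X.unop ⟶ A) (1 : X.unop ⟶ T)) = up 1
            congr 1
            have h := lift_mul_lift (1 : X.unop ⟶ A) 1 (1 : X.unop ⟶ T) 1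
            rw [_root_.mul_one, _root_.mul_one] at h
            exact left_eq_mul.mp h.symm
          map_add' := fun x y => by
            rw [map_add, map_add]
            exact congrArg up (lift_mul_lift _ _ _ _).symm }
     naturality := fun X Y f => by
        refine AddCommGrpCat.ext fun x => ?_
        change up (lift (ρ.hom.app Y (E.obj.map f x)).down.toMul (q.hom.app Y (E.obj.map f x)).down.toMul) = 
          up (f.unop ≫ lift (ρ.hom.app X x).down.toMul (q.hom.app X x).down.toMul)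
        rw [comp_lift]
        have h1 : ρ.hom.app Y (E.obj.map f x) = (pts Scheme.fppfPrecoverage A).obj.map f (ρ.hom.app X x) :=
          ConcreteCategory.congr_hom (ρ.hom.naturality f) x
        have h2 : q.hom.app Y (E.obj.map f x) = (pts Scheme.fppfPrecoverage T).obj.map f (q.hom.app X x) :=
          ConcreteCategory.congr_hom (q.hom.naturality f) x
        rw [h1, h2]
        rfl }⟩

theorem up_lift_eq {W : Over S} {a a' : W ⟶ A} {b b' : W ⟶ T} 
    (h : (up (lift a b) : (pts Scheme.fppfPrecoverage (A ⊗ T)).obj.obj (op W)) = up (lift a' b')) : a = a' ∧ b = b' := by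
  have h1 := NSplit.up_inj h
  constructor
  · have := congrArg (fun z => z ≫ fst A T) h1
    simpa only [lift_fst] using this
  · have := congrArg (fun z => z ≫ snd A T) h1
    simpa only [lift_snd] using this

variable {n τ} {ρ : E ⟶ pts Scheme.fppfPrecoverage A} (hρ : ρ ≫ i = n • 𝟙 _ - q ≫ τ)

include hex hρ w in
theorem i_rho : i ≫ ρ = n • 𝟙 _ := by
  have hm : Mono i := hex.mono_f
  rw [← cancel_mono i, Category.assoc, hρ, Preadditive.comp_sub, Preadditive.comp_zsmul, Category.comp_id,
    ← Category.assoc, w, zero_comp, sub_zero, Preadditive.zsmul_comp, Category.id_comp]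

omit [GrpObj A] [IsCommMonObj A] [GrpObj T] [IsCommMonObj T] in
theorem comp_app {F₁ F₂ F₃ : BigSite.Ab Scheme.fppfPrecoverage S} (f : F₁ ⟶ F₂) (g : F₂ ⟶ F₃) {W : Over S}
    (x : F₁.obj.obj (op W)) : (f ≫ g).hom.app (op W) x = g.hom.app (op W) (f.hom.app (op W) x) := rfl

omit [IsCommMonObj A] [IsCommMonObj T] [GrpObj T] [GrpObj A] in
theorem down_ext {X : Over S} [GrpObj X] [IsCommMonObj X] {W : Over S} (y : (pts Scheme.fppfPrecoverage X).obj.obj (op W)) :
    up (y.down.toMul : W ⟶ X) = y := rfl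

theorem pair_app {W : Over S} (x : E.obj.obj (op W)) {a : W ⟶ A} {t : W ⟶ T} (ha : ρ.hom.app (op W) x = up a)
    (ht : q.hom.app (op W) x = up t) : (pair q ρ).hom.app (op W) x = up (lift a t) := by
  change up (lift (ρ.hom.app (op W) x).down.toMul (q.hom.app (op W) x).down.toMul) = up (lift a t)
  rw [ha, ht]
  rfl

theorem of_pair_app {W : Over S} (x : E.obj.obj (op W)) {a : W ⟶ A} {t : W ⟶ T}
    (h : (pair q ρ).hom.app (op W) x = up (lift a t)) : ρ.hom.app (op W) x = up a ∧ q.hom.app (op W) x = up t := by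
  obtain ⟨a', ha'⟩ := NSplit.exists_up (ρ.hom.app (op W) x)
  obtain ⟨t', ht'⟩ := NSplit.exists_up (q.hom.app (op W) x)
  rw [pair_app q x ha' ht'] at h
  obtain ⟨h1, h2⟩ := up_lift_eq h
  rw [ha', ht', h1, h2]
  exact ⟨rfl, rfl⟩

variable (j : N ⟶ A) [IsMonHom j]

include w hex hρ in
theorem comp_pair (hj : IsPullback j (toUnit N) (𝟙 A ^ n) η[A]) : (ptsMap Scheme.fppfPrecoverage j ≫ i) ≫ pair q ρ = 0 := by
  have hir := i_rho i q w hex hρ
  apply NSplit.hom_ext
  rw [comp_app, comp_app]
  refine (pair_app q (a := 1) (t := 1) _ ?_ ?_).trans ?_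
  · rw [← comp_app, ← comp_app, hir, comp_app, zsmul_app]
    change n • up (𝟙 N ≫ j) = up 1
    rw [K452.Restr.up_zsmul, Category.id_comp]
    congr 1
    have h1 := hj.w
    rw [K452.Restr.comp_zpow, Category.comp_id] at h1
    rw [h1, ← Hom.one_def]
  · rw [← comp_app, w]
    rfl
  · have h1 := lift_mul_lift (1 : N ⟶ A) 1 (1 : N ⟶ T) 1
    rw [_root_.mul_one, _root_.mul_one] at h1
    rw [left_eq_mul.mp h1.symm]
    rfl

include w hex hρ in
/-- The kernel of `E → A × T` is the `n`-torsion of `A`. -/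
theorem shortExact_pair (hj : IsPullback j (toUnit N) (𝟙 A ^ n) η[A])
    (hn : Epi (n • 𝟙 (pts Scheme.fppfPrecoverage A))) :
    (ShortComplex.mk (ptsMap Scheme.fppfPrecoverage j ≫ i) (pair q ρ) (comp_pair i q w hex hρ j hj)).ShortExact := by
  have hm : Mono i := hex.mono_f
  have hq : Epi q := hex.epi_g
  have hir := i_rho i q w hex hρ
  have hη : Mono η[A] := ⟨fun a b _ => toUnit_unique a b⟩
  have hmj : Mono j := MorphismProperty.of_isPullback (P := MorphismProperty.monomorphisms (Over S)) hj.flip hη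
  refine { exact := ?_, mono_f := ?_, epi_g := ?_ }
  · refine K731.Basic.exact_of_sections _ fun W x hx => ?_
    have hx' : (pair q ρ).hom.app (op W) x = up (lift (1 : W ⟶ A) (1 : W ⟶ T)) := by
      have h1 := lift_mul_lift (1 : W ⟶ A) 1 (1 : W ⟶ T) 1
      rw [_root_.mul_one, _root_.mul_one] at h1
      rw [left_eq_mul.mp h1.symm]
      exact hx
    obtain ⟨h1, h2⟩ := of_pair_app q x hx'
    obtain ⟨a, ha⟩ := K731.Basic.exists_of_exact_of_mono (ShortComplex.mk i q w) hex.exact x h2
    replace ha : i.hom.app (op W) a = x := ha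
    obtain ⟨a, rfl⟩ := NSplit.exists_up a
    have h3 : a ≫ (𝟙 A ^ n) = toUnit W ≫ η[A] := by
      rw [K452.Restr.comp_zpow, Category.comp_id, ← Hom.one_def]
      apply NSplit.up_inj
      rw [← K452.Restr.up_zsmul]
      have h4 : (i ≫ ρ).hom.app (op W) (up a) = n • up a := by
        rw [hir, zsmul_app]
        rfl
      rw [← h4, comp_app, ha, h1]
    refine ⟨up (hj.lift a (toUnit W) h3), ?_⟩
    change i.hom.app (op W) (up (hj.lift a (toUnit W) h3 ≫ j)) = x
    rw [hj.lift_fst, ha]
  · have : Mono (ptsMap Scheme.fppfPrecoverage j) := by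
      refine K731.Basic.mono_of_injective _ fun W a b hab => ?_
      obtain ⟨W⟩ := W
      obtain ⟨a, rfl⟩ := NSplit.exists_up a
      obtain ⟨b, rfl⟩ := NSplit.exists_up b
      have h1 : a ≫ j = b ≫ j := NSplit.up_inj hab
      rw [(cancel_mono j).mp h1]
    exact mono_comp _ _
  · refine K731.Basic.epi_of_exists_lift _ fun W b => ?_
    obtain ⟨b, rfl⟩ := NSplit.exists_up b
    obtain ⟨R, hR, h⟩ := K731.Basic.exists_lift_of_epi q W (up (b ≫ snd A T))
    choose x hx using h
    have h2 : ∀ ⦃Y : Over S⦄ (f : Y ⟶ W) (hf : R f), ∃ R' ∈ QuotSh.J Scheme.fppfPrecoverage S Y,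
        ∀ ⦃Z : Over S⦄ (g : Z ⟶ Y), R' g → ∃ c : (pts Scheme.fppfPrecoverage A).obj.obj (op Z),
          (n • 𝟙 (pts Scheme.fppfPrecoverage A)).hom.app (op Z) c = (pts Scheme.fppfPrecoverage A).obj.map g.op
            (up (f ≫ b ≫ fst A T) - ρ.hom.app (op Y) (x f hf)) :=
      fun Y f hf => K731.Basic.exists_lift_of_epi _ Y _
    choose R' hR' h3 using h2
    refine ⟨Sieve.bind R.arrows (fun Y f hf => R' f hf), (QuotSh.J Scheme.fppfPrecoverage S).bind_covering hR
      (fun Y f hf => hR' f hf), ?_⟩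
    rintro Z _ ⟨Y, g, f, hf, hg, rfl⟩
    obtain ⟨c, hc⟩ := h3 f hf g hg
    rw [zsmul_app] at hc
    replace hc : n • c = (pts Scheme.fppfPrecoverage A).obj.map g.op
            (up (f ≫ b ≫ fst A T) - ρ.hom.app (op Y) (x f hf)) := hc
    refine ⟨E.obj.map g.op (x f hf) + i.hom.app (op Z) c, ?_⟩
    rw [NSplit.map_up]
    have e1 : (g ≫ f) ≫ b = lift (g ≫ f ≫ b ≫ fst A T) (g ≫ f ≫ b ≫ snd A T) := by
      apply CartesianMonoidalCategory.hom_ext
      · rw [lift_fst]
        simp only [Category.assoc]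
      · rw [lift_snd]
        simp only [Category.assoc]
    change (pair q ρ).hom.app (op Z) _ = up ((g ≫ f) ≫ b)
    rw [e1]
    refine pair_app q _ ?_ ?_
    · rw [map_add, NSplit.app_map, ← comp_app, hir, zsmul_app]
      change _ + n • c = _
      rw [hc, map_sub, NSplit.map_up, add_sub_cancel]
    · rw [map_add, NSplit.app_map, hx, ← comp_app, w, NSplit.map_up, NSplit.map_up]
      exact add_zero _

end

section

variable {A T : Over S} [GrpObj A] [IsCommMonObj A] [GrpObj T] [IsCommMonObj T]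
variable {E : BigSite.Ab Scheme.fppfPrecoverage S} (i : pts Scheme.fppfPrecoverage A ⟶ E)
  (q : E ⟶ pts Scheme.fppfPrecoverage T) (w : i ≫ q = 0) (hex : (ShortComplex.mk i q w).ShortExact)

include hex in
/-- **Representability of extensions with a splitting of a non-zero multiple.** -/
theorem exists_grp_of_nsplit [Smooth A.hom] [IsProper A.hom] (hA : ∀ s : S, ConnectedSpace ↥(A.hom.fiber s))
    (n : ℤ) (hn : n ≠ 0) (τ : pts Scheme.fppfPrecoverage T ⟶ E) (hτ : τ ≫ q = n • 𝟙 _) :
    ∃ (G : Over S) (_ : GrpObj G) (_ : IsCommMonObj G), Nonempty (pts Scheme.fppfPrecoverage G ≅ E) := by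
  obtain ⟨N, _, _, j, _, hj⟩ := exists_torsion A n
  obtain ⟨ρ, hρ⟩ := exists_rho i q w hex n τ hτ
  have hse := shortExact_pair i q w hex hρ j hj (K454.MulEpi.epi_zsmul A hA n hn)
  have hgc := K454.geometricallyConnected_of_fibres A hA
  have hgr := K448.SmoothConn.geometricallyReduced A.hom
  obtain ⟨h1, h2, h3⟩ := K454.MulEpi.isFinite_flat_surjective_zpow A n hn
  have hN : IsFinite N.hom := by
    have h4 : IsPullback j.left (toUnit N).left (𝟙 A ^ n).left η[A].left := hj.map (Over.forget S)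
    have h5 : IsFinite (toUnit N).left := MorphismProperty.of_isPullback (P := @IsFinite) h4 h1
    exact h5
  let Q : MorphismProperty Scheme.{u} := @IsSeparated ⊓ (@LocallyQuasiFinite ⊓ @LocallyOfFiniteType)
  have := K594.Local.locallyQuasiFinite_inf_locallyOfFiniteType.{u}
  have := K594.Local.isSeparated.{u}
  have hQ : Q.IsLocalAtTarget Scheme.fppfPrecoverage := MorphismProperty.IsLocalAtTarget.inf _ _
  obtain ⟨G, g1, g2, v, hv, e, he, -⟩ := K452.TorsRep.exists_grp _ _ _ hse Q (fun _ _ f h => h)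
    ⟨inferInstance, inferInstance, inferInstance⟩
  exact ⟨G, g1, g2, ⟨e⟩⟩

end

end K452.NRep
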