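import Groth.Agent.AbSch.K452.TorsRep

/-!
# Splittings of a multiple of an extension, over objects of the base

`q : E ⟶ pts T` a morphism of abelian sheaves on the big fppf site of `S`, `n : ℤ`, `V` over `S`.
* `IsNSplit q n V e`: the section `e ∈ E(T ×_S V)` is a family of homomorphisms `T_V → E_V` over `V` which lifts the
  multiplication by `n` of `T`;
* `IsNSplit.pull`: restriction along `V' ⟶ V`; `IsNSplit.zsmul`; `ofHom`, `exists_hom`: the case `V = S`.
-/

set_option autoImplicit false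
universe u
open CategoryTheory CategoryTheory.Limits MonoidalCategory CartesianMonoidalCategory MonObj AlgebraicGeometry
open CGrpSh Opposite

namespace K452.NSplit

open K452.TorsRep

variable {S : Scheme.{u}} {T : Over S} [GrpObj T] [IsCommMonObj T]
variable {E : BigSite.Ab Scheme.fppfPrecoverage S}

theorem map_comp_apply (E : BigSite.Ab Scheme.fppfPrecoverage S) {X Y Z : Over S} (f : X ⟶ Y) (g : Y ⟶ Z)
    (x : E.obj.obj (op Z)) : E.obj.map (f ≫ g).op x = E.obj.map f.op (E.obj.map g.op x) := by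
  rw [op_comp, E.obj.map_comp]
  rfl

theorem map_id_apply (E : BigSite.Ab Scheme.fppfPrecoverage S) {X : Over S} (x : E.obj.obj (op X)) :
    E.obj.map (𝟙 X).op x = x := by
  rw [op_id, E.obj.map_id]
  rfl

theorem app_map {E F : BigSite.Ab Scheme.fppfPrecoverage S} (φ : E ⟶ F) {X Y : Over S} (f : X ⟶ Y)
    (x : E.obj.obj (op Y)) : φ.hom.app (op X) (E.obj.map f.op x) = F.obj.map f.op (φ.hom.app (op Y) x) :=
  ConcreteCategory.congr_hom (φ.hom.naturality f.op) x

theorem map_up {X : Over S} [GrpObj X] [IsCommMonObj X] {W W' : Over S} (f : W' ⟶ W) (x : W ⟶ X) :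
    (pts Scheme.fppfPrecoverage X).obj.map f.op (up x) = up (f ≫ x) := rfl

theorem up_mul {X : Over S} [GrpObj X] [IsCommMonObj X] {W : Over S} (x y : W ⟶ X) :
    up (x * y) = up x + up y := rfl

theorem up_one {X : Over S} [GrpObj X] [IsCommMonObj X] {W : Over S} : up (1 : W ⟶ X) = 0 := rfl

theorem up_inj {X : Over S} [GrpObj X] [IsCommMonObj X] {W : Over S} {x y : W ⟶ X} (h : up x = up y) : x = y :=
  congrArg (fun z : (pts Scheme.fppfPrecoverage X).obj.obj (op W) => z.down.toMul) h

theorem exists_up {X : Over S} [GrpObj X] [IsCommMonObj X] {W : Over S}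
    (y : (pts Scheme.fppfPrecoverage X).obj.obj (op W)) : ∃ x : W ⟶ X, y = up x := ⟨y.down.toMul, rfl⟩

variable (q : E ⟶ pts Scheme.fppfPrecoverage T) (n : ℤ)

/-- `e ∈ E(T ×_S V)` is a family of homomorphisms lifting multiplication by `n` on `T`. -/
structure IsNSplit (V : Over S) (e : E.obj.obj (op (T ⊗ V))) : Prop where
  proj : q.hom.app (op (T ⊗ V)) e = n • up (fst T V)
  add : ∀ (X : Over S) (g₁ g₂ : X ⟶ T) (t : X ⟶ V),
    E.obj.map (lift (g₁ * g₂) t).op e = E.obj.map (lift g₁ t).op e + E.obj.map (lift g₂ t).op e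

variable {q n}

/-- restriction -/
theorem IsNSplit.pull {V V' : Over S} {e : E.obj.obj (op (T ⊗ V))} (h : IsNSplit q n V e) (f : V' ⟶ V) :
    IsNSplit q n V' (E.obj.map (T ◁ f).op e) where
  proj := by
    rw [app_map, h.proj, map_zsmul, map_up, whiskerLeft_fst]
  add X g₁ g₂ t := by
    rw [← map_comp_apply, ← map_comp_apply, ← map_comp_apply, lift_whiskerLeft, lift_whiskerLeft, lift_whiskerLeft]
    exact h.add X g₁ g₂ _

theorem IsNSplit.zsmul {V : Over S} {e : E.obj.obj (op (T ⊗ V))} (h : IsNSplit q n V e) (m : ℤ) :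
    IsNSplit q (m * n) V (m • e) where
  proj := by
    rw [map_zsmul, h.proj, mul_zsmul]
  add X g₁ g₂ t := by
    rw [map_zsmul, map_zsmul, map_zsmul, h.add, zsmul_add]

theorem IsNSplit.proj_apply {V : Over S} {e : E.obj.obj (op (T ⊗ V))} (h : IsNSplit q n V e) {X : Over S}
    (g : X ⟶ T) (t : X ⟶ V) : q.hom.app (op X) (E.obj.map (lift g t).op e) = n • up g := by
  rw [app_map, h.proj, map_zsmul, map_up, lift_fst]

theorem IsNSplit.congr {n n' : ℤ} (hn : n = n') {V : Over S} {e : E.obj.obj (op (T ⊗ V))} (h : IsNSplit q n V e) :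
    IsNSplit q n' V e := by
  subst hn
  exact h

variable (q n) in
theorem ofHom (τ : pts Scheme.fppfPrecoverage T ⟶ E) (hτ : τ ≫ q = n • 𝟙 _) (V : Over S) :
    IsNSplit q n V (τ.hom.app (op (T ⊗ V)) (up (fst T V))) where
  proj := by
    have h1 : (τ ≫ q).hom.app (op (T ⊗ V)) (up (fst T V)) = n • up (fst T V) := by
      rw [hτ]
      have : ∀ (m : ℤ), (m • 𝟙 (pts Scheme.fppfPrecoverage T)).hom.app (op (T ⊗ V)) (up (fst T V)) =
        m • up (fst T V) := by
        intro m
        let φ : (pts Scheme.fppfPrecoverage T ⟶ pts Scheme.fppfPrecoverage T) →+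
            (pts Scheme.fppfPrecoverage T).obj.obj (op (T ⊗ V)) :=
          { toFun := fun f => f.hom.app (op (T ⊗ V)) (up (fst T V))
            map_zero' := rfl
            map_add' := fun _ _ => rfl }
        exact map_zsmul φ m (𝟙 _)
      exact this n
    exact h1
  add X g₁ g₂ t := by
    rw [← app_map, ← app_map, ← app_map, map_up, map_up, map_up, lift_fst, lift_fst, lift_fst, up_mul, map_add]

/-- A section over `T` itself which is additive is a morphism of sheaves. -/
theorem exists_hom (e : E.obj.obj (op T))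
    (h : ∀ (X : Over S) (g₁ g₂ : X ⟶ T), E.obj.map (g₁ * g₂).op e = E.obj.map g₁.op e + E.obj.map g₂.op e) :
    ∃ τ : pts Scheme.fppfPrecoverage T ⟶ E, ∀ (X : Over S) (g : X ⟶ T),
      τ.hom.app (op X) (up g) = E.obj.map g.op e := by
  let τ : pts Scheme.fppfPrecoverage T ⟶ E :=
    ⟨{ app := fun X => AddCommGrpCat.ofHom
        { toFun := fun x => E.obj.map (Quiver.Hom.op (x.down.toMul : X.unop ⟶ T)) e
          map_zero' := by
            have h1 := h X.unop 1 1
            rw [_root_.mul_one] at h1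
            exact left_eq_add.mp h1
          map_add' := fun x y => h X.unop x.down.toMul y.down.toMul }
       naturality := fun X Y f => by
        refine AddCommGrpCat.ext fun x => ?_
        exact map_comp_apply E f.unop (x.down.toMul : X.unop ⟶ T) e }⟩
  exact ⟨τ, fun X g => rfl⟩

/-- morphisms from `pts T` are determined by the universal section. -/
theorem hom_ext {τ τ' : pts Scheme.fppfPrecoverage T ⟶ E}
    (h : τ.hom.app (op T) (up (𝟙 T)) = τ'.hom.app (op T) (up (𝟙 T))) : τ = τ' := by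
  apply Sheaf.hom_ext
  refine NatTrans.ext (funext fun X => AddCommGrpCat.ext fun x => ?_)
  obtain ⟨X⟩ := X
  obtain ⟨g, rfl⟩ := exists_up x
  have h1 : up g = (pts Scheme.fppfPrecoverage T).obj.map g.op (up (𝟙 T)) := by
    rw [map_up, Category.comp_id]
  change τ.hom.app (op X) (up g) = τ'.hom.app (op X) (up g)
  rw [h1, app_map, app_map, h]

theorem zsmul_app {E F : BigSite.Ab Scheme.fppfPrecoverage S} (φ : E ⟶ F) (m : ℤ) {X : Over S}
    (x : E.obj.obj (op X)) : (m • φ).hom.app (op X) x = m • φ.hom.app (op X) x := by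
  let ψ : (E ⟶ F) →+ F.obj.obj (op X) :=
    { toFun := fun f => f.hom.app (op X) x
      map_zero' := rfl
      map_add' := fun _ _ => rfl }
  exact map_zsmul ψ m φ

/-- An `n`-splitting over a terminal object of the base is a morphism of sheaves. -/
theorem IsNSplit.exists_hom {V : Over S} (hV : IsTerminal V) {e : E.obj.obj (op (T ⊗ V))} (h : IsNSplit q n V e) :
    ∃ τ : pts Scheme.fppfPrecoverage T ⟶ E, τ ≫ q = n • 𝟙 _ ∧
      ∀ (X : Over S) (g : X ⟶ T) (t : X ⟶ V), τ.hom.app (op X) (up g) = E.obj.map (lift g t).op e := by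
  obtain ⟨τ, hτ⟩ := K452.NSplit.exists_hom (E.obj.map (lift (𝟙 T) (hV.from T)).op e) (fun X g₁ g₂ => by
    have h1 : ∀ g : X ⟶ T, g ≫ lift (𝟙 T) (hV.from T) = lift g (hV.from X) := by
      intro g
      rw [comp_lift, Category.comp_id, hV.hom_ext (g ≫ hV.from T) (hV.from X)]
    rw [← map_comp_apply, ← map_comp_apply, ← map_comp_apply, h1, h1, h1]
    exact h.add X g₁ g₂ _)
  have hτ' : ∀ (X : Over S) (g : X ⟶ T) (t : X ⟶ V), τ.hom.app (op X) (up g) = E.obj.map (lift g t).op e := by
    intro X g t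
    rw [hτ, ← map_comp_apply, comp_lift, Category.comp_id, hV.hom_ext (g ≫ hV.from T) t]
  refine ⟨τ, hom_ext ?_, hτ'⟩
  rw [zsmul_app]
  change q.hom.app (op T) (τ.hom.app (op T) (up (𝟙 T))) = n • up (𝟙 T)
  rw [hτ' T (𝟙 T) (hV.from T), h.proj_apply]

end K452.NSplit
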