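import Groth.Agent.AbSch.K452.TorsKit
import Groth.Agent.AbSch.K452.Restr
import Groth.Agent.SGA3x.K7.FamGen
import Groth.Agent.SGA3x.K7.ConjGlobal

/-!
# Lifting of splittings of a multiple of an extension along nilpotent thickenings

`0 → A → E → T → 0` exact on the big fppf site of `Spec R`, `A` smooth, `T` smooth of multiplicative type.
* `exists_lift_one`, `exists_lift_n`: an `n`-splitting over `Spec (R/J)`, `J` nilpotent, lifts to an `n`-splitting over
  `Spec R`.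
* `exists_lift_spec`, `exists_lift_affine`: the same over `V : Over S`, any base `S`, `V` affine, `V₀ ⟶ V` a closed
  immersion with nilpotent ideal, `T` a torus and `A` smooth.
-/

set_option autoImplicit false
universe u
open CategoryTheory CategoryTheory.Limits MonoidalCategory CartesianMonoidalCategory MonObj AlgebraicGeometry
open CGrpSh Opposite

namespace K452.NilLift

open K452.NSplit K452.TorsKit
open K452.TorsRep hiding map_up up_inj

section Abelian

variable {C : Type*} [Category* C] [Abelian C] {X₁ X₂ X₃ Y : C} (i : X₁ ⟶ X₂) (q : X₂ ⟶ X₃) (w : i ≫ q = 0)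
  (φ : Y ⟶ X₃)

/-- Pull-back of a short exact sequence. -/
theorem shortExact_pullback (hex : (ShortComplex.mk i q w).ShortExact) :
    (ShortComplex.mk (pullback.lift i 0 (by rw [w, zero_comp])) (pullback.snd q φ)
      (pullback.lift_snd _ _ _)).ShortExact := by
  have hi : Mono i := hex.mono_f
  have hq : Epi q := hex.epi_g
  have hEf : pullback.lift i (0 : X₁ ⟶ Y) (by rw [w, zero_comp]) ≫ pullback.fst q φ = i := pullback.lift_fst _ _ _
  have hmono : Mono (pullback.lift i (0 : X₁ ⟶ Y) (by rw [w, zero_comp] : i ≫ q = 0 ≫ φ)) := by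
    have h5 : Mono (pullback.lift i (0 : X₁ ⟶ Y) (by rw [w, zero_comp] : i ≫ q = 0 ≫ φ) ≫ pullback.fst q φ) := by
      rw [hEf]
      exact hi
    exact mono_of_mono _ (pullback.fst q φ)
  refine { exact := ?_, mono_f := hmono, epi_g := inferInstanceAs (Epi (pullback.snd q φ)) }
  have hlift : ∀ {W : C} (k : W ⟶ pullback q φ) (_ : k ≫ pullback.snd q φ = 0),
      ∃ l : W ⟶ X₁, l ≫ pullback.lift i (0 : X₁ ⟶ Y) (by rw [w, zero_comp]) = k := by
    intro W k hk
    have hk' : (k ≫ pullback.fst q φ) ≫ q = 0 := by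
      rw [Category.assoc, pullback.condition, ← Category.assoc, hk, zero_comp]
    have : Mono (ShortComplex.mk i q w).f := hi
    obtain ⟨l, hl⟩ := hex.exact.lift' (k ≫ pullback.fst q φ) hk'
    refine ⟨l, pullback.hom_ext ?_ ?_⟩
    · rw [Category.assoc, hEf]
      exact hl
    · rw [Category.assoc, hk, pullback.lift_snd, comp_zero]
  exact ShortComplex.exact_of_f_is_kernel _ (KernelFork.IsLimit.ofι _ (pullback.lift_snd _ _ _)
    (fun k hk => (hlift k hk).choose) (fun k hk => (hlift k hk).choose_spec)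
    (fun k hk m hm => (cancel_mono (pullback.lift i (0 : X₁ ⟶ Y) _)).mp (hm.trans (hlift k hk).choose_spec.symm)))

end Abelian

section Pairs

variable {S : Scheme.{u}} {F₁ F₂ F₃ P : BigSite.Ab Scheme.fppfPrecoverage S} {a : P ⟶ F₁} {b : P ⟶ F₂}
  {f : F₁ ⟶ F₃} {g : F₂ ⟶ F₃}

theorem isPullback_ev (h : IsPullback a b f g) (X : Over S) :
    IsPullback ((forget AddCommGrpCat.{u + 1}).map (a.hom.app (op X)))
      ((forget AddCommGrpCat.{u + 1}).map (b.hom.app (op X)))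
      ((forget AddCommGrpCat.{u + 1}).map (f.hom.app (op X)))
      ((forget AddCommGrpCat.{u + 1}).map (g.hom.app (op X))) :=
  h.map (sheafToPresheaf (QuotSh.J Scheme.fppfPrecoverage S) AddCommGrpCat.{u + 1} ⋙ (evaluation _ _).obj (op X) ⋙
    forget AddCommGrpCat.{u + 1})

theorem exists_pair (h : IsPullback a b f g) {X : Over S} (x : F₁.obj.obj (op X)) (y : F₂.obj.obj (op X))
    (hxy : f.hom.app (op X) x = g.hom.app (op X) y) :
    ∃ z : P.obj.obj (op X), a.hom.app (op X) z = x ∧ b.hom.app (op X) z = y :=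
  ((Types.isPullback_iff _ _ _ _).1 (isPullback_ev h X)).2.2 x y hxy

theorem pair_ext (h : IsPullback a b f g) {X : Over S} {z z' : P.obj.obj (op X)}
    (h₁ : a.hom.app (op X) z = a.hom.app (op X) z') (h₂ : b.hom.app (op X) z = b.hom.app (op X) z') : z = z' :=
  ((Types.isPullback_iff _ _ _ _).1 (isPullback_ev h X)).2.1 z z' ⟨h₁, h₂⟩

section

variable {T : Over S} [GrpObj T] [IsCommMonObj T] {E P : BigSite.Ab Scheme.fppfPrecoverage S} {q : E ⟶ pts Scheme.fppfPrecoverage T} {n : ℤ}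
  {p₁ : P ⟶ E} {p₂ : P ⟶ pts Scheme.fppfPrecoverage T} (h : IsPullback p₁ p₂ q (n • 𝟙 _))

include h in
/-- `n`-splittings of `E` are splittings of the pull-back along `n`. -/
theorem isNSplit_pair {V : Over S} {z : P.obj.obj (op (T ⊗ V))} :
    IsNSplit p₂ 1 V z ↔ IsNSplit q n V (p₁.hom.app (op (T ⊗ V)) z) ∧ p₂.hom.app (op (T ⊗ V)) z = up (fst T V) := by
  have hq : ∀ {X : Over S} (x : P.obj.obj (op X)), q.hom.app (op X) (p₁.hom.app (op X) x) =
      n • p₂.hom.app (op X) x := by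
    intro X x
    have h1 := congrArg (fun a => a.hom.app (op X) x) h.w
    change q.hom.app (op X) (p₁.hom.app (op X) x) = (n • 𝟙 (pts Scheme.fppfPrecoverage T)).hom.app (op X)
      (p₂.hom.app (op X) x) at h1
    rw [zsmul_app] at h1
    exact h1
  constructor
  · intro hz
    have h1 := hz.proj
    rw [one_zsmul] at h1
    refine ⟨⟨by rw [hq, h1], fun X g₁ g₂ t => ?_⟩, h1⟩
    rw [← NSplit.app_map, ← NSplit.app_map, ← NSplit.app_map, hz.add, map_add]
  · rintro ⟨hz, h1⟩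
    refine ⟨by rw [h1, one_zsmul], fun X g₁ g₂ t => pair_ext h ?_ ?_⟩
    · rw [map_add, NSplit.app_map, NSplit.app_map, NSplit.app_map, hz.add]
    · rw [map_add, NSplit.app_map, NSplit.app_map, NSplit.app_map, h1, NSplit.map_up, NSplit.map_up, NSplit.map_up,
        lift_fst, lift_fst, lift_fst, up_mul]

include h in
theorem exists_pair_of_isNSplit {V : Over S} {e : E.obj.obj (op (T ⊗ V))} (he : IsNSplit q n V e) :
    ∃ z : P.obj.obj (op (T ⊗ V)), IsNSplit p₂ 1 V z ∧ p₁.hom.app (op (T ⊗ V)) z = e := by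
  obtain ⟨z, h1, h2⟩ := exists_pair h e (up (fst T V)) (by
    rw [he.proj, zsmul_app]
    rfl)
  exact ⟨z, (isNSplit_pair h).mpr ⟨by rwa [h1], h2⟩, h1⟩

end

end Pairs

section Base

open Groth.Agent.Sga3B.InfConj Groth.Agent.Sga3.H802.HomFam Groth.Agent.Sga3B.HaarDef
open Groth.Agent.Books.AffBridge
open scoped TensorProduct

variable {R : Type u} [CommRing R] {A T : Over (Spec (CommRingCat.of R))} [GrpObj A] [IsCommMonObj A] [GrpObj T]
  [IsCommMonObj T]
variable {E : BigSite.Ab Scheme.fppfPrecoverage (Spec (CommRingCat.of R))} (i : pts Scheme.fppfPrecoverage A ⟶ E)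
  (q : E ⟶ pts Scheme.fppfPrecoverage T) (w : i ≫ q = 0) (hex : (ShortComplex.mk i q w).ShortExact)

include hex in
/-- An extension with a section as sheaves of sets is a smooth group scheme. -/
theorem exists_grp_smooth [Smooth A.hom] [Smooth T.hom] (g : E.obj.obj (op T))
    (hg : q.hom.app (op T) g = up (𝟙 T)) :
    ∃ (G : Over (Spec (CommRingCat.of R))) (_ : GrpObj G) (_ : IsCommMonObj G)
      (_ : pts Scheme.fppfPrecoverage G ≅ E), Smooth G.hom := by
  obtain ⟨g1, g2, ε, -, -⟩ := exists_grp_of_isRep q (snd A T) (univ i g) (locRep i q w hex (𝟙 T) g hg)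
  refine ⟨A ⊗ T, g1, g2, ε, ?_⟩
  have h1 : Smooth (pullback.fst A.hom T.hom) := inferInstance
  exact inferInstanceAs (Smooth (pullback.fst A.hom T.hom ≫ A.hom))

include hex in
/-- Lifting of splittings. -/
theorem exists_lift_one [Smooth A.hom] [Smooth T.hom] (hT : K7.MTHaar.IsMT T) {J : Ideal R} (hJ : IsNilpotent J)
    (e₀ : E.obj.obj (op (T ⊗ pt R (R ⧸ J)))) (h₀ : IsNSplit q 1 (pt R (R ⧸ J)) e₀) :
    ∃ e : E.obj.obj (op (T ⊗ pt R R)), IsNSplit q 1 (pt R R) e ∧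
      E.obj.map (T ◁ ptMap (Ideal.Quotient.mkₐ R J)).op e = e₀ := by
  obtain ⟨D, _, _, ε, hε, l, hl⟩ := K7.MTHaar.exists_model hT
  have hmod : IsModel (R := R) (D := D) (E := T) ε := isModel_of_isMonHom ε
  let π : R →ₐ[R] (R ⧸ J) := Ideal.Quotient.mkₐ R J
  have hπ : Function.Surjective π := Ideal.Quotient.mkₐ_surjective R J
  have hK : IsNilpotent (RingHom.ker π) := by rwa [show RingHom.ker π = J from Ideal.mk_ker]
  -- the thickening of affine schemes
  let idX : pt R (D ⊗[R] R) ⟶ T := prD R D R ≫ ε.inv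
  let inY : pt R (D ⊗[R] (R ⧸ J)) ⟶ T ⊗ pt R (R ⧸ J) := lift (prD R D (R ⧸ J) ≫ ε.inv) (prX R D (R ⧸ J))
  have hTs : Function.Surjective (Groth.Agent.Sga3B.HaarDef.T D π) := T_surjective hπ
  have hTn : IsNilpotent (RingHom.ker (Groth.Agent.Sga3B.HaarDef.T D π).toRingHom) := by
    have h1 : RingHom.ker (Groth.Agent.Sga3B.HaarDef.T D π).toRingHom =
        Ideal.map (Algebra.TensorProduct.includeRight : R →ₐ[R] D ⊗[R] R) (RingHom.ker π) :=
      Algebra.TensorProduct.lTensor_ker π hπ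
    obtain ⟨m, hm⟩ := hK
    refine ⟨m, ?_⟩
    rw [h1, ← Ideal.map_pow, hm]
    exact Ideal.map_bot
  obtain ⟨g, hg, -⟩ := exists_lift i q w hex (Groth.Agent.Sga3B.HaarDef.T D π).toRingHom hTs hTn
    (str := Spec.map (CommRingCat.ofHom (algebraMap R (D ⊗[R] R))))
    (str' := Spec.map (CommRingCat.ofHom (algebraMap R (D ⊗[R] (R ⧸ J)))))
    (ptMap (Groth.Agent.Sga3B.HaarDef.T D π)) rfl idX (E.obj.map inY.op e₀) (by
      rw [NSplit.app_map, h₀.proj, one_zsmul, map_up, lift_fst]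
      congr 1
      change _ = ptMap (Groth.Agent.Sga3B.HaarDef.T D π) ≫ prD R D R ≫ ε.inv
      rw [← Category.assoc, prD_T])
  -- a section over `T`
  let k : T ⟶ pt R (D ⊗[R] R) := pairPt ε.hom (toUnit T ≫ K7.ConjGlobal.topPt R)
  have hk : k ≫ idX = 𝟙 T := by
    change pairPt ε.hom _ ≫ prD R D R ≫ ε.inv = 𝟙 T
    rw [← Category.assoc, pairPt_prD, Iso.hom_inv_id]
  obtain ⟨G, _, _, εG, hG⟩ := exists_grp_smooth i q w hex (E.obj.map k.op g) (by
    rw [NSplit.app_map, hg, map_up, hk])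
  -- the family over `R/J`
  obtain ⟨a₀, ha₀⟩ := exists_up (εG.inv.hom.app _ e₀)
  have hinv : ∀ {X : Over (Spec (CommRingCat.of R))} (x : E.obj.obj (op X)),
      εG.hom.hom.app (op X) (εG.inv.hom.app (op X) x) = x := by
    intro X x
    have h1 := congrArg (fun z => z.hom.app (op X) x) εG.inv_hom_id
    exact h1
  have hfam₀ : AutFam.IsHomFamily T G a₀ := by
    intro X g₁ g₂ t
    apply NSplit.up_inj
    rw [up_mul, ← map_up, ← map_up, ← map_up, ← ha₀, ← NSplit.app_map, ← NSplit.app_map, ← NSplit.app_map, h₀.add,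
      map_add]
  obtain ⟨a, ha, haa⟩ := K7.FamGen.exists_lift_family (G := G) ε hmod (K7.IntDesc.haarOfIsInt hl) hπ hK hfam₀
  obtain ⟨e, he⟩ : ∃ e : E.obj.obj (op (T ⊗ pt R R)), e = εG.hom.hom.app _ (up a) := ⟨_, rfl⟩
  have hres : E.obj.map (T ◁ ptMap π).op e = e₀ := by
    rw [he, ← NSplit.app_map, map_up, haa, ← ha₀, hinv]
  have hadd : ∀ (X : Over (Spec (CommRingCat.of R))) (g₁ g₂ : X ⟶ T) (t : X ⟶ pt R R),
      E.obj.map (lift (g₁ * g₂) t).op e = E.obj.map (lift g₁ t).op e + E.obj.map (lift g₂ t).op e := by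
    intro X g₁ g₂ t
    rw [he, ← NSplit.app_map, ← NSplit.app_map, ← NSplit.app_map, map_up, map_up, map_up, ha, up_mul, map_add]
  refine ⟨e, ⟨?_, hadd⟩, hres⟩
  -- the projection
  obtain ⟨b, hb⟩ := exists_up (q.hom.app _ e)
  have hbadd : ∀ (X : Over (Spec (CommRingCat.of R))) (g₁ g₂ : X ⟶ T) (t : X ⟶ pt R R),
      lift (g₁ * g₂) t ≫ b = (lift g₁ t ≫ b) * (lift g₂ t ≫ b) := by
    intro X g₁ g₂ t
    apply NSplit.up_inj
    rw [up_mul, ← map_up, ← map_up, ← map_up, ← hb, ← NSplit.app_map, ← NSplit.app_map, ← NSplit.app_map, hadd,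
      map_add]
  have hb₀ : (T ◁ ptMap π) ≫ b = fst T (pt R (R ⧸ J)) := by
    apply NSplit.up_inj
    rw [← map_up, ← hb, ← NSplit.app_map, hres, h₀.proj, one_zsmul]
  let c : T ⊗ pt R R ⟶ T := b * (fst T (pt R R))⁻¹
  have hc : AutFam.IsHomFamily T T c := by
    intro X g₁ g₂ t
    change lift (g₁ * g₂) t ≫ (b * (fst T (pt R R))⁻¹) = (lift g₁ t ≫ (b * (fst T (pt R R))⁻¹)) *
      (lift g₂ t ≫ (b * (fst T (pt R R))⁻¹))
    rw [MonObj.comp_mul, MonObj.comp_mul, MonObj.comp_mul, GrpObj.comp_inv, GrpObj.comp_inv, GrpObj.comp_inv,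
      lift_fst, lift_fst, lift_fst, hbadd, _root_.mul_inv]
    exact mul_mul_mul_comm _ _ _ _
  have hc1 : c = 1 := K7.FamGen.eq_one_family (G := T) ε hmod (K7.IntDesc.haarOfIsInt hl) hπ hK hc (by
    change (T ◁ ptMap π) ≫ (b * (fst T (pt R R))⁻¹) = 1
    rw [MonObj.comp_mul, GrpObj.comp_inv, hb₀, whiskerLeft_fst, mul_inv_cancel])
  have hb1 : b = fst T (pt R R) := mul_inv_eq_one.mp hc1
  rw [hb, hb1, one_zsmul]

include hex in
/-- Lifting of `n`-splittings over `Spec R`. -/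
theorem exists_lift_n [Smooth A.hom] [Smooth T.hom] (hT : K7.MTHaar.IsMT T) {J : Ideal R} (hJ : IsNilpotent J) (n : ℤ)
    (e₀ : E.obj.obj (op (T ⊗ pt R (R ⧸ J)))) (h₀ : IsNSplit q n (pt R (R ⧸ J)) e₀) :
    ∃ e : E.obj.obj (op (T ⊗ pt R R)), IsNSplit q n (pt R R) e ∧
      E.obj.map (T ◁ ptMap (Ideal.Quotient.mkₐ R J)).op e = e₀ := by
  have hpb := IsPullback.of_hasPullback q (n • 𝟙 (pts Scheme.fppfPrecoverage T))
  obtain ⟨z₀, hz₀, hz₀'⟩ := exists_pair_of_isNSplit hpb h₀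
  obtain ⟨z, hz, hzz⟩ := exists_lift_one _ _ _ (shortExact_pullback i q w (n • 𝟙 (pts Scheme.fppfPrecoverage T)) hex)
    hT hJ z₀ hz₀
  refine ⟨(pullback.fst q (n • 𝟙 (pts Scheme.fppfPrecoverage T))).hom.app _ z, ((isNSplit_pair hpb).mp hz).1, ?_⟩
  rw [← NSplit.app_map, hzz, hz₀']

end Base

section Over

open Groth.Agent.Sga3B.InfConj K452.Restr

variable {S : Scheme.{u}}

theorem isMT_of_isTorus {T : Over S} [GrpObj T] (hT : Red.IsTorus T) : K7.MTHaar.IsMT T := by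
  obtain ⟨S', f, hf, hs, hc, h⟩ := hT
  refine ⟨S', f, hf, hs, hc, fun s' => ?_⟩
  obtain ⟨U, hU, r, hr⟩ := h s'
  exact ⟨U, hU, (Fin r → ℤ), inferInstance, hr⟩

variable {A T : Over S} [GrpObj A] [IsCommMonObj A] [GrpObj T] [IsCommMonObj T]
variable {E : BigSite.Ab Scheme.fppfPrecoverage S} (i : pts Scheme.fppfPrecoverage A ⟶ E)
  (q : E ⟶ pts Scheme.fppfPrecoverage T) (w : i ≫ q = 0) (hex : (ShortComplex.mk i q w).ShortExact)

include hex in
theorem exists_lift_spec [Smooth A.hom] (hT : Red.IsTorus T) (n : ℤ) {R : Type u} [CommRing R] {J : Ideal R}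
    (hJ : IsNilpotent J) (str : Spec (CommRingCat.of R) ⟶ S) {V₀ V : Over S}
    (κ₀ : V₀ ≅ (Over.map str).obj (pt R (R ⧸ J))) (κ : V ≅ (Over.map str).obj (pt R R))
    (f : V₀ ⟶ V) (hf : f ≫ κ.hom = κ₀.hom ≫ (Over.map str).map (ptMap (Ideal.Quotient.mkₐ R J)))
    (e₀ : E.obj.obj (op (T ⊗ V₀))) (h₀ : IsNSplit q n V₀ e₀) :
    ∃ e : E.obj.obj (op (T ⊗ V)), IsNSplit q n V e ∧ E.obj.map (T ◁ f).op e = e₀ := by
  let V' : Over S := Over.mk str
  have hA' : Smooth (Red.bc V'.hom A).hom := inferInstanceAs (Smooth (pullback.snd A.hom str))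
  have hT' : Red.IsTorus (Red.bc V'.hom T) := Groth.Agent.Sga3B.TorusBc.isTorus_bc str hT
  have hsm : Smooth (Red.bc V'.hom T).hom := Groth.Agent.Sga3B.TorusAlgClosed.smooth_of_isTorus hT'
  have h1 : IsNSplit q n ((Over.map V'.hom).obj (pt R (R ⧸ J))) (E.obj.map (T ◁ κ₀.inv).op e₀) := h₀.pull κ₀.inv
  obtain ⟨e', he', hee⟩ := exists_lift_n (resI V' i) (resQ V' q) (resI_resQ V' i q w) (shortExact_res V' i q w hex)
    (isMT_of_isTorus hT') hJ n _ (isNSplit_res V' h1)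
  have h2 := (isNSplit_of_res V' he').pull κ.hom
  refine ⟨_, h2, ?_⟩
  have h3 : (T ◁ f) ≫ (T ◁ κ.hom) ≫ (kap V'.hom T (pt R R)).inv = (T ◁ κ₀.hom) ≫
      (kap V'.hom T (pt R (R ⧸ J))).inv ≫ (Over.map V'.hom).map (Red.bc V'.hom T ◁ ptMap (Ideal.Quotient.mkₐ R J)) := by
    rw [← Category.assoc, ← MonoidalCategory.whiskerLeft_comp, hf, MonoidalCategory.whiskerLeft_comp, Category.assoc]
    congr 1
    rw [Iso.comp_inv_eq, Category.assoc, whisker_kap, Iso.inv_hom_id_assoc]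
    rfl
  rw [← NSplit.map_comp_apply, ← NSplit.map_comp_apply, Category.assoc, h3, NSplit.map_comp_apply,
    NSplit.map_comp_apply]
  refine (congrArg (fun z => E.obj.map (T ◁ κ₀.hom).op (E.obj.map (kap V'.hom T (pt R (R ⧸ J))).inv.op z)) hee).trans ?_
  have h5 : (T ◁ κ₀.hom) ≫ (kap V'.hom T (pt R (R ⧸ J))).inv ≫ (kap V'.hom T (pt R (R ⧸ J))).hom ≫ (T ◁ κ₀.inv) =
      𝟙 _ := by
    rw [Iso.inv_hom_id_assoc, ← MonoidalCategory.whiskerLeft_comp, Iso.hom_inv_id, MonoidalCategory.whiskerLeft_id]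
  rw [← NSplit.map_comp_apply, ← NSplit.map_comp_apply, ← NSplit.map_comp_apply]
  simp only [Category.assoc]
  rw [h5, NSplit.map_id_apply]

omit [GrpObj A] [IsCommMonObj A] [GrpObj T] [IsCommMonObj T] in
/-- closed immersions into affine schemes, in standard form -/
theorem exists_std {V₀ V : Over S} (f : V₀ ⟶ V) [IsAffine V.left] [IsClosedImmersion f.left] :
    ∃ (R : Type u) (_ : CommRing R) (J : Ideal R) (_ : IsNilpotent (RingHom.ker f.left.appTop.hom) → IsNilpotent J)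
      (str : Spec (CommRingCat.of R) ⟶ S) (κ₀ : V₀ ≅ (Over.map str).obj (pt R (R ⧸ J)))
      (κ : V ≅ (Over.map str).obj (pt R R)),
      f ≫ κ.hom = κ₀.hom ≫ (Over.map str).map (ptMap (Ideal.Quotient.mkₐ R J)) := by
  obtain ⟨hW, hs⟩ := IsClosedImmersion.isAffine_surjective_of_isAffine f.left
  let I : Ideal Γ(V.left, ⊤) := RingHom.ker f.left.appTop.hom
  let qq : CommRingCat.of (Γ(V.left, ⊤) ⧸ I) ≅ Γ(V₀.left, ⊤) :=
    (RingHom.quotientKerEquivOfSurjective hs).toCommRingCatIso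
  have hq : CommRingCat.ofHom (Ideal.Quotient.mk I) ≫ qq.hom = f.left.appTop := by
    ext x; rfl
  have e1 : Spec.map qq.hom ≫ Spec.map (CommRingCat.ofHom (Ideal.Quotient.mk I)) = Spec.map f.left.appTop := by
    rw [← Spec.map_comp, hq]
  have e2 : Spec.map f.left.appTop ≫ V.left.isoSpec.inv = V₀.left.isoSpec.inv ≫ f.left :=
    Scheme.isoSpec_inv_naturality _
  have e3 : V₀.left.isoSpec.hom ≫ Spec.map qq.hom ≫ Spec.map (CommRingCat.ofHom (Ideal.Quotient.mk I)) =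
      f.left ≫ V.left.isoSpec.hom := by
    rw [e1, ← cancel_mono V.left.isoSpec.inv, Category.assoc, e2, Iso.hom_inv_id_assoc, Category.assoc,
      Iso.hom_inv_id, Category.comp_id]
  refine ⟨Γ(V.left, ⊤), inferInstance, I, id, V.left.isoSpec.inv ≫ V.hom,
    Over.isoMk (V₀.left.isoSpec ≪≫ Scheme.Spec.mapIso qq.op) ?_, Over.isoMk V.left.isoSpec ?_, ?_⟩
  · change (V₀.left.isoSpec.hom ≫ Spec.map qq.hom) ≫ Spec.map (CommRingCat.ofHom (Ideal.Quotient.mk I)) ≫
      V.left.isoSpec.inv ≫ V.hom = V₀.hom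
    have h1 : f.left ≫ V.hom = V₀.hom := Over.w f
    rw [Category.assoc, reassoc_of% e3, Iso.hom_inv_id_assoc, h1]
  · change V.left.isoSpec.hom ≫ Spec.map (CommRingCat.ofHom (algebraMap _ _)) ≫ V.left.isoSpec.inv ≫ V.hom = V.hom
    rw [K7.ConjGlobal.specMap_algebraMap_self, Category.id_comp, Iso.hom_inv_id_assoc]
  · apply Over.OverMorphism.ext
    change f.left ≫ V.left.isoSpec.hom = (V₀.left.isoSpec.hom ≫ Spec.map qq.hom) ≫
      Spec.map (CommRingCat.ofHom (Ideal.Quotient.mk I))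
    rw [Category.assoc, e3]

include hex in
/-- **Lifting of `n`-splittings along nilpotent thickenings of affine schemes.** -/
theorem exists_lift_affine [Smooth A.hom] (hT : Red.IsTorus T) (n : ℤ) {V₀ V : Over S} (f : V₀ ⟶ V) [IsAffine V.left]
    [IsClosedImmersion f.left] (hJ : IsNilpotent (RingHom.ker f.left.appTop.hom)) (e₀ : E.obj.obj (op (T ⊗ V₀)))
    (h₀ : IsNSplit q n V₀ e₀) :
    ∃ e : E.obj.obj (op (T ⊗ V)), IsNSplit q n V e ∧ E.obj.map (T ◁ f).op e = e₀ := by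
  obtain ⟨R, _, J, hJ', str, κ₀, κ, hf⟩ := exists_std f
  exact exists_lift_spec i q w hex hT n (hJ' hJ) str κ₀ κ f hf e₀ h₀

end Over

end K452.NilLift
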