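import Groth.Agent.AbSch.K630.Basic
import Groth.Agent.AbSch.K452.NilLift

/-!
# Lifting of `n`-splittings along nilpotent thickenings, for `K630.AbExt.Dat`
-/

set_option autoImplicit false
universe u
open CategoryTheory CategoryTheory.Limits MonoidalCategory CartesianMonoidalCategory MonObj AlgebraicGeometry
open Opposite

namespace K452.NilNS

open K452.NSplit K452.NilLift K452.HomPts K630.AbExt K630.AbExt.Dat
open Groth.Agent.Etdl.H432.Sec

variable {S : Scheme.{u}} {T A : Over S} [GrpObj T] [IsCommMonObj T] [GrpObj A] [IsCommMonObj A] (D : Dat T A)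

variable {D} in
theorem isNSplit_toSec {n : ℕ} {V : Over S} {τ : Γs D.H V} (h : D.IsNS n τ) :
    IsNSplit D.q (n : ℤ) V (toSec τ) where
  proj := by
    rw [natCast_zsmul]
    exact q_toSec h
  add X g₁ g₂ t := (toSec_add τ g₁ g₂ t).symm

variable {D} in
theorem exists_isNS {n : ℕ} {V : Over S} {e : Γs D.E (T ⊗ V)} (h : IsNSplit D.q (n : ℤ) V e) :
    ∃ τ : Γs D.H V, D.IsNS n τ ∧ toSec τ = e :=
  exists_of_sec e (by
    have h1 := h.proj
    rw [natCast_zsmul] at h1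
    exact h1) (fun W t t' v => (h.add W t t' v).symm)

/-- **Lifting of `n`-splittings**: `V` affine, `V₀ ⟶ V` a closed immersion with nilpotent ideal. -/
theorem exists_lift_affine (hT : Red.IsTorus T) [Smooth A.hom] {n : ℕ} {V₀ V : Over S} (f : V₀ ⟶ V) [IsAffine V.left]
    [IsClosedImmersion f.left] (hJ : IsNilpotent (RingHom.ker f.left.appTop.hom)) {τ₀ : Γs D.H V₀}
    (h₀ : D.IsNS n τ₀) : ∃ τ : Γs D.H V, D.IsNS n τ ∧ r D.H f τ = τ₀ := by
  obtain ⟨e, he, hee⟩ := NilLift.exists_lift_affine D.i D.q D.w D.ex hT n f hJ (toSec τ₀) (isNSplit_toSec h₀)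
  obtain ⟨τ, hτ, hτe⟩ := exists_isNS he
  refine ⟨τ, hτ, K771.HomEv.ev_ext fun W g x => ?_⟩
  have h1 : K771.HomEv.ev (r D.H f τ) g x = r D.E (lift (pt x) (g ≫ f)) (toSec τ) := by
    rw [r_toSec, sec_pt, K771.HomEv.ev_r]
  have h2 : K771.HomEv.ev τ₀ g x = r D.E (lift (pt x) g) (toSec τ₀) := by
    rw [r_toSec, sec_pt]
  rw [h1, h2, hτe, ← hee]
  change _ = r D.E (lift (pt x) g) (r D.E (T ◁ f) e)
  rw [r_r, lift_whiskerLeft]

theorem ns_lift_affine (hT : Red.IsTorus T) [Smooth A.hom] {n : ℕ} {V₀ V : Over S} (f : V₀ ⟶ V) [IsAffine V.left]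
    [IsClosedImmersion f.left] (hJ : IsNilpotent (RingHom.ker f.left.appTop.hom)) (h₀ : D.NS n V₀) : D.NS n V := by
  obtain ⟨τ₀, h⟩ := h₀
  obtain ⟨τ, hτ, -⟩ := exists_lift_affine D hT f hJ h
  exact ⟨τ, hτ⟩

theorem ns_terminal {V V' : Over S} {n : ℕ} (h : D.NS n V) (f : V' ⟶ V) : D.NS n V' := h.restrict f

/-- **`n`-splittings lift along nilpotent ideals.** -/
theorem ns_of_nilpotent {Λ : Type u} [CommRing Λ] (I : Ideal Λ) (hI : IsNilpotent I)
    {T A : Over (Spec (CommRingCat.of Λ))} [GrpObj T] [IsCommMonObj T] [GrpObj A] [IsCommMonObj A]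
    (hT : Red.IsTorus T) [Smooth A.hom] (D : Dat T A) {n : ℕ}
    (h : D.NS n (Over.mk (Spec.map (CommRingCat.ofHom (Ideal.Quotient.mk I))))) :
    D.NS n (𝟙_ (Over (Spec (CommRingCat.of Λ)))) := by
  obtain ⟨τ₀, h₀⟩ := h
  let V : Over (Spec (CommRingCat.of Λ)) := Groth.Agent.Sga3B.InfConj.pt Λ Λ
  have hV : D.NS n V := by
    obtain ⟨e, he, -⟩ := NilLift.exists_lift_spec D.i D.q D.w D.ex hT n hI (𝟙 _)
      (V₀ := Over.mk (Spec.map (CommRingCat.ofHom (Ideal.Quotient.mk I)))) (V := V)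
      (Over.isoMk (Iso.refl _) (by
        change 𝟙 _ ≫ Spec.map (CommRingCat.ofHom (algebraMap Λ (Λ ⧸ I))) ≫ 𝟙 _ = _
        rw [Category.id_comp, Category.comp_id]
        rfl))
      (Over.isoMk (Iso.refl _) (by
        change 𝟙 _ ≫ Spec.map (CommRingCat.ofHom (algebraMap Λ Λ)) ≫ 𝟙 _ = _
        rw [Category.id_comp, Category.comp_id]
        rfl))
      (Over.homMk (Spec.map (CommRingCat.ofHom (Ideal.Quotient.mk I))) (by
        change _ ≫ Spec.map (CommRingCat.ofHom (algebraMap Λ Λ)) = _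
        rw [K7.ConjGlobal.specMap_algebraMap_self, Category.comp_id]
        rfl)) (by
        apply Over.OverMorphism.ext
        change _ ≫ 𝟙 _ = 𝟙 _ ≫ _
        rw [Category.id_comp, Category.comp_id]
        rfl) _ (isNSplit_toSec h₀)
    obtain ⟨τ, hτ, -⟩ := exists_isNS he
    exact ⟨τ, hτ⟩
  exact hV.restrict (Over.homMk (𝟙 _) (by
    change 𝟙 _ ≫ Spec.map (CommRingCat.ofHom (algebraMap Λ Λ)) = 𝟙 _
    rw [K7.ConjGlobal.specMap_algebraMap_self, Category.comp_id]))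

end K452.NilNS
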