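import Groth.Agent.Sga7.H751.PowEtale
import Groth.Agent.Sga3.H780.Pointed
import Mathlib.AlgebraicGeometry.Morphisms.Proper
import Mathlib.AlgebraicGeometry.Geometrically.Connected

/-!
# Multiplication by an integer invertible on the base of an abelian scheme is étale and surjective

* `etale_zpow`, `surjective_zpow`: for a smooth proper group scheme with connected fibres (over any
  base scheme) and an integer `d` non-zero in every residue field.
-/

set_option autoImplicit false

universe u

open CategoryTheory CategoryTheory.Limits AlgebraicGeometry MonObj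
open MonoidalCategory CartesianMonoidalCategory

namespace K452.PowEt

open Groth.Agent.Grpsch.AbBC Groth.Agent

section

attribute [local instance] Functor.grpObjObj

variable {K : Type u} [Field K]

theorem isCommMonObj_field (A : Over (Spec (CommRingCat.of K))) [GrpObj A] [Smooth A.hom]
    [IsProper A.hom] [ConnectedSpace A.left] : IsCommMonObj A := by
  have := Sga3.H780.Pointed.geometricallyIntegral A
  exact isCommMonObj_of_isProper_of_geometricallyIntegral A

theorem etale_zpow_field (A : Over (Spec (CommRingCat.of K))) [GrpObj A] [Smooth A.hom]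
    [IsProper A.hom] [ConnectedSpace A.left] (d : ℤ) (hd : (d : K) ≠ 0) : Etale (𝟙 A ^ d).left := by
  have := isCommMonObj_field A
  exact Sga3.H792.PowFlat.etale_zpow_comm _ hd

theorem surjective_zpow_field (A : Over (Spec (CommRingCat.of K))) [GrpObj A] [Smooth A.hom]
    [IsProper A.hom] [ConnectedSpace A.left] (d : ℤ) (hd : (d : K) ≠ 0) :
    Surjective (𝟙 A ^ d).left := by
  have h1 := etale_zpow_field A d hd
  have h2 : IsProper (𝟙 A ^ d).left := by
    have : IsProper ((𝟙 A ^ d).left ≫ A.hom) := by rw [Over.w]; infer_instance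
    exact IsProper.of_comp _ A.hom
  have h3 : IsClopen (Set.range (𝟙 A ^ d).left) :=
    ⟨(𝟙 A ^ d).left.isClosedMap.isClosed_range, (𝟙 A ^ d).left.isOpenMap.isOpen_range⟩
  refine ⟨?_⟩
  rw [← Set.range_eq_univ]
  exact h3.eq_univ (Set.range_nonempty _)

theorem etale_surjective_pullback {S : Scheme.{u}} (i : Spec (CommRingCat.of K) ⟶ S)
    (A : Over S) [GrpObj A] [Smooth A.hom] [IsProper A.hom]
    (hc : ConnectedSpace ↥(pullback A.hom i)) (d : ℤ) (hd : (d : K) ≠ 0) :
    Etale ((Over.pullback i).map (𝟙 A ^ d)).left ∧
      Surjective ((Over.pullback i).map (𝟙 A ^ d)).left := by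
  rw [map_zpow_one]
  have : Smooth ((Over.pullback i).obj A).hom := by
    dsimp; infer_instance
  have : IsProper ((Over.pullback i).obj A).hom := by
    dsimp; infer_instance
  have : ConnectedSpace ((Over.pullback i).obj A).left := hc
  exact ⟨etale_zpow_field _ d hd, surjective_zpow_field _ d hd⟩

end

/-- On a smooth proper group scheme with connected fibres, the `d`-th power map is
étale if `d` is invertible on `S`. -/
theorem etale_zpow {S : Scheme.{u}} (A : Over S) [GrpObj A] [Smooth A.hom] [IsProper A.hom]
    (hA : ∀ s : S, ConnectedSpace ↥(A.hom.fiber s)) (d : ℤ)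
    (hd : ∀ s : S, (d : S.residueField s) ≠ 0) :
    Etale (𝟙 A ^ d).left := by
  refine Groth.Agent.UnramA.FibreFlat.etale_of_fibres A.hom A.hom _ (Over.w _) (fun s => ?_)
  have h1 : Etale ((Over.pullback (S.fromSpecResidueField s)).map (𝟙 A ^ d)).left :=
    (etale_surjective_pullback (K := S.residueField s) (S.fromSpecResidueField s) A (hA s) d (hd s)).1
  have h2 := (isPullback_pullback_map (S.fromSpecResidueField s) (𝟙 A ^ d)).flip
  have h3 : pullback.snd (𝟙 A ^ d).left (A.hom.fiberι s) =
      h2.isoPullback.inv ≫ ((Over.pullback (S.fromSpecResidueField s)).map (𝟙 A ^ d)).left := by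
    exact h2.isoPullback_inv_snd.symm
  rw [h3]
  have h4 : Etale h2.isoPullback.inv := inferInstance
  exact inferInstanceAs (Etale (h2.isoPullback.inv ≫ ((Over.pullback (S.fromSpecResidueField s)).map (𝟙 A ^ d)).left))

/-- On a smooth proper group scheme with connected fibres, the `d`-th power map is
surjective if `d` is invertible on `S`. -/
theorem surjective_zpow {S : Scheme.{u}} (A : Over S) [GrpObj A] [Smooth A.hom] [IsProper A.hom]
    (hA : ∀ s : S, ConnectedSpace ↥(A.hom.fiber s)) (d : ℤ)
    (hd : ∀ s : S, (d : S.residueField s) ≠ 0) :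
    Surjective (𝟙 A ^ d).left := by
  refine ⟨fun a => ?_⟩
  let s : S := A.hom a
  have h1 : Surjective ((Over.pullback (S.fromSpecResidueField s)).map (𝟙 A ^ d)).left :=
    (etale_surjective_pullback (K := S.residueField s) (S.fromSpecResidueField s) A (hA s) d (hd s)).2
  have h2 := isPullback_pullback_map (S.fromSpecResidueField s) (𝟙 A ^ d)
  have ha : a ∈ Set.range (A.hom.fiberι s) := by
    rw [Scheme.Hom.range_fiberι]; rfl
  obtain ⟨y, hy⟩ := ha
  obtain ⟨x, hx⟩ := h1.surj y
  refine ⟨pullback.fst A.hom (S.fromSpecResidueField s) x, ?_⟩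
  rw [← Scheme.Hom.comp_apply, ← h2.w, Scheme.Hom.comp_apply]
  exact (congrArg _ hx).trans hy

end K452.PowEt
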